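import Cfsg.Agent.Lib.Classical.TensorMaxSp.Main
import Cfsg.Agent.Lib.Classical.TensorMaxO.Matrix
import Cfsg.Agent.Lib.Classical.TensorMaxS.Matrix
import Cfsg.Agent.Lib.Classical.SympMatrix
import Cfsg.Agent.Lib.Classical.GSpMax

/-!
# The stabiliser of `Sp ⊗ O` is maximal in the symplectic group of odd characteristic
-/

set_option autoImplicit false
set_option linter.unusedSectionVars false
set_option backward.isDefEq.respectTransparency false

open Cfsg Matrix Module QuadraticMap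
open CfsgLib.Classical CfsgLib.Orth
open CfsgLib.Classical.TensorMax (IsTensor)

namespace CfsgLib.Classical.TensorMaxSp

variable {F : Type*} [Field F] [Fintype F]

/-- The stabiliser of the tensor decomposition is maximal in `Sp₂ₘ(F)`; a four-dimensional orthogonal factor beside
a symplectic plane must be of minus type. -/
theorem tensor_maximal_of (m : ℕ) (hodd : Odd (Fintype.card F)) {n₁ n₂ : ℕ} (hn₂ : 3 ≤ n₂)
    (hab : 4 ≤ n₁ ∨ 5 ≤ n₂ ∨ n₂ = 4) (hex : ¬ (Fintype.card F = 3 ∧ n₂ = 3)) (hm0 : 0 < m)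
    (e : (Fin m ⊕ Fin m) ≃ Fin n₁ × Fin n₂) (P : GL (Fin m ⊕ Fin m) F)
    {f₁ : (Fin n₁ → F) → (Fin n₁ → F) → F} {f₂ : (Fin n₂ → F) → (Fin n₂ → F) → F}
    (hf₁ : Cfsg.Geo.IsSymplecticForm f₁) (hf₂ : Cfsg.Geo.IsSymmetricForm f₂)
    (hT : Cfsg.Geo.IsTensorFormStructure id (Cfsg.sympForm m F) f₁ f₂ e P)
    (hplane : n₁ = 2 → n₂ = 4 → ∀ u v, u ≠ 0 → f₂ u u = 0 → f₂ v v = 0 → f₂ u v = 0 → v ∈ F ∙ u) :
    Cfsg.Geo.IsMaximalIn (Cfsg.spGL m F) (Cfsg.Geo.tensorProductSubgroup n₁ n₂ e P ⊓ Cfsg.spGL m F) := by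
  classical
  have h2 : (2 : F) ≠ 0 := by
    intro h0
    have hc : ringChar F = 2 := CharP.ringChar_of_prime_eq_zero Nat.prime_two (by exact_mod_cast h0)
    rw [← Nat.not_even_iff_odd, Nat.even_iff] at hodd
    exact hodd (FiniteField.even_card_of_char_two hc)
  obtain ⟨c, hc, hf⟩ := TensorNonMax.tmap_form e P (σ := id) (fun _ _ => rfl) hT
  set Φ := TensorMaxO.coordsI e P with hΦ
  set B : Matrix (Fin n₁) (Fin n₂) F →ₗ[F] Matrix (Fin n₁) (Fin n₂) F →ₗ[F] F :=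
    (sympBil F m).compl₁₂ Φ.toLinearMap Φ.toLinearMap with hB
  have hBv : ∀ X Y, sympBil F m (Φ X) (Φ Y) = B X Y := fun X Y => rfl
  have g1 : ∀ x y, Cfsg.Geo.formOfGram id (Cfsg.Geo.gramMatrix f₁) x y = f₁ x y :=
    TensorNonMax.gram_expand hf₁.bilinear.add_left hf₁.bilinear.smul_left hf₁.bilinear.add_right
      (fun t v x => hf₁.bilinear.smul_right t v x)
  have g2 : ∀ x y, Cfsg.Geo.formOfGram id (Cfsg.Geo.gramMatrix f₂) x y = f₂ x y :=
    TensorNonMax.gram_expand hf₂.bilinear.add_left hf₂.bilinear.smul_left hf₂.bilinear.add_right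
      (fun t v x => hf₂.bilinear.smul_right t v x)
  have hm : Model B (TensorMaxS.biForm c hf₁) (TensorMaxO.quadSym 1 hf₂) :=
    { two := h2
      altB := fun X => sympBil_isAlt m (Φ X)
      ndB := ⟨fun X hX => Φ.injective (((sympBil_nondegenerate m).1 (Φ X) fun y => by
          obtain ⟨Y, rfl⟩ := Φ.surjective y
          exact hX Y).trans (map_zero Φ).symm),
        fun X hX => Φ.injective (((sympBil_nondegenerate m).2 (Φ X) fun y => by
          obtain ⟨Y, rfl⟩ := Φ.surjective y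
          exact hX Y).trans (map_zero Φ).symm)⟩
      altf := TensorMaxS.biForm_alt c hf₁
      ndf := TensorMaxS.biForm_nondeg hc hf₁
      ndh := TensorMaxO.nondeg_quadSym h2 one_ne_zero hf₂
      pol := fun u u' w w' => by
        have e1 : ∀ u w, Φ (vecMulVec u w) = TensorNonMax.tmap e P u w := fun u w => rfl
        rw [← hBv, sympBil_apply, e1, e1, hf, g1, g2, TensorMaxS.biForm_apply, TensorMaxO.polar_quadSym h2, one_mul]
        ring }
  -- the dimensions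
  have hcard : m + m = n₁ * n₂ := by simpa using Fintype.card_congr e
  have ha0 : 0 < n₁ := Nat.pos_of_ne_zero fun h0 => by
    rw [h0, zero_mul] at hcard
    omega
  obtain ⟨i₁, hi₁⟩ := TensorMaxS.even_dim hm.altf hm.ndf
  have hab' : (4 ≤ n₁ ∧ 3 ≤ n₂) ∨ (n₁ = 2 ∧ 4 ≤ n₂ ∧ TensorMaxO.NoPlane (TensorMaxO.quadSym 1 hf₂)) := by
    by_cases h4 : 4 ≤ n₁
    · exact Or.inl ⟨h4, hn₂⟩
    refine Or.inr ⟨by omega, by omega, fun h4' u v hu hqu hqv huv => ?_⟩
    have key : ∀ x y, polar (TensorMaxO.quadSym 1 hf₂) x y = 0 → f₂ x y = 0 := fun x y h => by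
      rwa [TensorMaxO.polar_quadSym h2, one_mul] at h
    exact hplane (by omega) h4' u v hu (key u u (by rw [polar_self', hqu, mul_zero]))
      (key v v (by rw [polar_self', hqv, mul_zero])) (key u v huv)
  have hq : (∃ s : F, s ≠ 0 ∧ s * s ≠ 1) ∨ 4 ≤ n₂ := by
    refine or_iff_not_imp_left.2 fun hs => ?_
    push Not at hs
    by_contra h4
    have hsub : (Finset.univ : Finset F) ⊆ {0, 1, -1} := fun x _ => by
      by_cases hx : x = 0
      · simp [hx]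
      · rcases mul_self_eq_one_iff.1 (hs x hx) with h | h <;> simp [h]
    have h3 := (Finset.card_le_card hsub).trans Finset.card_le_three
    rw [Finset.card_univ] at h3
    have h1 : 1 < Fintype.card F := Fintype.one_lt_card
    refine hex ⟨?_, by omega⟩
    rcases hodd with ⟨k, hk⟩
    omega
  -- transfer
  let ι := isomGroupCongr Φ hBv
  let eG := ((spEquiv (F := F) (m := m)).symm.trans (spGLEquiv m))
  let ψ : isomGroup B →* GL (Fin m ⊕ Fin m) F :=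
    ((Cfsg.spGL m F).subtype.comp eG.toMonoidHom).comp ι.toMonoidHom
  have hψ : ∀ g p, (ψ g : Matrix (Fin m ⊕ Fin m) (Fin m ⊕ Fin m) F) *ᵥ Φ p = Φ (g.1 p) := fun g p => by
    change ((spEquiv (F := F) (m := m)).symm (ι g)).1.mulVec (Φ p) = Φ (g.1 p)
    rw [← spEquiv_apply, MulEquiv.apply_symm_apply]
    show Φ (g.1 (Φ.symm (Φ p))) = _
    rw [Φ.symm_apply_apply]
  have hψmem : ∀ g, ψ g ∈ Cfsg.spGL m F := fun g => Subtype.prop (eG (ι g))
  have hψs : ∀ t ∈ Cfsg.spGL m F, ∃ g, ψ g = t := fun t ht => ⟨ι.symm (eG.symm ⟨t, ht⟩), by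
    show ((eG (ι (ι.symm (eG.symm ⟨t, ht⟩)))) : GL (Fin m ⊕ Fin m) F) = t
    rw [MulEquiv.apply_symm_apply, MulEquiv.apply_symm_apply]⟩
  have hiff : ∀ g, ψ g ∈ Cfsg.Geo.tensorProductSubgroup n₁ n₂ e P ↔ IsTensor g.1 := fun g => by
    constructor
    · intro hmem
      obtain ⟨A, C, hAC⟩ := TensorNonMax.tmap_mul e P hmem
      exact TensorMax.isTensor_of_forall ha0 (by omega) _ fun w _ =>
        ⟨(C : Matrix _ _ F) *ᵥ w, fun u => ⟨(A : Matrix _ _ F) *ᵥ u, Φ.injective (by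
          rw [← hψ]
          exact hAC u w)⟩⟩
    · exact fun hg => TensorMaxO.mem_tensorProductSubgroup e P _ hg (hψ g)
  refine ⟨lt_of_le_not_ge inf_le_right fun h => ?_, fun M hM hMS => ?_⟩
  · obtain ⟨g, hg⟩ := hm.exists_not_tensor ha0 hn₂
    exact hg ((hiff g).1 (h (hψmem g)).1)
  · by_cases hMQ : M ≤ Cfsg.Geo.tensorProductSubgroup n₁ n₂ e P
    · exact Or.inl (le_antisymm (le_inf hMQ hMS) hM)
    obtain ⟨s, hs', hsD⟩ := SetLike.not_le_iff_exists.1 hMQ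
    obtain ⟨g, rfl⟩ := hψs s (hMS hs')
    have htop := hm.eq_top_of_not_tensor hab' hq (M := M.comap ψ) (fun t ht => hM ⟨(hiff t).2 ht, hψmem t⟩) (g := g)
      hs' (fun h => hsD ((hiff g).2 h))
    refine Or.inr (le_antisymm hMS fun t ht => ?_)
    obtain ⟨g', rfl⟩ := hψs t ht
    exact (htop ▸ Subgroup.mem_top g' : g' ∈ M.comap ψ)

/-- The stabiliser of the tensor decomposition is maximal in `Sp₂ₘ(F)`. -/
theorem tensor_maximal (m : ℕ) (hodd : Odd (Fintype.card F)) {n₁ n₂ : ℕ} (hn₂ : 3 ≤ n₂)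
    (hab : 4 ≤ n₁ ∨ 5 ≤ n₂) (hex : ¬ (Fintype.card F = 3 ∧ n₂ = 3)) (hm0 : 0 < m)
    (e : (Fin m ⊕ Fin m) ≃ Fin n₁ × Fin n₂) (P : GL (Fin m ⊕ Fin m) F)
    {f₁ : (Fin n₁ → F) → (Fin n₁ → F) → F} {f₂ : (Fin n₂ → F) → (Fin n₂ → F) → F}
    (hf₁ : Cfsg.Geo.IsSymplecticForm f₁) (hf₂ : Cfsg.Geo.IsSymmetricForm f₂)
    (hT : Cfsg.Geo.IsTensorFormStructure id (Cfsg.sympForm m F) f₁ f₂ e P) :
    Cfsg.Geo.IsMaximalIn (Cfsg.spGL m F) (Cfsg.Geo.tensorProductSubgroup n₁ n₂ e P ⊓ Cfsg.spGL m F) :=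
  tensor_maximal_of m hodd hn₂ (hab.imp_right Or.inl) hex hm0 e P hf₁ hf₂ hT fun h h' =>
    absurd hab (by omega)

end CfsgLib.Classical.TensorMaxSp
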