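import Cfsg.Agent.Lib.Classical.SympMax
import Cfsg.Agent.Lib.Classical.SympPairThree
import Cfsg.Agent.Lib.Classical.SpFourEven.Matrix
import Cfsg.Agent.Lib.KnownC.OrthTools

/-!
# Parts of the maximality statements for symplectic groups
-/

set_option autoImplicit false

open Cfsg

namespace CfsgLib.Classical.TensorMaxSp

/-- The stabiliser of a small non-degenerate subspace. -/
theorem nondeg_part {F : Type*} [Field F] [Fintype F] (m : ℕ) (W : Submodule F (Fin m ⊕ Fin m → F)) (hW0 : W ≠ ⊥) (hW : Cfsg.Geo.IsNondegenerateOn (Cfsg.sympForm m F) W) (hdim : Module.finrank F W < m) : Cfsg.Geo.IsMaximalIn (Cfsg.spGL m F) (Cfsg.Geo.subspaceStabilizer W ⊓ Cfsg.spGL m F) := by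
  have hN : CfsgLib.Classical.NondegOn (CfsgLib.Classical.sympBil F m) W := by
    rw [CfsgLib.Classical.nondegOn_iff]
    intro x hx hx'
    by_contra hne
    obtain ⟨y, hy, hyx⟩ := (hW x hx hne).1
    exact hyx (by rw [← CfsgLib.Classical.sympBil_apply]; exact hx' y hy)
  have hfr : Module.finrank F (Fin m ⊕ Fin m → F) = 2 * m := by simp [two_mul]
  refine CfsgLib.Classical.spGL_isMaximalIn m W hW0 ?_ fun M hM g hg hgW =>
    CfsgLib.Classical.top_of_stab_nondeg (CfsgLib.Classical.sympBil_isAlt m)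
      (CfsgLib.Classical.sympBil_nondegenerate m) hN (by omega) hM hg hgW
  rintro rfl
  rw [finrank_top] at hdim
  omega

/-- The stabiliser of two totally isotropic complements. -/
theorem pair_part {F : Type*} [Field F] [Fintype F] (m : ℕ) (hm : 3 ≤ m) (hodd : Odd (Fintype.card F)) (D : Fin 2 → Submodule F (Fin m ⊕ Fin m → F)) (hD : Cfsg.Geo.IsMDecomposition m D) (hts : ∀ i, Cfsg.Geo.IsTotallySingularFor (Cfsg.sympForm m F) (D i)) : Cfsg.Geo.IsMaximalIn (Cfsg.spGL m F) (Cfsg.Geo.decompositionStabilizer D ⊓ Cfsg.spGL m F) := by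
  classical
  let B := CfsgLib.Classical.sympBil F m
  have hA := CfsgLib.Classical.sympBil_isAlt (F := F) m
  have hN := CfsgLib.Classical.sympBil_nondegenerate (F := F) m
  have h2 : (2 : F) ≠ 0 := CfsgLib.KnownC.OrthTools.two_ne_zero_of_odd rfl hodd
  have h : CfsgLib.Classical.IsEpsForm B (1 : F) :=
    ⟨fun a => rfl, one_mul 1, rfl, fun x y => by rw [RingHom.id_apply, one_mul]; exact CfsgLib.Classical.alt_swap hA y x, hN.2,
      ⟨1, by simpa [one_add_one_eq_two] using h2⟩, ⟨1, one_ne_zero, by simp⟩⟩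
  have hP : CfsgLib.Classical.IsoPair B (D 0) (D 1) :=
    ⟨fun x hx y hy => by rw [CfsgLib.Classical.sympBil_apply]; exact hts 0 x hx y hy,
      fun x hx y hy => by rw [CfsgLib.Classical.sympBil_apply]; exact hts 1 x hx y hy,
      eq_top_iff.2 (hD.iSup_eq_top ▸ iSup_le (Fin.forall_fin_two.2 ⟨le_sup_left, le_sup_right⟩)),
      disjoint_iff.1 (hD.indep.pairwiseDisjoint (by decide : (0 : Fin 2) ≠ 1)),
      (hD.finrank_eq 0).trans (hD.finrank_eq 1).symm⟩
  have hS : ∀ (g : CfsgLib.Classical.isomGroup B) a b c, CfsgLib.Classical.IsRt (1 : F) g a b c → B b b = 0 →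
      g ∈ (⊤ : Subgroup (CfsgLib.Classical.isomGroup B)) := fun g _ _ _ _ _ => Subgroup.mem_top g
  have hk : 3 ≤ Module.finrank F (D 0) := by rw [hD.finrank_eq]; omega
  let e := ((CfsgLib.Classical.spEquiv (F := F) m).symm.trans (CfsgLib.Classical.spGLEquiv m))
  let ψ : CfsgLib.Classical.isomGroup B →* Matrix.GeneralLinearGroup (Fin m ⊕ Fin m) F :=
    (Cfsg.spGL m F).subtype.comp e.toMonoidHom
  have hψ : ∀ g, Matrix.toLin' (ψ g : Matrix (Fin m ⊕ Fin m) (Fin m ⊕ Fin m) F) = g.1.toLinearMap := fun g =>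
    LinearMap.ext fun x => by
      rw [Matrix.toLin'_apply]
      change ((CfsgLib.Classical.spEquiv (F := F) m).symm g).1.mulVec x = g.1 x
      rw [← CfsgLib.Classical.spEquiv_apply, MulEquiv.apply_symm_apply]
  have hψs : ∀ t ∈ Cfsg.spGL m F, ∃ g, ψ g = t := fun t ht => ⟨e.symm ⟨t, ht⟩, by
    simp only [ψ, MonoidHom.coe_comp, Function.comp_apply, MulEquiv.coe_toMonoidHom, MulEquiv.apply_symm_apply,
      Subgroup.coe_subtype]⟩
  have hiff : ∀ g : CfsgLib.Classical.isomGroup B, ψ g ∈ Cfsg.Geo.decompositionStabilizer D ↔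
      (((D 0).map g.1.toLinearMap = D 0 ∧ (D 1).map g.1.toLinearMap = D 1) ∨
        ((D 0).map g.1.toLinearMap = D 1 ∧ (D 1).map g.1.toLinearMap = D 0)) := fun g => by
    change (∃ σ : Equiv.Perm (Fin 2), ∀ i,
      (D i).map (Matrix.toLin' (ψ g : Matrix (Fin m ⊕ Fin m) (Fin m ⊕ Fin m) F)) = D (σ i)) ↔ _
    rw [hψ]
    exact CfsgLib.Classical.perm_two_iff D g.1.toLinearMap hP.inf
  refine ⟨lt_of_le_not_ge inf_le_right fun hle => ?_, fun M hM hMS => ?_⟩
  · obtain ⟨g, -, hg⟩ := h.exists_not_perm hP (by omega) hS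
    exact hg ((hiff g).1 (hle (Subtype.prop (e g))).1)
  · by_cases hMQ : M ≤ Cfsg.Geo.decompositionStabilizer D
    · exact Or.inl (le_antisymm (le_inf hMQ hMS) hM)
    obtain ⟨s, hs, hsD⟩ := SetLike.not_le_iff_exists.1 hMQ
    obtain ⟨g, rfl⟩ := hψs s (hMS hs)
    have hax := CfsgLib.Classical.IsoPair.pair_axes_three hP h hA h2 hk (M := M.comap ψ)
      (fun t ht => hM ⟨(hiff t).2 ht, Subtype.prop (e t)⟩) (g := g) hs (fun hh => hsD ((hiff g).2 hh))
    have htop : M.comap ψ = ⊤ := CfsgLib.Classical.eq_top_of_isAxis hA hN fun v c => hax v (-c) _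
      ⟨hA v, by simp, by simp, fun x => by
        rw [CfsgLib.Classical.tv_apply, CfsgLib.Classical.alt_swap hA x v]
        simp [B]⟩
    refine Or.inr (le_antisymm hMS fun t ht => ?_)
    obtain ⟨g', rfl⟩ := hψs t ht
    exact (htop ▸ Subgroup.mem_top g' : g' ∈ M.comap ψ)

theorem subfield_part {F : Type*} [Field F] [Fintype F] (m : ℕ) (hm : 3 ≤ m) (F₀ : Subfield F) (r : ℕ)
    (P : Matrix.GeneralLinearGroup (Fin m ⊕ Fin m) F) (ζ : F) (hr : r.Prime)
    (hc : Fintype.card F = Nat.card F₀ ^ r) (hζ : ζ ≠ 0)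
    (hP : Cfsg.Geo.IsFormRationalStructure (Cfsg.sympForm m F) F₀ ζ P) :
    Cfsg.Geo.IsMaximalIn (Cfsg.spGL m F) (Cfsg.Geo.subfieldSubgroup F₀ P ⊓ Cfsg.spGL m F) := by
  by_cases h2 : (2 : F) = 0
  · exact CfsgLib.Classical.SpFourEven.subfield_maximal (by omega) h2 F₀ r hr hc P ζ hζ hP
  · exact CfsgLib.Classical.SpFourEven.subfield_maximal_odd hm h2 F₀ r hr hc P ζ hζ hP

end CfsgLib.Classical.TensorMaxSp
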