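import Cfsg.Agent.Lib.Classical.TensorMaxSp.Basic

/-!
# Transvections along pure vectors generate the symplectic group
-/

set_option autoImplicit false
set_option linter.unusedSectionVars false

namespace CfsgLib.Classical.TensorMaxSp

open Matrix Module QuadraticMap CfsgLib.Orth CfsgLib.Classical
open CfsgLib.Classical.TensorMax (IsTensor)

variable {F : Type*} [Field F] {a b : ℕ} {B : Matrix (Fin a) (Fin b) F →ₗ[F] Matrix (Fin a) (Fin b) F →ₗ[F] F}
  {f : (Fin a → F) →ₗ[F] (Fin a → F) →ₗ[F] F} {qh : QuadraticForm F (Fin b → F)} {M : Subgroup (isomGroup B)}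

/-- Two non-zero functionals are both non-zero at some vector. -/
theorem exists_both_ne {V : Type*} [AddCommGroup V] [Module F V] (φ ψ : V →ₗ[F] F) (hφ : φ ≠ 0) (hψ : ψ ≠ 0) :
    ∃ d, φ d ≠ 0 ∧ ψ d ≠ 0 := by
  obtain ⟨x, hx⟩ := DFunLike.ne_iff.1 hφ
  obtain ⟨y, hy⟩ := DFunLike.ne_iff.1 hψ
  simp only [LinearMap.zero_apply] at hx hy
  by_cases h1 : ψ x = 0
  · by_cases h2 : φ y = 0
    · exact ⟨x + y, by simpa [h2] using hx, by simpa [h1] using hy⟩
    · exact ⟨y, h2, hy⟩
  · exact ⟨x, hx, h1⟩

/-- Two singular vectors are exchanged by isometries. -/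
theorem exists_map_singular (hQ : (polarBilin qh).Nondegenerate) {e w : Fin b → F} (he : qh e = 0)
    (he0 : e ≠ 0) (hw : qh w = 0) (hw0 : w ≠ 0) : ∃ C : orthGroup qh, C.1 e = w := by
  have hmove : ∀ {x y : Fin b → F}, qh x = 0 → qh y = 0 → polar qh x y ≠ 0 → (refl qh (x - y)).1 x = y :=
    fun {x y} hx hy hxy => refl_sub_apply qh (hx.trans hy.symm) (by
      rw [sub_eq_add_neg, quad_add', QuadraticMap.map_neg, polar_neg_right, hx, hy]
      simpa using hxy)
  by_cases h : polar qh e w = 0
  · have hne : ∀ {x : Fin b → F}, x ≠ 0 → polarBilin qh x ≠ 0 := fun {x} hx e' =>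
      hx (hQ.1 x fun y => LinearMap.congr_fun e' y)
    obtain ⟨d, hde, hdw⟩ := exists_both_ne _ _ (hne he0) (hne hw0)
    rw [QuadraticMap.polarBilin_apply_apply] at hde hdw
    set s := d + (-qh d / polar qh e d) • e with hs
    have hes : polar qh e s = polar qh e d := by
      rw [hs, polar_add_right, polar_smul_r', polar_self', he]; ring
    have hws : polar qh w s = polar qh w d := by
      rw [hs, polar_add_right, polar_smul_r', polar_comm _ w e, h]; ring
    have hqs : qh s = 0 := by
      rw [hs, quad_add', quad_smul', polar_smul_r', he, polar_comm _ d e, div_mul_cancel₀ _ hde]; ring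
    refine ⟨refl qh (s - w) * refl qh (e - s), ?_⟩
    show (refl qh (s - w)).1 ((refl qh (e - s)).1 e) = w
    rw [hmove he hqs (by rwa [hes]), hmove hqs hw (by rwa [polar_comm, hws])]
  · exact ⟨_, hmove he hw h⟩

namespace Model

variable (hm : Model B f qh) (hM : ContainsTensor M)
include hm hM

theorem axis_singular (hs : Start hm.altB M qh) (u : Fin a → F) {w : Fin b → F} (hw : qh w = 0) :
    IsAxis hm.altB M (vecMulVec u w) := by
  obtain ⟨u₀, e, hu₀, he0, he, hax⟩ := hs
  rcases eq_or_ne u 0 with rfl | hu
  · intro c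
    rw [show vecMulVec (0 : Fin a → F) w = (0 : F) • vecMulVec u₀ e by rw [zero_smul, zero_vecMulVec], tv_smul]
    exact hax _
  rcases eq_or_ne w 0 with rfl | hw0
  · intro c
    rw [show vecMulVec u (0 : Fin b → F) = (0 : F) • vecMulVec u₀ e by rw [zero_smul, TensorMax.vecMulVec_zero'], tv_smul]
    exact hax _
  obtain ⟨A, -, hA⟩ := tv_transitive hm.altf hm.ndf.1 hu₀ hu
  obtain ⟨C, hC⟩ := exists_map_singular hm.ndh he he0 hw hw0
  have h := (hax.map (hM _ (hm.col_tensor A))).map (hM _ (hm.row_tensor C))
  rwa [hm.col_pure, hm.row_pure, hA, hC] at h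

/-- Every vector of the span of two slices at a singular non-orthogonal pair is an axis. -/
theorem axis_plane (hs : Start hm.altB M qh) {e e' : Fin b → F} (he : qh e = 0) (he' : qh e' = 0)
    (hee : polar qh e e' ≠ 0) (u u' : Fin a → F) : IsAxis hm.altB M (vecMulVec u e + vecMulVec u' e') := by
  have hA := fun (u : Fin a → F) => hm.axis_singular hM hs u he
  have hA' := fun (u : Fin a → F) => hm.axis_singular hM hs u he'
  have key : ∀ x : Fin a → F, f u' x ≠ 0 → IsAxis hm.altB M (vecMulVec x e + vecMulVec u' e') := fun x hx => by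
    have h := (hA x).add (hA' u') (by rw [hm.pol, polar_comm _ e' e]; exact mul_ne_zero hx hee) 1
    rwa [one_smul, add_comm] at h
  by_cases hu : f u' u = 0
  swap
  · exact key u hu
  rcases eq_or_ne u' 0 with rfl | hu'
  · simpa using hA u
  obtain ⟨z, hz⟩ := alt_exists_partner hm.ndf.1 hu'
  have h := (hA z).add (key (u + z) (by rw [map_add, hu, hz, zero_add]; exact one_ne_zero)) (by
    simp only [map_add, LinearMap.add_apply, hm.pol, hz, polar_comm _ e' e, polar_self', he]
    simpa using hee) (-1)
  rwa [neg_one_smul, add_vecMulVec, add_right_comm, add_neg_cancel_right] at h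

theorem axis_pure [Fintype F] (hb : 3 ≤ b) (hs : Start hm.altB M qh) (u : Fin a → F) (w : Fin b → F) :
    IsAxis hm.altB M (vecMulVec u w) := by
  by_cases hw : qh w = 0
  · exact hm.axis_singular hM hs u hw
  have hw0 : w ≠ 0 := fun e => hw (by rw [e, QuadraticMap.map_zero])
  obtain ⟨e, he, hew⟩ := TensorMaxO.exists_singular_polar_ne hm.ndh hm.two (by rw [finrank_fin_fun]; exact hb) hw0
  set t := -qh w / polar qh e w with ht
  set e' := w + t • e with he'
  have hqe' : qh e' = 0 := by
    rw [he', quad_add', quad_smul', polar_smul_r', he, polar_comm _ w e, ht, div_mul_cancel₀ _ hew]; ring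
  have hee : polar qh e e' ≠ 0 := by
    rwa [he', polar_add_right, polar_smul_r', polar_self', he, mul_zero, mul_zero, add_zero]
  have h := hm.axis_plane hM hs he hqe' hee ((-t) • u) u
  rwa [he', vecMulVec_add, vecMulVec_smul, smul_vecMulVec, neg_smul, neg_add_cancel_comm_assoc] at h

/-- `M` is the whole group. -/
theorem eq_top [Fintype F] (hb : 3 ≤ b) (hs : Start hm.altB M qh) : M = ⊤ := by
  classical
  obtain ⟨u₀, -, hu₀, -⟩ := id hs
  haveI := invertibleOfNonzero hm.two
  obtain ⟨v, hv⟩ := LinearMap.BilinForm.exists_orthogonal_basis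
    (B := polarBilin qh) ⟨fun x y => QuadraticMap.polar_comm _ x y⟩
  have hvv : ∀ i, polar qh (v i) (v i) ≠ 0 := hv.not_isOrtho_basis_self_of_separatingLeft hm.ndh.1
  have hvo : ∀ i j, i ≠ j → polar qh (v i) (v j) = 0 := fun i j h => hv h
  have key : ∀ s : Finset (Fin (finrank F (Fin b → F))), ∀ y : Fin (finrank F (Fin b → F)) → Fin a → F,
      (∀ i ∉ s, y i = 0 ∨ y i = u₀) → IsAxis hm.altB M (∑ i, vecMulVec (y i) (v i)) := by
    intro s
    induction s using Finset.induction_on with
    | empty =>
      intro y hy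
      have e : ∑ i, vecMulVec (y i) (v i) = vecMulVec u₀ (∑ i, if y i = 0 then 0 else v i) := by
        rw [← TensorMaxU.sl1_apply, map_sum]
        refine Finset.sum_congr rfl fun i _ => ?_
        rcases hy i (Finset.notMem_empty i) with h | h
        · rw [if_pos h, h, zero_vecMulVec, map_zero]
        · rw [if_neg (by rw [h]; exact hu₀), h, TensorMaxU.sl1_apply]
      rw [e]
      exact hm.axis_pure hM hb hs u₀ _
    | insert j s hjs ih =>
      intro y hy
      by_cases hyj : y j = 0
      · exact ih y fun i hi => by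
          rcases eq_or_ne i j with rfl | hij
          · exact Or.inl hyj
          · exact hy i (by simp [hij, hi])
      -- changing the component at `j`
      have hmove : ∀ p q : Fin a → F, f p q ≠ 0 →
          IsAxis hm.altB M (∑ i, vecMulVec (Function.update y j p i) (v i)) →
          IsAxis hm.altB M (∑ i, vecMulVec (Function.update y j q i) (v i)) := by
        intro p q hpq hp
        have hB : B (∑ i, vecMulVec (Function.update y j p i) (v i)) (vecMulVec (q - p) (v j)) ≠ 0 := by
          rw [map_sum, LinearMap.sum_apply, Finset.sum_eq_single j]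
          · rw [hm.pol, Function.update_self, map_sub, hm.altf p, sub_zero]
            exact mul_ne_zero hpq (hvv j)
          · intro i _ hij
            rw [hm.pol, hvo i j hij, mul_zero]
          · simp
        have h := (hm.axis_pure hM hb hs (q - p) (v j)).add hp hB 1
        rw [one_smul] at h
        refine Eq.mp (congrArg _ ?_) h
        rw [← eq_sub_iff_add_eq', ← Finset.sum_sub_distrib, Finset.sum_eq_single j]
        · rw [Function.update_self, Function.update_self, ← sub_vecMulVec]
        · intro i _ hij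
          rw [Function.update_of_ne hij, Function.update_of_ne hij, sub_self]
        · simp
      have h0 : IsAxis hm.altB M (∑ i, vecMulVec (Function.update y j u₀ i) (v i)) := ih _ fun i hi => by
        rcases eq_or_ne i j with rfl | hij
        · simp
        · rw [Function.update_of_ne hij]; exact hy i (by simp [hij, hi])
      conv => arg 3; arg 2; ext i; rw [← Function.update_eq_self j y]
      by_cases hf : f u₀ (y j) = 0
      · obtain ⟨p, hp, hp'⟩ := exists_both_ne (f u₀) (f (y j))
          (fun e => hu₀ (hm.ndf.1 u₀ fun x => LinearMap.congr_fun e x))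
          (fun e => hyj (hm.ndf.1 (y j) fun x => LinearMap.congr_fun e x))
        exact hmove p _ (by rw [hm.fswap (y j) p]; exact neg_ne_zero.2 hp') (hmove u₀ p hp h0)
      · exact hmove u₀ _ hf h0
  refine eq_top_of_isAxis hm.altB hm.ndB fun X => ?_
  have hX : ∑ i, vecMulVec (fun r => v.repr (X r) i) (v i) = X := by
    ext r c
    simp only [Matrix.sum_apply, vecMulVec_apply]
    conv_rhs => rw [← v.sum_repr (X r)]
    simp
  rw [← hX]
  exact key Finset.univ _ fun i hi => absurd (Finset.mem_univ i) hi

end Model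

end CfsgLib.Classical.TensorMaxSp
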