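import Cfsg.Agent.Lib.Classical.TensorMaxO.Basic
import Cfsg.Agent.Lib.Classical.SympMax

/-!
# The tensor product of a symplectic and an orthogonal space of odd characteristic

The space is that of `a × b` matrices; `ct1 b f u X` pairs the columns of `X` with `u`.
-/

set_option autoImplicit false
set_option linter.unusedSectionVars false

namespace CfsgLib.Classical.TensorMaxSp

open Matrix Module QuadraticMap CfsgLib.Orth CfsgLib.Classical
open CfsgLib.Classical.TensorMax (IsTensor)
open CfsgLib.Classical.TensorMaxS (ct1 ct1_vecMulVec ct2 ct2_vecMulVec)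
open CfsgLib.Classical.TensorMaxO (ext_pure)
open CfsgLib.Classical.TensorMaxU (rowMap colMap rowMap_vecMulVec colMap_vecMulVec isTensor_rowMap
  isTensor_colMap sl1)

variable {F : Type*} [Field F] {a b : ℕ}

/-- An alternating form on matrices which is the product of an alternating and a symmetric form. -/
structure Model (B : Matrix (Fin a) (Fin b) F →ₗ[F] Matrix (Fin a) (Fin b) F →ₗ[F] F)
    (f : (Fin a → F) →ₗ[F] (Fin a → F) →ₗ[F] F) (qh : QuadraticForm F (Fin b → F)) : Prop where
  two : (2 : F) ≠ 0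
  altB : B.IsAlt
  ndB : B.Nondegenerate
  altf : f.IsAlt
  ndf : f.Nondegenerate
  ndh : (polarBilin qh).Nondegenerate
  pol : ∀ u u' w w', B (vecMulVec u w) (vecMulVec u' w') = f u u' * polar qh w w'

variable {B : Matrix (Fin a) (Fin b) F →ₗ[F] Matrix (Fin a) (Fin b) F →ₗ[F] F}
  {f : (Fin a → F) →ₗ[F] (Fin a → F) →ₗ[F] F} {qh : QuadraticForm F (Fin b → F)}

theorem mul_apply' (g k : isomGroup B) (X : Matrix (Fin a) (Fin b) F) : (g * k).1 X = g.1 (k.1 X) := rfl

theorem apply_inv_apply' (g : isomGroup B) (X : Matrix (Fin a) (Fin b) F) : g.1 ((g⁻¹).1 X) = X :=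
  g.1.apply_symm_apply X

theorem inv_apply_apply' (g : isomGroup B) (X : Matrix (Fin a) (Fin b) F) : (g⁻¹).1 (g.1 X) = X :=
  g.1.symm_apply_apply X

theorem not_isTensor_inv {g : isomGroup B} (hgT : ¬ IsTensor g.1) : ¬ IsTensor (g⁻¹).1 := fun hT =>
  hgT (by simpa using hT.inv)

theorem not_isTensor_mul {g k : isomGroup B} (hgT : ¬ IsTensor g.1) (hk : IsTensor k.1) :
    ¬ IsTensor (k * g).1 := fun hT => hgT (by
  have h : (k⁻¹ * (k * g) : isomGroup B) = g := inv_mul_cancel_left k g
  rw [← h]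
  exact hk.inv.mul hT)

theorem not_isTensor_mul_right {g k : isomGroup B} (hgT : ¬ IsTensor g.1) (hk : IsTensor k.1) :
    ¬ IsTensor (g * k).1 := fun hT => hgT (by
  have h : (g * k * k⁻¹ : isomGroup B) = g := mul_inv_cancel_right g k
  rw [← h]
  exact hT.mul hk.inv)

/-- Two vectors agree if they pair equally with every vector. -/
theorem eq_of_forall_polar (hQ : (polarBilin qh).Nondegenerate) {x y : Fin b → F}
    (e : ∀ w, polar qh w x = polar qh w y) : x = y :=
  sub_eq_zero.1 (hQ.2 _ fun w => by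
    rw [map_sub, QuadraticMap.polarBilin_apply_apply, QuadraticMap.polarBilin_apply_apply, e w, sub_self])

namespace Model

variable (hm : Model B f qh)
include hm

theorem fswap (u u' : Fin a → F) : f u' u = -f u u' := alt_swap hm.altf u' u

theorem left_eq (u : Fin a → F) (w : Fin b → F) (X : Matrix (Fin a) (Fin b) F) :
    B (vecMulVec u w) X = polar qh w (ct1 b f u X) :=
  LinearMap.congr_fun (ext_pure (φ := B (vecMulVec u w)) (ψ := polarBilin qh w ∘ₗ ct1 b f u) fun u' w' => by
    rw [LinearMap.comp_apply, ct1_vecMulVec, map_smul, QuadraticMap.polarBilin_apply_apply, hm.pol, smul_eq_mul]) X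

theorem right_eq (u : Fin a → F) (w : Fin b → F) (X : Matrix (Fin a) (Fin b) F) :
    B X (vecMulVec u w) = -polar qh w (ct1 b f u X) := by
  rw [alt_swap hm.altB, hm.left_eq]

theorem ct1_surj {u : Fin a → F} (hu : u ≠ 0) (x : Fin b → F) : ∃ X, ct1 b f u X = x := by
  obtain ⟨n, hn⟩ := alt_exists_partner hm.ndf.1 hu
  exact ⟨vecMulVec n x, by rw [ct1_vecMulVec, hn, one_smul]⟩

theorem preserves (g : Matrix (Fin a) (Fin b) F →ₗ[F] Matrix (Fin a) (Fin b) F)
    (hp : ∀ u u' w w', B (g (vecMulVec u w)) (g (vecMulVec u' w')) = f u u' * polar qh w w')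
    (X Y : Matrix (Fin a) (Fin b) F) : B (g X) (g Y) = B X Y :=
  LinearMap.congr_fun (LinearMap.congr_fun (ext_pure (φ := B.compl₁₂ g g) (ψ := B) fun u w => ext_pure fun u' w' =>
    (hp u u' w w').trans (hm.pol u u' w w').symm) X) Y

/-- A product of similitudes with inverse multipliers. -/
theorem exists_tensor (A : (Fin a → F) ≃ₗ[F] (Fin a → F)) (C : (Fin b → F) ≃ₗ[F] (Fin b → F))
    (h : ∀ u u' w w', f (A u) (A u') * polar qh (C w) (C w') = f u u' * polar qh w w') :
    ∃ g : isomGroup B, IsTensor g.1 ∧ ∀ u w, g.1 (vecMulVec u w) = vecMulVec (A u) (C w) :=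
  ⟨⟨colMap A * rowMap C, mem_isomGroup.2 fun X Y =>
      hm.preserves (colMap A * rowMap C : _ ≃ₗ[F] _).toLinearMap (fun u u' w w' => by
        simp only [LinearEquiv.coe_coe, LinearEquiv.mul_apply, rowMap_vecMulVec, colMap_vecMulVec]
        rw [hm.pol, h]) X Y⟩,
    (isTensor_colMap A).mul (isTensor_rowMap C), fun u w => by
      show colMap A (rowMap C (vecMulVec u w)) = _
      rw [rowMap_vecMulVec, colMap_vecMulVec]⟩

/-- Isometries of the first factor. -/
def col : isomGroup f →* isomGroup B where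
  toFun A := ⟨colMap A.1, mem_isomGroup.2 fun X Y => hm.preserves (colMap A.1).toLinearMap (fun u u' w w' => by
    simp [hm.pol, mem_isomGroup.1 A.2]) X Y⟩
  map_one' := rfl
  map_mul' _ _ := rfl

/-- Isometries of the second factor. -/
def row : orthGroup qh →* isomGroup B where
  toFun C := ⟨rowMap C.1, mem_isomGroup.2 fun X Y => hm.preserves (rowMap C.1).toLinearMap (fun u u' w w' => by
    simp [hm.pol, polar_isom]) X Y⟩
  map_one' := rfl
  map_mul' _ _ := rfl

theorem col_pure (A : isomGroup f) (u : Fin a → F) (w : Fin b → F) :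
    (hm.col A).1 (vecMulVec u w) = vecMulVec (A.1 u) w := colMap_vecMulVec A.1 u w

theorem row_pure (C : orthGroup qh) (u : Fin a → F) (w : Fin b → F) :
    (hm.row C).1 (vecMulVec u w) = vecMulVec u (C.1 w) := rowMap_vecMulVec C.1 u w

theorem col_tensor (A : isomGroup f) : IsTensor (hm.col A).1 := isTensor_colMap A.1
theorem row_tensor (C : orthGroup qh) : IsTensor (hm.row C).1 := isTensor_rowMap C.1

theorem ct1_col (A : isomGroup f) (u : Fin a → F) (X : Matrix (Fin a) (Fin b) F) :
    ct1 b f (A.1 u) ((hm.col A).1 X) = ct1 b f u X :=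
  LinearMap.congr_fun (ext_pure (φ := ct1 b f (A.1 u) ∘ₗ (hm.col A).1.toLinearMap) (ψ := ct1 b f u) fun u' w => by
    simp [hm.col_pure, mem_isomGroup.1 A.2]) X

theorem ct1_row (C : orthGroup qh) (u : Fin a → F) (X : Matrix (Fin a) (Fin b) F) :
    ct1 b f u ((hm.row C).1 X) = C.1 (ct1 b f u X) :=
  LinearMap.congr_fun (ext_pure (φ := ct1 b f u ∘ₗ (hm.row C).1.toLinearMap) (ψ := C.1.toLinearMap ∘ₗ ct1 b f u)
    fun u' w => by simp [hm.row_pure, map_smul]) X

/-- The root element `X ↦ X + μ u ⊗ ct1 u X`. -/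
def tau (u : Fin a → F) (μ : F) : isomGroup B := hm.col (tv hm.altf u (-μ))

theorem tau_tensor (u : Fin a → F) (μ : F) : IsTensor (hm.tau u μ).1 := hm.col_tensor _

theorem tau_apply (u : Fin a → F) (μ : F) (X : Matrix (Fin a) (Fin b) F) :
    (hm.tau u μ).1 X = X + μ • vecMulVec u (ct1 b f u X) :=
  LinearMap.congr_fun (ext_pure (φ := (hm.tau u μ).1.toLinearMap)
    (ψ := LinearMap.id + μ • (sl1 b u ∘ₗ ct1 b f u)) fun u' w => by
    simp only [LinearEquiv.coe_coe, tau, hm.col_pure, tv_apply, LinearMap.add_apply, LinearMap.id_apply,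
      LinearMap.smul_apply, LinearMap.comp_apply, TensorMaxU.sl1_apply, ct1_vecMulVec, hm.fswap u u',
      add_vecMulVec, smul_vecMulVec, vecMulVec_smul, smul_smul, neg_mul_neg]) X

theorem tau_mul (u : Fin a → F) (μ ν : F) : hm.tau u μ * hm.tau u ν = hm.tau u (μ + ν) := by
  rw [tau, tau, tau, ← map_mul, tv_mul, neg_add]

theorem tau_inv (u : Fin a → F) (μ : F) : (hm.tau u μ)⁻¹ = hm.tau u (-μ) :=
  inv_eq_of_mul_eq_one_right (by rw [hm.tau_mul, add_neg_cancel, tau, neg_zero, tv_zero, map_one])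

end Model

/-- `M` contains every tensor map. -/
def ContainsTensor (M : Subgroup (isomGroup B)) : Prop := ∀ g : isomGroup B, IsTensor g.1 → g ∈ M

/-- `M` has the element `X ↦ X + u ⊗ S (ct1 u X)`. -/
def Cent (M : Subgroup (isomGroup B)) (f : (Fin a → F) →ₗ[F] (Fin a → F) →ₗ[F] F) (u : Fin a → F)
    (S : (Fin b → F) →ₗ[F] (Fin b → F)) : Prop :=
  ∃ z ∈ M, ∀ X, z.1 X = X + vecMulVec u (S (ct1 b f u X))

/-- All transvections along one pure vector with a singular second factor. -/
def Start (hA : B.IsAlt) (M : Subgroup (isomGroup B)) (qh : QuadraticForm F (Fin b → F)) : Prop :=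
  ∃ (u : Fin a → F) (e : Fin b → F), u ≠ 0 ∧ e ≠ 0 ∧ qh e = 0 ∧ IsAxis hA M (vecMulVec u e)

end CfsgLib.Classical.TensorMaxSp
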