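import Cfsg.Agent.Lib.Classical.TensorMaxSp.Basic
import Cfsg.Agent.Lib.Classical.TensorMaxO.Rad

/-!
# A non-scalar element of the centre of a radical gives a transvection
-/

set_option autoImplicit false
set_option linter.unusedSectionVars false

namespace CfsgLib.Classical.TensorMaxSp

open Matrix Module QuadraticMap CfsgLib.Orth CfsgLib.Classical
open CfsgLib.Classical.TensorMax (IsTensor)
open CfsgLib.Classical.TensorMaxS (ct1 ct1_vecMulVec)

variable {F : Type*} [Field F] {a b : ℕ} {B : Matrix (Fin a) (Fin b) F →ₗ[F] Matrix (Fin a) (Fin b) F →ₗ[F] F}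
  {f : (Fin a → F) →ₗ[F] (Fin a → F) →ₗ[F] F} {qh : QuadraticForm F (Fin b → F)} {M : Subgroup (isomGroup B)}
  {u : Fin a → F} {S S₁ : (Fin b → F) →ₗ[F] (Fin b → F)}

/-- Every element of a finite field of odd characteristic is a sum of two squares. -/
theorem exists_sum_two_squares [Fintype F] (h2 : (2 : F) ≠ 0) (x : F) : ∃ r s : F, r * r + s * s = x := by
  have hF : ringChar F ≠ 2 := fun e => h2 (by
    have h := CharP.cast_eq_zero F (ringChar F)
    rw [e] at h
    exact_mod_cast h)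
  open Polynomial in
  obtain ⟨r, s, hrs⟩ := FiniteField.exists_root_sum_quadratic (f := (X ^ 2 : F[X]))
    (g := X ^ 2 - C x) (degree_X_pow 2) (degree_X_pow_sub_C (by decide) _)
    (FiniteField.odd_card_of_char_ne_two hF)
  refine ⟨r, s, ?_⟩
  simp at hrs
  linear_combination hrs

namespace Model

variable (hm : Model B f qh)
include hm

theorem cent_add (e : Cent M f u S) (e₁ : Cent M f u S₁) : Cent M f u (S + S₁) := by
  obtain ⟨z, hz, hX⟩ := e
  obtain ⟨z₁, hz₁, hX₁⟩ := e₁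
  refine ⟨z * z₁, M.mul_mem hz hz₁, fun X => ?_⟩
  rw [mul_apply', hX, hX₁, map_add, ct1_vecMulVec, hm.altf u, zero_smul, add_zero, LinearMap.add_apply,
    vecMulVec_add]
  abel

theorem cent_neg (e : Cent M f u S) : Cent M f u (-S) := by
  obtain ⟨z, hz, hX⟩ := e
  refine ⟨z⁻¹, M.inv_mem hz, fun X => z.1.injective ?_⟩
  rw [apply_inv_apply', hX, map_add, ct1_vecMulVec, hm.altf u, zero_smul, add_zero, LinearMap.neg_apply, add_assoc,
    ← vecMulVec_add, neg_add_cancel, TensorMax.vecMulVec_zero', add_zero]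

theorem cent_sub (e : Cent M f u S) (e₁ : Cent M f u S₁) : Cent M f u (S - S₁) := by
  rw [sub_eq_add_neg]
  exact hm.cent_add e (hm.cent_neg e₁)

theorem cent_id (hM : ContainsTensor M) (s : F) : Cent M f u (s • LinearMap.id) :=
  ⟨_, hM _ (hm.tau_tensor u s), fun X => by
    rw [hm.tau_apply, LinearMap.smul_apply, LinearMap.id_apply, vecMulVec_smul]⟩

theorem cent_row (hM : ContainsTensor M) (e : Cent M f u S) (C : orthGroup qh) :
    Cent M f u (C.1.toLinearMap ∘ₗ S ∘ₗ (C⁻¹).1.toLinearMap) := by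
  obtain ⟨z, hz, hX⟩ := e
  refine ⟨hm.row C * z * hm.row C⁻¹,
    M.mul_mem (M.mul_mem (hM _ (hm.row_tensor C)) hz) (hM _ (hm.row_tensor _)), fun X => ?_⟩
  rw [mul_apply', mul_apply', hX, map_add, ← mul_apply', ← map_mul, mul_inv_cancel, map_one, hm.row_pure,
    hm.ct1_row]
  rfl

theorem cent_scale (hM : ContainsTensor M) (hu : u ≠ 0) (e : Cent M f u S) (t : F) :
    Cent M f u ((t * t) • S) := by
  rcases eq_or_ne t 0 with rfl | ht
  · exact ⟨1, M.one_mem, fun X => by simp [TensorMax.vecMulVec_zero']⟩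
  obtain ⟨z, hz, hX⟩ := e
  obtain ⟨A, -, hA⟩ := tv_transitive hm.altf hm.ndf.1 hu (smul_ne_zero ht hu)
  refine ⟨hm.col A * z * hm.col A⁻¹,
    M.mul_mem (M.mul_mem (hM _ (hm.col_tensor A)) hz) (hM _ (hm.col_tensor _)), fun X => ?_⟩
  have h : ct1 b f u ((hm.col A⁻¹).1 X) = t • ct1 b f u X := by
    rw [← hm.ct1_col A u, ← mul_apply', ← map_mul, mul_inv_cancel, map_one, hA, map_smul]
    rfl
  rw [mul_apply', mul_apply', hX, map_add, ← mul_apply', ← map_mul, mul_inv_cancel, map_one, hm.col_pure, hA, h,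
    map_smul, LinearMap.smul_apply, smul_vecMulVec, vecMulVec_smul, vecMulVec_smul, smul_smul]
  rfl

variable [Fintype F]

theorem cent_smul (hM : ContainsTensor M) (hu : u ≠ 0) (e : Cent M f u S) (c : F) : Cent M f u (c • S) := by
  obtain ⟨r, s, rfl⟩ := exists_sum_two_squares hm.two c
  rw [add_smul]
  exact hm.cent_add (hm.cent_scale hM hu e r) (hm.cent_scale hM hu e s)

/-- A non-scalar central element gives a transvection. -/
theorem start_of_cent (hM : ContainsTensor M) (hb : 3 ≤ b) (hq : (∃ s : F, s ≠ 0 ∧ s * s ≠ 1) ∨ 4 ≤ b)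
    (hu : u ≠ 0) (e : Cent M f u S) (hns : ¬ ∃ l : F, S = l • LinearMap.id) : Start hm.altB M qh := by
  have hsym : ∀ x y, polar qh (S x) y = polar qh x (S y) := by
    obtain ⟨z, -, hX⟩ := e
    intro x y
    obtain ⟨n, hn⟩ := alt_exists_partner hm.ndf.1 hu
    have h := mem_isomGroup.1 z.2 (vecMulVec n x) (vecMulVec n y)
    rw [hX, hX] at h
    simp only [map_add, LinearMap.add_apply, ct1_vecMulVec, hn, one_smul, hm.pol, hm.altf n, hm.altf u,
      hm.fswap u n] at h
    linear_combination h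
  obtain ⟨e₀, he, hτ⟩ : ∃ e₀, qh e₀ = 0 ∧ polar qh e₀ (S e₀) ≠ 0 := by
    by_contra! hall
    exact hns (TensorMaxO.scalar_of_singular_form hm.ndh hm.two (by rwa [finrank_fin_fun])
      (by rwa [finrank_fin_fun]) S hsym hall)
  have he0 : e₀ ≠ 0 := fun h0 => hτ (by rw [h0, polar_zero_left])
  set τ := polar qh e₀ (S e₀)
  have hD : ∀ z, polar qh e₀ z = 0 → ∃ D : (Fin b → F) →ₗ[F] (Fin b → F), Cent M f u D ∧
      ∀ x, D x = (2 : F) • ((-(qh z * polar qh e₀ (S x))) • e₀ - (qh z * polar qh e₀ x) • S e₀ +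
        (qh z * qh z * polar qh e₀ x * polar qh e₀ (S e₀)) • e₀ -
          ((polar qh e₀ x * polar qh e₀ (S z) - polar qh z x * polar qh e₀ (S e₀)) • z -
            (polar qh e₀ x * polar qh z (S z) - polar qh z x * polar qh z (S e₀)) • e₀)) := by
    intro z hz
    obtain ⟨A, hA⟩ := exists_isSiegel hm.ndh he hz
    obtain ⟨A', hA'⟩ := exists_isSiegel hm.ndh he (show polar qh e₀ (-z) = 0 by rw [polar_neg_right, hz, neg_zero])
    refine ⟨_, hm.cent_sub (hm.cent_add (hm.cent_row hM e A) (hm.cent_row hM e A'))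
      (hm.cent_smul hM hu e 2), fun x => ?_⟩
    rw [TensorMaxO.siegel_pair hA hA', TensorMaxO.siegel_pair hA' (by rwa [neg_neg]), ← TensorMaxO.second_diff hA hA']
    rfl
  set Q₁ : (Fin b → F) →ₗ[F] (Fin b → F) := (polarBilin qh e₀).smulRight e₀ with hQ₁
  obtain ⟨k, hk, eQ⟩ : ∃ k : F, k ≠ 0 ∧ Cent M f u (k • Q₁) := by
    rcases hq with ⟨s, hs0, hs1⟩ | hq4
    · obtain ⟨z, hez, hqz⟩ := TensorMaxO.exists_anisotropic_in hm.ndh (S := LinearMap.ker (polarBilin qh e₀))
        (by have := TensorMaxO.finrank_kerPolar (Q := qh) e₀; rw [finrank_fin_fun] at *; omega)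
      rw [TensorMaxO.mem_ker_polar] at hez
      obtain ⟨D, eD, hDx⟩ := hD z hez
      obtain ⟨D', eD', hD'x⟩ := hD (s • z) (by rw [polar_smul_r', hez, mul_zero])
      refine ⟨2 * (s * s) * (s * s - 1) * (qh z * qh z) * τ, ?_, ?_⟩
      · exact mul_ne_zero (mul_ne_zero (mul_ne_zero (mul_ne_zero hm.two (mul_ne_zero hs0 hs0)) (sub_ne_zero.2 hs1))
          (mul_ne_zero hqz hqz)) hτ
      refine Eq.mp (congrArg _ ?_) (hm.cent_sub eD' (hm.cent_smul hM hu eD (s * s)))
      refine LinearMap.ext fun x => ?_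
      simp only [hQ₁, LinearMap.sub_apply, LinearMap.smul_apply, LinearMap.smulRight_apply,
        QuadraticMap.polarBilin_apply_apply, hDx, hD'x, quad_smul', polar_smul_l', polar_smul_r', map_smul]
      module
    · obtain ⟨z₁, z₂, h1, h2, h12, hq1, hq2⟩ :=
        TensorMaxO.exists_anisotropic_two hm.ndh hm.two (by rwa [finrank_fin_fun]) he
      obtain ⟨D₁, eD₁, hD₁⟩ := hD z₁ h1
      obtain ⟨D₂, eD₂, hD₂⟩ := hD z₂ h2
      obtain ⟨D₃, eD₃, hD₃⟩ := hD (z₁ + z₂) (by rw [polar_add_right, h1, h2, add_zero])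
      obtain ⟨D₄, eD₄, hD₄⟩ := hD (z₁ + -z₂) (by rw [polar_add_right, polar_neg_right, h1, h2]; simp)
      refine ⟨2 * (2 * 2) * (qh z₁ * qh z₂) * τ, ?_, ?_⟩
      · exact mul_ne_zero (mul_ne_zero (mul_ne_zero hm.two (mul_ne_zero hm.two hm.two)) (mul_ne_zero hq1 hq2)) hτ
      refine Eq.mp (congrArg _ ?_) (hm.cent_sub (hm.cent_sub (hm.cent_sub (hm.cent_add eD₃ eD₄) eD₁) eD₁)
        (hm.cent_smul hM hu eD₂ 2))
      refine LinearMap.ext fun x => ?_
      simp only [hQ₁, LinearMap.sub_apply, LinearMap.add_apply, LinearMap.smul_apply, LinearMap.smulRight_apply,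
        QuadraticMap.polarBilin_apply_apply, hD₁, hD₂, hD₃, hD₄, quad_add', QuadraticMap.map_neg, polar_neg_right,
        polar_neg_left, polar_add_left, polar_add_right, h12, map_add, map_neg]
      module
  refine ⟨u, e₀, hu, he0, he, fun c => ?_⟩
  obtain ⟨w, hw, hX⟩ := hm.cent_smul hM hu eQ (-c / k)
  rwa [show tv hm.altB (vecMulVec u e₀) c = w from Subtype.ext (LinearEquiv.ext fun X => by
    rw [tv_apply, hX, hm.right_eq, smul_smul, div_mul_cancel₀ _ hk, hQ₁, LinearMap.smul_apply,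
      LinearMap.smulRight_apply, QuadraticMap.polarBilin_apply_apply, smul_smul, vecMulVec_smul]
    module)]

end Model

end CfsgLib.Classical.TensorMaxSp
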