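import Cfsg.Agent.Lib.Classical.TensorMaxSp.Radical

/-!
# An element mapping a slice onto a slice
-/

set_option autoImplicit false
set_option linter.unusedSectionVars false

namespace CfsgLib.Classical.TensorMaxSp

open Matrix Module QuadraticMap CfsgLib.Orth CfsgLib.Classical
open CfsgLib.Classical.TensorMax (IsTensor)
open CfsgLib.Classical.TensorMaxS (ct1 ct1_vecMulVec ct2 ct2_vecMulVec)

variable {F : Type*} [Field F] [Fintype F] {a b : ℕ}
  {B : Matrix (Fin a) (Fin b) F →ₗ[F] Matrix (Fin a) (Fin b) F →ₗ[F] F}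
  {f : (Fin a → F) →ₗ[F] (Fin a → F) →ₗ[F] F} {qh : QuadraticForm F (Fin b → F)} {M : Subgroup (isomGroup B)}

namespace Model

variable (hm : Model B f qh) (hM : ContainsTensor M) (hb : 3 ≤ b)
  (hq : (∃ s : F, s ≠ 0 ∧ s * s ≠ 1) ∨ 4 ≤ b)
include hm hM hb hq

/-- An element mapping a slice onto itself is a tensor map or gives a transvection. -/
theorem start_or_tensor_of_fix {u n : Fin a → F} (hun : f u n = 1) {g : isomGroup B} (hg : g ∈ M)
    (hgJ : ∀ x, ∃ y, g.1 (vecMulVec u x) = vecMulVec u y) : Start hm.altB M qh ∨ IsTensor g.1 := by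
  classical
  have hu : u ≠ 0 := fun e => by rw [e, map_zero, LinearMap.zero_apply] at hun; exact zero_ne_one hun
  have hnu : f n u = -1 := by rw [hm.fswap u n, hun]
  refine or_iff_not_imp_left.2 fun hno => ?_
  set L : (Fin b → F) →ₗ[F] (Fin b → F) := -(ct1 b f n ∘ₗ g.1.toLinearMap ∘ₗ TensorMaxU.sl1 b u) with hL
  have hgL : ∀ x, g.1 (vecMulVec u x) = vecMulVec u (L x) := fun x => by
    obtain ⟨y, hy⟩ := hgJ x
    rw [hy]
    congr 1
    simp [hL, hy, hnu]
  have hLi : Function.Injective L := (injective_iff_map_eq_zero _).2 fun x hx =>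
    TensorMaxU.sl1_injective (b := b) hu (by
      rw [map_zero]
      exact g.1.map_eq_zero_iff.1 (show g.1 (vecMulVec u x) = 0 by rw [hgL, hx, TensorMax.vecMulVec_zero']))
  have hLs := LinearMap.injective_iff_surjective.1 hLi
  set L' := TensorMaxS.adj hm.ndh L with hL'
  have hadj : ∀ y x, polar qh (L' y) x = polar qh y (L x) := fun y x => TensorMaxS.adj_left hm.ndh L y x
  have hJ' : ∀ X, ct1 b f u ((g⁻¹).1 X) = L' (ct1 b f u X) := fun X => eq_of_forall_polar hm.ndh fun x => by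
    rw [← hm.left_eq, ← mem_isomGroup.1 g.2, apply_inv_apply', hgL, hm.left_eq, polar_comm _ x (L' _), hadj,
      polar_comm]
  have hc0 : Cent M f u (L ∘ₗ L') := ⟨g * hm.tau u 1 * g⁻¹,
    M.mul_mem (M.mul_mem hg (hM _ (hm.tau_tensor _ _))) (M.inv_mem hg), fun X => by
      rw [mul_apply', mul_apply', hm.tau_apply, map_add, apply_inv_apply', one_smul, hgL, hJ']
      rfl⟩
  obtain ⟨c, hLL⟩ : ∃ c : F, L ∘ₗ L' = c • LinearMap.id := by
    by_contra hns
    exact hno (hm.start_of_cent hM hb hq hu hc0 hns)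
  have hLL' : ∀ x, L (L' x) = c • x := fun x => LinearMap.congr_fun hLL x
  have hL's : Function.Surjective L' := LinearMap.injective_iff_surjective.1 ((injective_iff_map_eq_zero _).2
    fun y hy => hm.ndh.1 y fun x => by
      obtain ⟨x, rfl⟩ := hLs x
      rw [QuadraticMap.polarBilin_apply_apply, ← hadj, hy, polar_zero_left])
  obtain ⟨x₀, -, hx₀⟩ := TensorMaxO.exists_anisotropic_in hm.ndh (S := ⊤) (by rw [finrank_top, finrank_fin_fun]; omega)
  have hx₀' : polar qh x₀ x₀ ≠ 0 := by rw [polar_self']; exact mul_ne_zero hm.two hx₀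
  have hx₀0 : x₀ ≠ 0 := fun e => hx₀ (by rw [e, QuadraticMap.map_zero])
  have hc : c ≠ 0 := fun e => by
    obtain ⟨y, hy⟩ := hL's x₀
    have h := hLL' y
    rw [hy, e, zero_smul] at h
    exact hx₀0 ((injective_iff_map_eq_zero _).1 hLi _ h)
  have hiso : ∀ x y, polar qh (L x) (L y) = c * polar qh x y := fun x y => by
    obtain ⟨x, rfl⟩ := hL's x
    rw [hLL', polar_smul_l', hadj]
  -- the map on the orthogonal of `u`
  have hcl : ∀ z, f u z = 0 → f n z = 0 → ∃ z', ∀ x, ∃ y, g.1 (vecMulVec z x) = vecMulVec z' (L x) + vecMulVec u y := by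
    intro z hz1 hz2
    set A := tv hm.altf (u + z) (-1) * tv hm.altf u 1 * tv hm.altf z 1
    have hA : ∀ v, A.1 v = v + f u v • z + f z v • u := fun v => by
      show (tv hm.altf (u + z) (-1)).1 ((tv hm.altf u 1).1 ((tv hm.altf z 1).1 v)) = _
      simp only [tv_apply, map_add, map_smul, LinearMap.add_apply, LinearMap.smul_apply, hm.altf u, hm.altf z, hz1,
        hm.fswap u z, hm.fswap u v, hm.fswap z v, smul_eq_mul, mul_zero, add_zero, neg_zero]
      module
    have hE : ∀ Y, (hm.col A).1 Y = Y + vecMulVec z (ct1 b f u Y) + vecMulVec u (ct1 b f z Y) := fun Y =>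
      LinearMap.congr_fun (TensorMaxO.ext_pure (φ := (hm.col A).1.toLinearMap)
        (ψ := LinearMap.id + TensorMaxU.sl1 b z ∘ₗ ct1 b f u + TensorMaxU.sl1 b u ∘ₗ ct1 b f z) fun v w => by
          simp [hm.col_pure, hA, add_vecMulVec, smul_vecMulVec, vecMulVec_smul]) Y
    set k := g * hm.col A * g⁻¹ with hk
    have hkM : k ∈ M := M.mul_mem (M.mul_mem hg (hM _ (hm.col_tensor A))) (M.inv_mem hg)
    have hk' : ∀ Y, k.1 Y = Y + g.1 (vecMulVec z (L' (ct1 b f u Y))) + vecMulVec u (L (ct1 b f z ((g⁻¹).1 Y))) :=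
      fun Y => by rw [hk, mul_apply', mul_apply', hE, map_add, map_add, apply_inv_apply', hJ', hgL]
    have hperp : ∀ x, ct1 b f u (g.1 (vecMulVec z x)) = 0 := fun x => eq_of_forall_polar hm.ndh fun w => by
      obtain ⟨w, rfl⟩ := hLs w
      rw [← hm.left_eq, ← hgL, mem_isomGroup.1 g.2, hm.pol, hz1, zero_mul, polar_zero_right]
    set Φ : (Fin b → F) →ₗ[F] Matrix (Fin a) (Fin b) F := g.1.toLinearMap ∘ₗ TensorMaxU.sl1 b z ∘ₗ L' with hΦ
    have hrad : IsRad k f u n Φ := by
      refine ⟨fun x => ?_, fun w => hperp _, fun Y hY => ⟨L (ct1 b f z ((g⁻¹).1 Y)), ?_⟩, fun w => ⟨L (ct1 b f z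
        ((g⁻¹).1 (vecMulVec n w))), ?_⟩⟩
      · obtain ⟨x', rfl⟩ := hLs x
        rw [hk', ← hgL, inv_apply_apply', ct1_vecMulVec, hgL, ct1_vecMulVec, hm.altf u, hm.fswap u z, hz1]
        simp [TensorMax.vecMulVec_zero']
      · rw [hk', hY, map_zero, TensorMax.vecMulVec_zero', map_zero, add_zero]
      · rw [hk', ct1_vecMulVec, hun, one_smul]
        rfl
    have hkT := (hm.start_or_tensor_of_isRad hM hb hq hun hkM hrad).resolve_left hno
    obtain ⟨A', C', hA', hC', hAC⟩ := TensorMaxU.tensor_pure hkT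
    have hfix : ∀ w, f n (A' u) • C' w = -w := fun w => by
      have h := congrArg (ct1 b f n) ((hAC u w).symm.trans (hrad.fix w))
      rwa [ct1_vecMulVec, ct1_vecMulVec, hnu, neg_one_smul] at h
    have hs : f n (A' u) ≠ 0 := fun e => hx₀0 (by
      have h := hfix x₀
      rw [e, zero_smul] at h
      exact neg_eq_zero.1 h.symm)
    refine ⟨c⁻¹ • ((-(f n (A' u))⁻¹) • A' n - n), fun x => ?_⟩
    obtain ⟨y, hy⟩ := hrad.phi (L x)
    refine ⟨-(c⁻¹ • y), ?_⟩
    have hC : C' (L x) = (-(f n (A' u))⁻¹) • L x := by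
      rw [neg_smul, ← smul_neg, ← hfix (L x), inv_smul_smul₀ hs]
    have hL'L : L' (L x) = c • x := hLi (by rw [hLL', map_smul])
    rw [hAC, hC, hΦ, LinearMap.comp_apply, LinearMap.comp_apply, TensorMaxU.sl1_apply, hL'L] at hy
    apply smul_right_injective _ hc
    simp only [LinearEquiv.coe_coe, vecMulVec_smul, map_smul] at hy ⊢
    simp only [smul_add, smul_vecMulVec, sub_vecMulVec, smul_sub, smul_smul, mul_inv_cancel_left₀ hc,
      mul_inv_cancel₀ hc, one_smul, show vecMulVec u (-(c⁻¹ • y)) = -(c⁻¹ • vecMulVec u y) from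
        (map_neg (TensorMaxU.sl1 b u) _).trans (congrArg Neg.neg (map_smul (TensorMaxU.sl1 b u) _ _)), smul_neg]
    rw [hy]
    abel
  -- a similitude of the first factor
  obtain ⟨d, hd⟩ : ∃ d, polar qh d (L x₀) = 1 := by
    have h : L x₀ ≠ 0 := fun e => hx₀0 ((injective_iff_map_eq_zero _).1 hLi _ e)
    obtain ⟨d, -, hd⟩ := exists_polar_one hm.ndh (W := ⊥) (show L x₀ ∉ (⊥ : Submodule F (Fin b → F)) by simpa using h)
    exact ⟨d, hd⟩
  set π : (Fin a → F) →ₗ[F] (Fin a → F) := LinearMap.id - (f u).smulRight n with hπ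
  have hπu : ∀ v, f u (π v) = 0 := fun v => by simp [hπ, hun]
  set A₁ : (Fin a → F) →ₗ[F] (Fin a → F) := ct2 a (polarBilin qh) d ∘ₗ g.1.toLinearMap ∘ₗ TensorMaxU.sl2 a x₀ with hA₁
  have hA₁u : A₁ u = u := by simp [hA₁, hgL, hd]
  have hA₁x : ∀ z, f u z = 0 → ∀ x, ∃ y, g.1 (vecMulVec z x) = vecMulVec (A₁ z) (L x) + vecMulVec u y := by
    intro z hz x
    set z₁ := z + f n z • u with hz₁
    obtain ⟨z', hz'⟩ := hcl z₁ (by simp [hz₁, hz, hm.altf u]) (by simp [hz₁, hnu])
    have hzx : ∀ x, ∃ y, g.1 (vecMulVec z x) = vecMulVec (z' - f n z • u) (L x) + vecMulVec u y := fun x => by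
      obtain ⟨y, hy⟩ := hz' x
      refine ⟨y, ?_⟩
      rw [hz₁, add_vecMulVec, map_add, smul_vecMulVec, map_smul, hgL] at hy
      rw [sub_vecMulVec, smul_vecMulVec]
      linear_combination (norm := module) hy
    obtain ⟨y₀, hy₀⟩ := hzx x₀
    obtain ⟨y, hy⟩ := hzx x
    have hA : A₁ z = z' - f n z • u + polar qh d y₀ • u := by
      show ct2 a (polarBilin qh) d (g.1 (vecMulVec z x₀)) = _
      rw [hy₀, map_add, ct2_vecMulVec, ct2_vecMulVec, QuadraticMap.polarBilin_apply_apply,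
        QuadraticMap.polarBilin_apply_apply, hd, one_smul]
    refine ⟨y - polar qh d y₀ • L x, ?_⟩
    rw [hy, hA, show vecMulVec u (y - polar qh d y₀ • L x) = vecMulVec u y - vecMulVec u (polar qh d y₀ • L x) from
      map_sub (TensorMaxU.sl1 b u) _ _, add_vecMulVec, smul_vecMulVec, vecMulVec_smul]
    abel
  have hfu : ∀ z, f u z = 0 → f u (A₁ z) = 0 := fun z hz => by
    obtain ⟨y, hy⟩ := hA₁x z hz x₀
    have h := mem_isomGroup.1 g.2 (vecMulVec u x₀) (vecMulVec z x₀)
    rw [hgL, hy, map_add, hm.pol, hm.pol, hm.altf u, hm.pol, hz, zero_mul, zero_mul, add_zero, hiso] at h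
    exact (mul_eq_zero.1 h).resolve_right (mul_ne_zero hc hx₀')
  have hA₁f : ∀ z z', f u z = 0 → f u z' = 0 → f (A₁ z) (A₁ z') * c = f z z' := fun z z' hz hz' => by
    obtain ⟨y, hy⟩ := hA₁x z hz x₀
    obtain ⟨y', hy'⟩ := hA₁x z' hz' x₀
    have h := mem_isomGroup.1 g.2 (vecMulVec z x₀) (vecMulVec z' x₀)
    rw [hy, hy'] at h
    simp only [map_add, LinearMap.add_apply, hm.pol, hiso, hm.altf u, hfu z' hz', hm.fswap u (A₁ z), hfu z hz, neg_zero,
      zero_mul, add_zero] at h
    exact mul_right_cancel₀ hx₀' (by linear_combination h)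
  set A₀ := A₁ ∘ₗ π + (f u).smulRight n with hA₀
  have hA₀u : ∀ v, f u (A₀ v) = f u v := fun v => by simp [hA₀, hfu _ (hπu v), hun]
  have hA₀i : Function.Injective A₀ := (injective_iff_map_eq_zero _).2 fun v hv => by
    have h0 : f u v = 0 := by rw [← hA₀u, hv, map_zero]
    have hπv : π v = v := by simp [hπ, h0]
    have h1 : A₁ v = 0 := by simpa [hA₀, hπv, h0] using hv
    have h2 : ∀ w, f u w = 0 → f v w = 0 := fun w hw => by rw [← hA₁f v w h0 hw, h1, map_zero, LinearMap.zero_apply, zero_mul]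
    have h3 : v = f v n • u := sub_eq_zero.1 (hm.ndf.1 _ fun w => by
      have h := h2 (π w) (hπu w)
      simp [hπ] at h
      simp
      linear_combination h)
    have h4 := congrArg A₁ h3
    rw [h1, map_smul, hA₁u] at h4
    rw [h3, (smul_eq_zero.1 h4.symm).resolve_right hu, zero_smul]
  set e₀ := LinearEquiv.ofInjectiveEndo A₀ hA₀i
  obtain ⟨n', hn'⟩ := (LinearMap.BilinForm.toDual f hm.ndf).surjective (c⁻¹ • (f n ∘ₗ π ∘ₗ e₀.symm.toLinearMap))
  have hn'z : ∀ z, f u z = 0 → f n' (A₁ z) = c⁻¹ * f n z := fun z hz => by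
    have hπz : π z = z := by simp [hπ, hz]
    have he : e₀ z = A₁ z := by show A₀ z = _; simp [hA₀, hπz, hz]
    rw [show f n' (A₁ z) = LinearMap.BilinForm.toDual f hm.ndf n' (A₁ z) from rfl, hn', ← he]
    simp [hπz]
  set A := A₁ ∘ₗ π + (f u).smulRight n' with hA
  have hdec : ∀ v, ∃ z s, f u z = 0 ∧ v = z + s • n ∧ A v = A₁ z + s • n' := fun v =>
    ⟨π v, f u v, hπu v, by simp [hπ], by simp [hA]⟩
  have hAf : ∀ v v', f (A v) (A v') = c⁻¹ * f v v' := fun v v' => by
    obtain ⟨z, s, hz, rfl, hv⟩ := hdec v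
    obtain ⟨z', s', hz', rfl, hv'⟩ := hdec v'
    rw [hv, hv']
    simp only [map_add, map_smul, LinearMap.add_apply, LinearMap.smul_apply, smul_eq_mul, hm.altf n, hm.altf n',
      hn'z z' hz', hm.fswap n' (A₁ z), hn'z z hz, hm.fswap n z]
    have h := hA₁f z z' hz hz'
    rw [← eq_mul_inv_iff_mul_eq₀ hc] at h
    rw [h]
    ring
  have hAi : Function.Injective A := (injective_iff_map_eq_zero _).2 fun v hv => hm.ndf.1 v fun v' => by
    have h := hAf v v'
    rw [hv, map_zero, LinearMap.zero_apply] at h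
    exact (mul_eq_zero.1 h.symm).resolve_left (inv_ne_zero hc)
  obtain ⟨T, hTt, hT⟩ := hm.exists_tensor (LinearEquiv.ofInjectiveEndo A hAi) (LinearEquiv.ofInjectiveEndo L hLi)
    fun v v' w w' => by
      show f (A v) (A v') * polar qh (L w) (L w') = _
      rw [hAf, hiso]
      field_simp
  have hT' : ∀ v w, T.1 (vecMulVec v w) = vecMulVec (A v) (L w) := hT
  have hAu : A u = u := by
    have : π u = u := by simp [hπ, hm.altf u]
    simp [hA, this, hA₁u, hm.altf u]
  set k := T⁻¹ * g with hkdef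
  have hkJ : ∀ x, k.1 (vecMulVec u x) = vecMulVec u x := fun x => by
    rw [hkdef, mul_apply', hgL, show vecMulVec u (L x) = T.1 (vecMulVec u x) by rw [hT', hAu], inv_apply_apply']
  have hshift : ∀ Y, ct1 b f u Y = 0 → ∃ y, k.1 Y = Y + vecMulVec u y := by
    intro Y hY
    have h0 : Y = ∑ j, vecMulVec (π fun i => Y i j) (Pi.single j 1) := by
      have h : ∀ j, π (fun i => Y i j) = fun i => Y i j := fun j => by
        have := congrFun hY j
        simp only [hπ, LinearMap.sub_apply, LinearMap.id_apply, LinearMap.smulRight_apply]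
        rw [show f u (fun i => Y i j) = 0 from this, zero_smul, sub_zero]
      simp only [h]
      ext i l
      simp [Matrix.sum_apply, vecMulVec_apply, Pi.single_apply]
    have key : ∀ j, ∃ y, k.1 (vecMulVec (π fun i => Y i j) (Pi.single j 1)) =
        vecMulVec (π fun i => Y i j) (Pi.single j 1) + vecMulVec u y := fun j => by
      set z := π fun i => Y i j
      obtain ⟨y, hy⟩ := hA₁x z (hπu _) (Pi.single j 1)
      obtain ⟨y', rfl⟩ := hLs y
      refine ⟨y', ?_⟩
      have hAz : A z = A₁ z := by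
        have : π z = z := by simp [z, hπ, hun]
        simp [hA, this, show f u z = 0 from hπu _]
      rw [hkdef, mul_apply', hy, show vecMulVec (A₁ z) (L (Pi.single j 1)) + vecMulVec u (L y') =
        T.1 (vecMulVec z (Pi.single j 1) + vecMulVec u y') by rw [map_add, hT', hT', hAz, hAu], inv_apply_apply']
    choose y hy using key
    refine ⟨∑ j, y j, ?_⟩
    conv_lhs => rw [h0]
    rw [map_sum, Finset.sum_congr rfl fun j _ => hy j, Finset.sum_add_distrib, ← h0]
    congr 1
    exact (map_sum (TensorMaxU.sl1 b u) y Finset.univ).symm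
  have hkT := (hm.start_or_tensor_of_isRad hM hb hq hun (M.mul_mem (M.inv_mem (hM _ hTt)) hg) (k := k)
    (Φ := k.1.toLinearMap ∘ₗ TensorMaxU.sl1 b n - TensorMaxU.sl1 b n) ⟨hkJ, fun w => ?_, hshift, fun w => ⟨0, by
      simp [TensorMax.vecMulVec_zero']⟩⟩).resolve_left hno
  · rw [show g = T * k by rw [hkdef, mul_inv_cancel_left]]
    exact hTt.mul hkT
  · refine eq_of_forall_polar hm.ndh fun x => ?_
    rw [← hm.left_eq, LinearMap.sub_apply, LinearMap.comp_apply, LinearEquiv.coe_coe, TensorMaxU.sl1_apply, map_sub,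
      polar_zero_right]
    conv_lhs => arg 1; rw [← hkJ x]
    rw [mem_isomGroup.1 k.2, sub_self]

/-- An element mapping a slice onto a slice is a tensor map or gives a transvection. -/
theorem start_or_tensor_of_slice {u u' : Fin a → F} (hu : u ≠ 0) (hu' : u' ≠ 0) {g : isomGroup B} (hg : g ∈ M)
    (hgJ : ∀ x, ∃ y, g.1 (vecMulVec u x) = vecMulVec u' y) : Start hm.altB M qh ∨ IsTensor g.1 := by
  obtain ⟨A, -, hA⟩ := tv_transitive hm.altf hm.ndf.1 hu' hu
  obtain ⟨n, hn⟩ := alt_exists_partner hm.ndf.1 hu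
  refine (hm.start_or_tensor_of_fix hM hb hq hn (g := hm.col A * g) (M.mul_mem (hM _ (hm.col_tensor A)) hg)
    fun x => ?_).imp_right fun hT => ?_
  · obtain ⟨y, hy⟩ := hgJ x
    exact ⟨y, by rw [mul_apply', hy, hm.col_pure, hA]⟩
  · rw [show g = (hm.col A)⁻¹ * (hm.col A * g) by rw [inv_mul_cancel_left]]
    exact (hm.col_tensor A).inv.mul hT

end Model

end CfsgLib.Classical.TensorMaxSp
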