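import Cfsg.Agent.Lib.Classical.TensorMaxSp.Engine
import Cfsg.Agent.Lib.Classical.TensorMaxSp.Slice

/-!
# Two root elements with non-degenerate product give a transvection
-/

set_option autoImplicit false
set_option linter.unusedSectionVars false

namespace CfsgLib.Classical.TensorMaxSp

open Matrix Module QuadraticMap CfsgLib.Orth CfsgLib.Classical
open CfsgLib.Classical.TensorMax (IsTensor)
open CfsgLib.Classical.TensorMaxS (ct1 ct1_vecMulVec)
open CfsgLib.Classical.TensorMaxU (sl1 sl1_apply sl1_injective)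

variable {F : Type*} [Field F] [Fintype F] {a b : ℕ}
  {B : Matrix (Fin a) (Fin b) F →ₗ[F] Matrix (Fin a) (Fin b) F →ₗ[F] F}
  {f : (Fin a → F) →ₗ[F] (Fin a → F) →ₗ[F] F} {qh : QuadraticForm F (Fin b → F)} {M : Subgroup (isomGroup B)}

namespace Model

variable (hm : Model B f qh) (hM : ContainsTensor M) (hb : 3 ≤ b)
  (hq : (∃ s : F, s ≠ 0 ∧ s * s ≠ 1) ∨ 4 ≤ b)
include hm hM hb hq

/-- The case where `J' R R' J` is injective modulo its kernel. -/
theorem start_of_bad (ha : 4 ≤ a) {h : isomGroup B} (hh : h ∈ M) (hhT : ¬ IsTensor h.1)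
    {R : (Fin b → F) →ₗ[F] Matrix (Fin a) (Fin b) F} {R' : Matrix (Fin a) (Fin b) F →ₗ[F] (Fin b → F)}
    (hX : ∀ X, h.1 X = X + R (R' X)) (hR : ∀ w, R' (R w) = 0) (hadj : ∀ w X, B (R w) X = polar qh w (R' X))
    {u : Fin a → F} (hu : u ≠ 0)
    (hbad : ∀ x, R' (vecMulVec u (ct1 b f u (R (R' (vecMulVec u x))))) = 0 → R' (vecMulVec u x) = 0)
    (hne : ∃ x, R' (vecMulVec u x) ≠ 0) : Start hm.altB M qh := by
  classical
  set J := sl1 b u with hJdef
  set J' := ct1 b f u with hJ'def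
  have hP : RootData J J' R R' := ⟨fun w => by rw [hJdef, hJ'def, sl1_apply, ct1_vecMulVec, hm.altf u, zero_smul], hR⟩
  set θ := thetaMap J J' R R' with hθ
  have hθx : ∀ x, θ x = J' (R (R' (J x))) := fun x => rfl
  have hJi : Function.Injective J := sl1_injective hu
  have hkM₀ : ∀ y, R' (J (θ y)) = 0 → R' (J y) = 0 := hbad
  have hker : ∀ y, θ y = 0 → R' (J y) = 0 := fun y hy => hkM₀ y (by rw [hy, map_zero, map_zero])
  have hk : ∀ y, θ (θ y) = 0 → θ y = 0 := fun y hy => by rw [hθx, hkM₀ y (hker _ hy), map_zero, map_zero]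
  have hθ0 : θ ≠ 0 := fun e => by
    obtain ⟨x, hx⟩ := hne
    exact hx (hker x (by rw [e]; rfl))
  have hadjJ : ∀ x w, polar qh x (J' (R w)) = -polar qh w (R' (J x)) := fun x w => by
    rw [← hadj w (J x), hJdef, sl1_apply, hm.right_eq, neg_neg]
  set t := hm.tau u 1
  have ht : ∀ X, t.1 X = X + J (J' X) := fun X => by rw [hm.tau_apply, one_smul]; rfl
  haveI : Finite (Matrix (Fin a) (Fin b) F ≃ₗ[F] Matrix (Fin a) (Fin b) F) := Finite.of_injective
    (fun e : Matrix (Fin a) (Fin b) F ≃ₗ[F] Matrix (Fin a) (Fin b) F => (e : _ → _)) DFunLike.coe_injective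
  obtain ⟨z, hzc, hz1, hzz, s, hsθ, hs2, hzJ, hzR, hzP⟩ :=
    exists_involution (isomGroup B).subtype hP hm.two (t := t) (r := h) ht hX hJi hθ0 hk
  rw [← hθ] at hsθ hs2 hzJ hzR
  simp only [Subgroup.coe_subtype] at hzJ hzR hzP
  have hzM : z ∈ M := (Subgroup.closure_le M).2 (Set.pair_subset (hM _ (hm.tau_tensor u 1)) hh) hzc
  -- decompositions
  have hsum : ∀ x, ∃ k y, θ k = 0 ∧ x = k + θ y := by
    have hd : Disjoint (LinearMap.ker θ) (LinearMap.range θ) := Submodule.disjoint_def.2 fun x hx hx' => by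
      obtain ⟨y, rfl⟩ := hx'
      exact hk y hx
    have htop : LinearMap.ker θ ⊔ LinearMap.range θ = ⊤ := Submodule.eq_top_of_finrank_eq (by
      have h1 := Submodule.finrank_sup_add_finrank_inf_eq (LinearMap.ker θ) (LinearMap.range θ)
      have h2 := θ.finrank_range_add_finrank_ker
      rw [hd.eq_bot, finrank_bot] at h1
      omega)
    intro x
    obtain ⟨k, hk', _, ⟨y, rfl⟩, e⟩ := Submodule.mem_sup.1 (htop ▸ Submodule.mem_top : x ∈ _)
    exact ⟨k, y, hk', e.symm⟩
  have hsq : ∀ y, ∃ y', θ y = θ (θ y') := fun y => by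
    obtain ⟨k, y', hk', e⟩ := hsum y
    exact ⟨y', by rw [e, map_add, hk', zero_add]⟩
  have hdec : ∀ X, ∃ a₀ y, R' (J (J' (X - J (θ a₀) - R (R' (J (θ y)))))) = 0 ∧
      J' (R (R' (X - J (θ a₀) - R (R' (J (θ y)))))) = 0 := by
    intro X
    obtain ⟨k, y₀, hk₀, hXy⟩ := hsum (J' X)
    obtain ⟨y, hy⟩ := hsq y₀
    obtain ⟨k', a₁, hk', hXa⟩ := hsum (J' (R (R' X)))
    obtain ⟨a₀, ha₀⟩ := hsq a₁
    have hk'0 : k' = 0 := hm.ndh.1 k' fun w => by
      rw [QuadraticMap.polarBilin_apply_apply]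
      obtain ⟨kw, yw, hkw, rfl⟩ := hsum w
      rw [polar_add_right, hθx yw, hadjJ k', hker k' hk', polar_zero_right, neg_zero, add_zero, polar_comm,
        show k' = J' (R (R' X)) - θ a₁ from eq_sub_of_add_eq hXa.symm, sub_eq_add_neg, polar_add_right,
        polar_neg_right, hθx a₁, hadjJ, hadjJ, hker kw hkw, polar_zero_right, polar_zero_right]
      simp
    refine ⟨a₀, y, ?_, ?_⟩
    · refine Eq.trans (congrArg (fun v => R' (J v)) ?_) (hker k hk₀)
      rw [map_sub, map_sub, hP.hJ, sub_zero, ← hθx (θ y), ← hy, hXy, add_sub_cancel_right]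
    · rw [map_sub R', map_sub R', hP.hR, sub_zero, map_sub R, map_sub J', ← hθx (θ a₀), ← ha₀, hXa, hk'0, zero_add,
        sub_self]
  have hzk : ∀ k, θ k = 0 → z.1 (J k) = J k := fun k hk' => hzP _ (by rw [hP.hJ, map_zero, map_zero])
    (by rw [hker k hk', map_zero, map_zero])
  have hzJall : ∀ x, ∃ y, z.1 (vecMulVec u x) = vecMulVec u y := fun x => by
    obtain ⟨k, y, hk', rfl⟩ := hsum x
    refine ⟨k + s (θ y), ?_⟩
    show z.1 (J (k + θ y)) = J (k + s (θ y))
    rw [map_add, map_add, hzk k hk', hzJ, map_add]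
  refine (hm.start_or_tensor_of_slice hM hb hq hu hu hzM hzJall).elim id fun hzT => ?_
  -- `z` is a tensor map
  obtain ⟨A₁, C₁, hA₁, hC₁, hAC⟩ := TensorMaxU.tensor_pure hzT
  obtain ⟨n, hn⟩ := alt_exists_partner hm.ndf.1 hu
  have hnu : f n u = -1 := by rw [hm.fswap u n, hn]
  set σ : (Fin b → F) →ₗ[F] (Fin b → F) := -(ct1 b f n ∘ₗ z.1.toLinearMap ∘ₗ J) with hσ
  have hzσ : ∀ x, z.1 (vecMulVec u x) = vecMulVec u (σ x) := fun x => by
    obtain ⟨y, hy⟩ := hzJall x
    rw [hy]
    congr 1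
    simp [hσ, hJdef, hy, hnu]
  have hσK : ∀ k, θ k = 0 → σ k = k := fun k hk' => hJi (by
    show vecMulVec u (σ k) = J k
    rw [← hzσ]; exact hzk k hk')
  have hσθ : ∀ y, σ (θ y) = s (θ y) := fun y => hJi (by
    show vecMulVec u (σ (θ y)) = J (s (θ y))
    rw [← hzσ]; exact hzJ y)
  have hz2 : ∀ X, z.1 (z.1 X) = X := fun X => by rw [← mul_apply', hzz]; rfl
  have hσ2 : ∀ x, σ (σ x) = x := fun x => hJi (by
    show vecMulVec u (σ (σ x)) = vecMulVec u x
    rw [← hzσ, ← hzσ, hz2])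
  have hσi : Function.Injective σ := fun x y e => by rw [← hσ2 x, e, hσ2]
  obtain ⟨c₀, hc₀⟩ : ∃ c₀ : F, ∀ x, σ x = c₀ • C₁ x := ⟨-f n (A₁ u), fun x => by
    have e := congrArg (ct1 b f n) ((hzσ x).symm.trans (hAC u x))
    rw [ct1_vecMulVec, ct1_vecMulVec, hnu, neg_one_smul] at e
    rw [neg_smul, ← e, neg_neg]⟩
  set x₁ : Fin b → F := Pi.single ⟨0, by omega⟩ 1 with hx₁def
  have hx₁ : x₁ ≠ 0 := by simp [hx₁def]
  have hc0 : c₀ ≠ 0 := fun e => hx₁ (hσi (by rw [hc₀, e, zero_smul, map_zero]))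
  set A : (Fin a → F) →ₗ[F] (Fin a → F) := c₀⁻¹ • A₁ with hA
  have hzA : ∀ p x, z.1 (vecMulVec p x) = vecMulVec (A p) (σ x) := fun p x => by
    rw [hAC, hA, LinearMap.smul_apply, hc₀, smul_vecMulVec, vecMulVec_smul, smul_smul, inv_mul_cancel₀ hc0, one_smul]
  have hAu : A u = u := TensorMaxU.sl2_injective (a := a) (show σ x₁ ≠ 0 from fun e => hx₁ (hσi (by rw [e, map_zero])))
    (show vecMulVec (A u) (σ x₁) = vecMulVec u (σ x₁) by rw [← hzA, hzσ])
  have hA2 : ∀ p, A (A p) = p := fun p => TensorMaxU.sl2_injective (a := a) hx₁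
    (show vecMulVec (A (A p)) x₁ = vecMulVec p x₁ by
      conv_lhs => rw [← hσ2 x₁]
      rw [← hzA, ← hzA, hz2])
  set Up := LinearMap.ker (A - LinearMap.id) with hUp
  set Um := LinearMap.ker (A + LinearMap.id) with hUm
  have hUp' : ∀ {p}, p ∈ Up ↔ A p = p := fun {p} => by simp [hUp, sub_eq_zero]
  have hUm' : ∀ {p}, p ∈ Um ↔ A p = -p := fun {p} => by simp [hUm, add_eq_zero_iff_eq_neg]
  have hsplit : ∀ p, ∃ p₁ ∈ Up, ∃ p₂ ∈ Um, p = p₁ + p₂ := fun p =>
    ⟨(2 : F)⁻¹ • (p + A p), hUp'.2 (by rw [map_smul, map_add, hA2, add_comm]),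
      (2 : F)⁻¹ • (p - A p), hUm'.2 (by rw [map_smul, map_sub, hA2, ← smul_neg, neg_sub]), by
        rw [← smul_add, add_add_sub_cancel, ← two_smul F, inv_smul_smul₀ hm.two]⟩
  -- the range of `z - 1`
  set S := z.1.toLinearMap - LinearMap.id with hS
  set D := LinearMap.range (σ - LinearMap.id) with hD
  set D' := LinearMap.range (σ + LinearMap.id) with hD'
  have hrange : LinearMap.range S ≤ D.map J ⊔ D.map (R ∘ₗ R' ∘ₗ J) := by
    rintro _ ⟨X, rfl⟩
    obtain ⟨a₀, y, h1, h2⟩ := hdec X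
    set X' := X - J (θ a₀) - R (R' (J (θ y)))
    have e : X = X' + J (θ a₀) + R (R' (J (θ y))) := by simp only [X']; abel
    have e' : S X = J (σ (θ a₀) - θ a₀) + R (R' (J (σ (θ y) - θ y))) := by
      show z.1 X - X = _
      rw [e, map_add, map_add, hzP X' h1 h2, hzJ, hzR, hσθ, hσθ]
      simp only [map_sub]
      abel
    rw [e']
    exact Submodule.add_mem_sup ⟨_, ⟨θ a₀, rfl⟩, rfl⟩ ⟨_, ⟨θ y, rfl⟩, rfl⟩
  have hrk : finrank F (LinearMap.range S) ≤ 2 * finrank F D := by
    refine (Submodule.finrank_mono hrange).trans ((Submodule.finrank_add_le_finrank_add_finrank _ _).trans ?_)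
    have h1 := Submodule.finrank_map_le J D
    have h2 := Submodule.finrank_map_le (R ∘ₗ R' ∘ₗ J) D
    omega
  have hDD' : finrank F D + finrank F D' = b := by
    have e : D' = LinearMap.ker (σ - LinearMap.id) := by
      refine le_antisymm ?_ fun x hx => ⟨(2 : F)⁻¹ • x, ?_⟩
      · rintro _ ⟨x, rfl⟩
        simp [hσ2, add_comm]
      · rw [LinearMap.mem_ker, LinearMap.sub_apply, LinearMap.id_apply, sub_eq_zero] at hx
        rw [LinearMap.add_apply, LinearMap.id_apply, map_smul, hx, ← two_smul F, smul_inv_smul₀ hm.two]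
    rw [e, hD, LinearMap.finrank_range_add_finrank_ker, finrank_fin_fun]
  have hDpos : 0 < finrank F D := by
    by_contra h0
    have h1 : LinearMap.range S = ⊥ := Submodule.finrank_eq_zero.1 (by omega)
    refine hz1 (Subtype.ext (LinearEquiv.ext fun X => ?_))
    have h2 : S X ∈ LinearMap.range S := LinearMap.mem_range_self S X
    rw [h1, Submodule.mem_bot] at h2
    exact sub_eq_zero.1 h2
  have hS1 : ∀ p ∈ Up, ∀ x ∈ D, vecMulVec p x ∈ LinearMap.range S := by
    rintro p hp _ ⟨x, rfl⟩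
    refine ⟨vecMulVec p x, ?_⟩
    show z.1 (vecMulVec p x) - vecMulVec p x = _
    rw [hzA, hUp'.1 hp]
    exact (map_sub (sl1 b p) _ _).symm
  have hS2 : ∀ p ∈ Um, ∀ x ∈ D', vecMulVec p x ∈ LinearMap.range S := by
    rintro p hp _ ⟨x, rfl⟩
    refine ⟨-vecMulVec p x, ?_⟩
    show z.1 (-vecMulVec p x) - -vecMulVec p x = _
    rw [map_neg, hzA, hUm'.1 hp, neg_vecMulVec, neg_neg, sub_neg_eq_add, LinearMap.add_apply, LinearMap.id_apply,
      vecMulVec_add]
  set v := Module.finBasis F Up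
  -- the fixed space of `A` has dimension at least two
  have hUp2 : 2 ≤ finrank F Up := by
    by_contra hlt
    have huUp : u ∈ Up := hUp'.2 hAu
    have hUpu : ∀ p ∈ Up, p ∈ F ∙ u := fun p hp => by
      have hle : F ∙ u = Up := Submodule.eq_of_le_of_finrank_le ((Submodule.span_singleton_le_iff_mem _ _).2 huUp)
        (by rw [finrank_span_singleton hu]; omega)
      rwa [hle]
    obtain ⟨y₀, -, hy₀⟩ := TensorMaxO.exists_anisotropic_in hm.ndh (S := ⊤) (by rw [finrank_top, finrank_fin_fun]; omega)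
    have hy₀' : polar qh y₀ y₀ ≠ 0 := by rw [polar_self']; exact mul_ne_zero hm.two hy₀
    have hAf : ∀ p q, f (A p) (A q) * polar qh (σ y₀) (σ y₀) = f p q * polar qh y₀ y₀ := fun p q => by
      rw [← hm.pol, ← hzA, ← hzA, mem_isomGroup.1 z.2, hm.pol]
    set c := polar qh (σ y₀) (σ y₀) with hc
    obtain ⟨x, hx0, hxu⟩ : ∃ x, x ∉ F ∙ u ∧ f u x = 0 := by
      by_contra! hall
      have hle : LinearMap.ker (f u) ≤ F ∙ u := fun x hx => by
        by_contra hx'
        exact hall x hx' hx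
      have h1 := Submodule.finrank_mono hle
      have h2 := (f u).finrank_range_add_finrank_ker
      have h3 := Submodule.finrank_le (LinearMap.range (f u))
      rw [finrank_span_singleton hu] at h1
      rw [finrank_self] at h3
      rw [finrank_fin_fun] at h2
      omega
    obtain ⟨p₁, hp₁, q, hq', rfl⟩ := hsplit x
    obtain ⟨t₁, rfl⟩ := Submodule.mem_span_singleton.1 (hUpu p₁ hp₁)
    have hq0 : q ≠ 0 := fun e => hx0 (by
      rw [e, add_zero]; exact Submodule.smul_mem _ _ (Submodule.mem_span_singleton_self u))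
    have huq : f u q = 0 := by simpa [hm.altf u] using hxu
    obtain ⟨p₂, hp₂, m, hm', e⟩ := hsplit n
    obtain ⟨t₂, rfl⟩ := Submodule.mem_span_singleton.1 (hUpu p₂ hp₂)
    have hum : f u m = 1 := by
      have e' := hn
      rw [e, map_add, map_smul, hm.altf u, smul_zero, zero_add] at e'
      exact e'
    have hqm : ∀ r ∈ Um, f q r = 0 := fun r hr => by
      have e1 := hAf u m
      rw [hAu, hUm'.1 hm', map_neg, hum] at e1
      have e2 := hAf q r
      rw [hUm'.1 hq', hUm'.1 hr] at e2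
      simp only [map_neg, LinearMap.neg_apply, neg_neg] at e2
      have h2c : polar qh y₀ y₀ = -c := by linear_combination -e1
      rw [h2c] at e2
      exact mul_left_cancel₀ (mul_ne_zero hm.two (show c ≠ 0 by rw [← neg_ne_zero, ← h2c]; exact hy₀'))
        (by linear_combination e2)
    refine hq0 (hm.ndf.1 q fun w => ?_)
    obtain ⟨p₃, hp₃, r, hr, rfl⟩ := hsplit w
    obtain ⟨t₃, rfl⟩ := Submodule.mem_span_singleton.1 (hUpu p₃ hp₃)
    rw [map_add, map_smul, hm.fswap u q, huq, neg_zero, smul_zero, zero_add, hqm r hr]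
  by_cases hUm0 : Um = ⊥
  · -- `A = 1`
    have hUptop : finrank F Up = a := by
      have : Up = ⊤ := top_unique fun p _ => by
        obtain ⟨p₁, hp₁, p₂, hp₂, rfl⟩ := hsplit p
        rw [hUm0, Submodule.mem_bot] at hp₂
        rwa [hp₂, add_zero]
      rw [this, finrank_top, finrank_fin_fun]
    let Ξ : (Fin (finrank F Up) → D) →ₗ[F] LinearMap.range S :=
      (∑ i, sl1 b (v i).1 ∘ₗ D.subtype ∘ₗ LinearMap.proj i).codRestrict _ fun d => by
        simp only [LinearMap.sum_apply, LinearMap.comp_apply, sl1_apply, Submodule.subtype_apply, LinearMap.proj_apply]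
        exact Submodule.sum_mem _ fun i _ => hS1 _ (v i).2 _ (d i).2
    have hΞ : Function.Injective Ξ := (injective_iff_map_eq_zero _).2 fun d hd => by
      have e : ∑ i, vecMulVec (v i).1 (d i).1 = 0 := by simpa [Ξ, Subtype.ext_iff] using hd
      funext i
      apply Subtype.ext
      funext j
      have hli : LinearIndependent F fun i => (v i).1 := v.linearIndependent.map' Up.subtype (Submodule.ker_subtype _)
      refine Fintype.linearIndependent_iff.1 hli (fun i => (d i).1 j) ?_ i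
      funext r
      have e' := congrFun (congrFun e r) j
      simpa [Matrix.sum_apply, vecMulVec_apply, mul_comm] using e'
    have h1 := LinearMap.finrank_le_finrank_of_injective hΞ
    rw [Module.finrank_pi_fintype, Finset.sum_const, Finset.card_univ, Fintype.card_fin, smul_eq_mul, hUptop] at h1
    nlinarith
  obtain ⟨q, hq', hq0⟩ := Submodule.exists_mem_ne_zero_of_ne_bot hUm0
  let Ξ : ((Fin (finrank F Up) → D) × D') →ₗ[F] LinearMap.range S :=
    ((∑ i, sl1 b (v i).1 ∘ₗ D.subtype ∘ₗ LinearMap.proj i).coprod (sl1 b q ∘ₗ D'.subtype)).codRestrict _ fun d => by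
      simp only [LinearMap.coprod_apply, LinearMap.sum_apply, LinearMap.comp_apply, sl1_apply, Submodule.subtype_apply,
        LinearMap.proj_apply]
      exact Submodule.add_mem _ (Submodule.sum_mem _ fun i _ => hS1 _ (v i).2 _ (d.1 i).2) (hS2 _ hq' _ d.2.2)
  have hΞ : Function.Injective Ξ := (injective_iff_map_eq_zero _).2 fun d hd => by
    have e : ∑ i, vecMulVec (v i).1 (d.1 i).1 + vecMulVec q d.2.1 = 0 := by simpa [Ξ, Subtype.ext_iff] using hd
    have hcol : ∀ j, ∑ i, (d.1 i).1 j • (v i).1 + d.2.1 j • q = 0 := fun j => funext fun r => by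
      have e' := congrFun (congrFun e r) j
      simpa [Matrix.sum_apply, vecMulVec_apply, mul_comm] using e'
    have hp : ∀ j, A (∑ i, (d.1 i).1 j • (v i).1) = ∑ i, (d.1 i).1 j • (v i).1 := fun j =>
      hUp'.1 (Submodule.sum_mem _ fun i _ => Submodule.smul_mem _ _ (v i).2)
    have hsep : ∀ j, ∑ i, (d.1 i).1 j • (v i).1 = 0 ∧ d.2.1 j • q = 0 := fun j => by
      have e2 := congrArg A (hcol j)
      rw [map_add, map_zero, hp, map_smul, hUm'.1 hq', smul_neg] at e2
      have e3 : (2 : F) • (d.2.1 j • q) = 0 := by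
        linear_combination (norm := module) (hcol j) - e2
      have e4 := (smul_eq_zero.1 e3).resolve_left hm.two
      exact ⟨by simpa [e4] using hcol j, e4⟩
    refine Prod.ext ?_ (Subtype.ext (funext fun j => (smul_eq_zero.1 (hsep j).2).resolve_right hq0))
    funext i
    apply Subtype.ext
    funext j
    have hli : LinearIndependent F fun i => (v i).1 := v.linearIndependent.map' Up.subtype (Submodule.ker_subtype _)
    exact Fintype.linearIndependent_iff.1 hli (fun i => (d.1 i).1 j) (hsep j).1 i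
  have h1 := LinearMap.finrank_le_finrank_of_injective hΞ
  rw [finrank_prod, Module.finrank_pi_fintype, Finset.sum_const, Finset.card_univ, Fintype.card_fin, smul_eq_mul] at h1
  have hD'0 : finrank F D' = 0 := by nlinarith
  have hneg : ∀ x, σ x = -x := fun x => by
    have h2 : σ x + x ∈ D' := ⟨x, rfl⟩
    rw [Submodule.finrank_eq_zero.1 hD'0, Submodule.mem_bot] at h2
    exact eq_neg_of_add_eq_zero_left h2
  have hK : ∀ k, θ k = 0 → k = 0 := fun k hk' => by
    have e := hσK k hk'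
    rw [hneg, neg_eq_iff_add_eq_zero, ← two_smul F] at e
    exact (smul_eq_zero.1 e).resolve_left hm.two
  have hθtop : ∀ x, ∃ y, x = θ y := fun x => by
    obtain ⟨k, y, hk', e⟩ := hsum x
    exact ⟨y, by rw [e, hK k hk', zero_add]⟩
  -- `h` fixes a slice
  have hqfix : ∀ w, R' (vecMulVec q w) = 0 := fun w => hm.ndh.2 _ fun v₀ => by
    rw [QuadraticMap.polarBilin_apply_apply, ← hadj]
    obtain ⟨x, rfl⟩ := LinearMap.injective_iff_surjective.1 ((injective_iff_map_eq_zero (R' ∘ₗ J)).2 fun x hx =>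
      hK x (by rw [hθx, show R' (J x) = 0 from hx, map_zero, map_zero])) v₀
    obtain ⟨y, rfl⟩ := hθtop x
    simp only [LinearMap.comp_apply]
    have hfixq : z.1 (vecMulVec q w) = vecMulVec q w := by
      rw [hzA, hUm'.1 hq', hneg, neg_vecMulVec, show vecMulVec q (-w) = -vecMulVec q w from map_neg (sl1 b q) w, neg_neg]
    have hR1 : z.1 (R (R' (J (θ y)))) = -R (R' (J (θ y))) := by
      rw [hzR, ← hσθ, hneg, map_neg, map_neg, map_neg]
    have e := mem_isomGroup.1 z.2 (R (R' (J (θ y)))) (vecMulVec q w)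
    rw [hR1, hfixq, map_neg, LinearMap.neg_apply] at e
    exact mul_left_cancel₀ hm.two (by linear_combination -e)
  exact (hm.start_or_tensor_of_slice hM hb hq hq0 hq0 hh fun x => ⟨x, by
    rw [hX, hqfix, map_zero, add_zero]⟩).resolve_right hhT

end Model

end CfsgLib.Classical.TensorMaxSp
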