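import Cfsg.Agent.Lib.Classical.TensorMaxSp.Conj
import Cfsg.Agent.Lib.Classical.TensorMaxSp.Invol

/-!
# A non-tensor element gives a transvection when the symplectic factor has dimension at least four

We enlarge the part of a slice that some non-tensor element of `M` maps into a slice.
-/

set_option autoImplicit false
set_option linter.unusedSectionVars false

namespace CfsgLib.Classical.TensorMaxSp

open Matrix Module QuadraticMap CfsgLib.Orth CfsgLib.Classical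
open CfsgLib.Classical.TensorMax (IsTensor)
open CfsgLib.Classical.TensorMaxS (ct1 ct1_vecMulVec)
open CfsgLib.Classical.TensorMaxU (sl1 sl1_apply)

variable {F : Type*} [Field F] [Fintype F] {a b : ℕ}
  {B : Matrix (Fin a) (Fin b) F →ₗ[F] Matrix (Fin a) (Fin b) F →ₗ[F] F}
  {f : (Fin a → F) →ₗ[F] (Fin a → F) →ₗ[F] F} {qh : QuadraticForm F (Fin b → F)} {M : Subgroup (isomGroup B)}

/-- A non-tensor element of `M` maps an `i`-dimensional part of a slice into a slice. -/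
def Climbed (M : Subgroup (isomGroup B)) (i : ℕ) : Prop :=
  ∃ g ∈ M, ¬ IsTensor g.1 ∧ ∃ (u₀ u' : Fin a → F), u₀ ≠ 0 ∧ u' ≠ 0 ∧ ∃ W₀ : Submodule F (Fin b → F),
    i ≤ finrank F W₀ ∧ ∀ x ∈ W₀, ∃ y, g.1 (vecMulVec u₀ x) = vecMulVec u' y

namespace Model

variable (hm : Model B f qh) (hM : ContainsTensor M) (hb : 3 ≤ b)
  (hq : (∃ s : F, s ≠ 0 ∧ s * s ≠ 1) ∨ 4 ≤ b)
include hm hM hb hq

theorem climb_step (ha : 4 ≤ a) {i : ℕ} (hg : Climbed M i) : Start hm.altB M qh ∨ Climbed M (i + 1) := by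
  classical
  obtain ⟨g, hgM, hgT, u₀, u', hu₀, hu', W₀, hW₀, hgW⟩ := hg
  set h := g⁻¹ * hm.tau u' 1 * g with hh
  have hhM : h ∈ M := M.mul_mem (M.mul_mem (M.inv_mem hgM) (hM _ (hm.tau_tensor _ _))) hgM
  by_cases hhT : IsTensor h.1
  · refine Or.inl (hm.start_of_conj hM hb hq (by omega) (M.inv_mem hgM) (not_isTensor_inv hgT) hu' ?_)
    rw [inv_inv]
    exact hhT
  set R : (Fin b → F) →ₗ[F] Matrix (Fin a) (Fin b) F := (g⁻¹).1.toLinearMap ∘ₗ sl1 b u' with hRdef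
  set R' : Matrix (Fin a) (Fin b) F →ₗ[F] (Fin b → F) := ct1 b f u' ∘ₗ g.1.toLinearMap with hR'def
  have hX : ∀ X, h.1 X = X + R (R' X) := fun X => by
    rw [hh, mul_apply', mul_apply', hm.tau_apply, map_add, inv_apply_apply', one_smul]
    rfl
  have hR : ∀ w, R' (R w) = 0 := fun w => by
    show ct1 b f u' (g.1 ((g⁻¹).1 (vecMulVec u' w))) = 0
    rw [apply_inv_apply', ct1_vecMulVec, hm.altf u', zero_smul]
  have hadj : ∀ w X, B (R w) X = polar qh w (R' X) := fun w X => by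
    show B ((g⁻¹).1 (vecMulVec u' w)) X = polar qh w (ct1 b f u' (g.1 X))
    rw [← mem_isomGroup.1 g.2, apply_inv_apply', hm.left_eq]
  set K := LinearMap.ker (R' ∘ₗ sl1 b u₀) with hKdef
  have hK : ∀ {x}, x ∈ K ↔ R' (vecMulVec u₀ x) = 0 := fun {x} => by
    rw [hKdef, LinearMap.mem_ker, LinearMap.comp_apply, sl1_apply]
  have hWK : W₀ ≤ K := fun x hx => hK.2 (by
    obtain ⟨y, hy⟩ := hgW x hx
    show ct1 b f u' (g.1 (vecMulVec u₀ x)) = 0
    rw [hy, ct1_vecMulVec, hm.altf u', zero_smul])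
  have hfixK : ∀ x ∈ K, h.1 (vecMulVec u₀ x) = vecMulVec u₀ x := fun x hx => by
    rw [hX, hK.1 hx, map_zero, add_zero]
  by_cases hKt : K = ⊤
  · exact Or.inl ((hm.start_or_tensor_of_slice hM hb hq hu₀ hu₀ hhM fun x =>
      ⟨x, hfixK x (hKt ▸ Submodule.mem_top)⟩).resolve_right hhT)
  by_cases hdim : i + 1 ≤ finrank F K
  · exact Or.inr ⟨h, hhM, hhT, u₀, u₀, hu₀, hu₀, K, hdim, fun x hx => ⟨x, hfixK x hx⟩⟩
  set θ : (Fin b → F) →ₗ[F] (Fin b → F) := ct1 b f u₀ ∘ₗ R ∘ₗ R' ∘ₗ sl1 b u₀ with hθdef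
  have hθ : ∀ x, θ x = ct1 b f u₀ (R (R' (vecMulVec u₀ x))) := fun x => rfl
  by_cases hbad : ∀ x, θ x ∈ K → x ∈ K
  · refine Or.inl (hm.start_of_bad hM hb hq ha hhM hhT hX hR hadj hu₀ (fun x hx => hK.1 (hbad x (hK.2 hx))) ?_)
    by_contra! hall
    exact hKt (Submodule.eq_top_iff'.2 fun x => hK.2 (hall x))
  push_neg at hbad
  obtain ⟨x, hθK, hxK⟩ := hbad
  set τ := hm.tau u₀ 1 with hτ
  set Y := τ * h * τ⁻¹ * h⁻¹ with hY
  have hτ' : ∀ X, (τ⁻¹).1 X = X - vecMulVec u₀ (ct1 b f u₀ X) := fun X => by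
    rw [hτ, hm.tau_inv, hm.tau_apply, neg_one_smul, sub_eq_add_neg]
  have hhi : ∀ X, (h⁻¹).1 X = X - R (R' X) := fun X => h.1.injective (by
    rw [apply_inv_apply', hX, map_sub R', hR, sub_zero, sub_add_cancel])
  have hJJ : ∀ w, ct1 b f u₀ (vecMulVec u₀ w) = 0 := fun w => by rw [ct1_vecMulVec, hm.altf u₀, zero_smul]
  have hYx : ∀ w, θ w ∈ K → Y.1 (vecMulVec u₀ w) = vecMulVec u₀ (w + θ w) := fun w hw => by
    rw [hY, mul_apply', mul_apply', mul_apply', hhi, hτ', map_sub (ct1 b f u₀), hJJ, zero_sub, ← hθ,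
      show vecMulVec u₀ (-θ w) = -vecMulVec u₀ (θ w) from map_neg (sl1 b u₀) _, sub_neg_eq_add, hX,
      map_add R', map_sub R', hR, sub_zero, hK.1 hw, add_zero, hτ, hm.tau_apply, one_smul,
      sub_add_eq_add_sub (vecMulVec u₀ w), sub_add_cancel, map_add (ct1 b f u₀), hJJ, hJJ, add_zero, TensorMax.vecMulVec_zero', add_zero,
      vecMulVec_add]
  have hYM : Y ∈ M := M.mul_mem (M.mul_mem (M.mul_mem (hM _ (hm.tau_tensor _ _)) hhM)
    (M.inv_mem (hM _ (hm.tau_tensor _ _)))) (M.inv_mem hhM)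
  by_cases hYT : IsTensor Y.1
  · refine Or.inl (hm.start_of_conj hM hb hq (by omega) hhM hhT hu₀ ?_)
    have e : h * τ * h⁻¹ = (τ⁻¹ * Y)⁻¹ := by rw [hY]; group
    rw [← hτ, e]
    exact ((hm.tau_tensor u₀ 1).inv.mul hYT).inv
  refine Or.inr ⟨Y, hYM, hYT, u₀, u₀, hu₀, hu₀, K ⊔ F ∙ x, ?_, fun w hw => ?_⟩
  · have hlt : K < K ⊔ F ∙ x := left_lt_sup.2 fun hle => hxK (hle (Submodule.mem_span_singleton_self x))
    have := Submodule.finrank_lt_finrank_of_lt hlt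
    have := Submodule.finrank_mono hWK
    omega
  · obtain ⟨k, hk, w', hw', rfl⟩ := Submodule.mem_sup.1 hw
    obtain ⟨t, rfl⟩ := Submodule.mem_span_singleton.1 hw'
    refine ⟨_, hYx _ ?_⟩
    rw [map_add, hθ k, hK.1 hk, map_zero, map_zero, zero_add, map_smul]
    exact K.smul_mem t hθK

/-- A non-tensor element gives a transvection. -/
theorem start_of_not_tensor (ha : 4 ≤ a) {g : isomGroup B} (hg : g ∈ M) (hgT : ¬ IsTensor g.1) :
    Start hm.altB M qh := by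
  classical
  have key : ∀ i ≤ b, Start hm.altB M qh ∨ Climbed M i := by
    intro i
    induction i with
    | zero =>
      intro _
      refine Or.inr ⟨g, hg, hgT, Pi.single ⟨0, by omega⟩ 1, Pi.single ⟨0, by omega⟩ 1, by simp, by simp, ⊥,
        Nat.zero_le _, fun x hx => ⟨0, ?_⟩⟩
      rw [Submodule.mem_bot] at hx
      simp [hx, TensorMax.vecMulVec_zero']
    | succ i ih =>
      intro hi
      exact (ih (by omega)).elim Or.inl (hm.climb_step hM hb hq ha)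
  refine (key b le_rfl).elim id fun ⟨g', hg', hgT', u₀, u', hu₀, hu', W₀, hW₀, hgW⟩ => ?_
  have htop : W₀ = ⊤ := Submodule.eq_top_of_finrank_eq (le_antisymm (Submodule.finrank_le _)
    (by rw [finrank_fin_fun]; exact hW₀))
  exact (hm.start_or_tensor_of_slice hM hb hq hu₀ hu' hg' fun x =>
    hgW x (htop ▸ Submodule.mem_top)).resolve_right hgT'

end Model

end CfsgLib.Classical.TensorMaxSp
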