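import Cfsg.Agent.Lib.Classical.TensorMaxSp.Slice
import Cfsg.Agent.Lib.Classical.TensorMaxSp.Axes

/-!
# A conjugate root element that is a tensor map
-/

set_option autoImplicit false
set_option linter.unusedSectionVars false

namespace CfsgLib.Classical.TensorMaxSp

open Matrix Module QuadraticMap CfsgLib.Orth CfsgLib.Classical
open CfsgLib.Classical.TensorMax (IsTensor)
open CfsgLib.Classical.TensorMaxS (ct1 ct1_vecMulVec ct2 ct2_vecMulVec)
open CfsgLib.Classical.TensorMaxU (rowMap)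

variable {F : Type*} [Field F] {a b : ℕ}

/-- A tensor map `1 + N` with `N² = 0` has a scalar factor. -/
theorem scalar_of_sq {A : (Fin a → F) →ₗ[F] (Fin a → F)} {C : (Fin b → F) →ₗ[F] (Fin b → F)}
    (h2 : (2 : F) ≠ 0)
    (h : ∀ p w, vecMulVec (A (A p)) (C (C w)) = (2 : F) • vecMulVec (A p) (C w) - vecMulVec p w) :
    (∃ α : F, ∀ p, A p = α • p) ∨ ∃ γ : F, ∀ w, C w = γ • w := by
  by_contra! hne
  obtain ⟨p, hp⟩ := TensorMaxS.exists_noneigen (S := A) (fun ⟨s, hs⟩ => (hne.1 s).elim fun p hp => hp (hs p))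
  obtain ⟨w, hw⟩ := TensorMaxS.exists_noneigen (S := C) (fun ⟨s, hs⟩ => (hne.2 s).elim fun w hw => hw (hs w))
  have hp0 : p ≠ 0 := fun e => hp (by rw [e, map_zero]; exact zero_mem _)
  have hw0 : w ≠ 0 := fun e => hw (by rw [e, map_zero]; exact zero_mem _)
  obtain ⟨d, hd1, hd2⟩ := TensorMax.exists_dot (TensorMaxS.indep_swap hw0 hw)
  obtain ⟨d', hd'1, hd'2⟩ := TensorMax.exists_dot hw
  have e1 := congrArg (· *ᵥ d) (h p w)
  have e2 := congrArg (· *ᵥ d') (h p w)
  simp only [sub_mulVec, smul_mulVec, vecMulVec_mulVec, op_smul_eq_smul, dotProduct_comm _ d, hd1, hd2, zero_smul,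
    smul_zero, one_smul, zero_sub] at e1
  simp only [sub_mulVec, smul_mulVec, vecMulVec_mulVec, op_smul_eq_smul, dotProduct_comm _ d', hd'1, hd'2, zero_smul,
    one_smul, sub_zero] at e2
  have hs : d ⬝ᵥ C (C w) ≠ 0 := fun e => hp0 (by rw [e, zero_smul] at e1; exact neg_eq_zero.1 e1.symm)
  refine hp (Submodule.mem_span_singleton.2 ⟨-((2 : F)⁻¹ * (d' ⬝ᵥ C (C w)) * (d ⬝ᵥ C (C w))⁻¹), ?_⟩)
  rw [neg_smul, ← smul_neg, ← e1, smul_smul, mul_assoc, inv_mul_cancel₀ hs, mul_one, mul_smul, e2,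
    inv_smul_smul₀ h2]

variable [Fintype F] {B : Matrix (Fin a) (Fin b) F →ₗ[F] Matrix (Fin a) (Fin b) F →ₗ[F] F}
  {f : (Fin a → F) →ₗ[F] (Fin a → F) →ₗ[F] F} {qh : QuadraticForm F (Fin b → F)} {M : Subgroup (isomGroup B)}

namespace Model

variable (hm : Model B f qh) (hM : ContainsTensor M) (hb : 3 ≤ b)
  (hq : (∃ s : F, s ≠ 0 ∧ s * s ≠ 1) ∨ 4 ≤ b)
include hm hM hb hq

/-- The case of an isometry of the second factor. -/
theorem start_of_conj_row (ha : 3 ≤ a) {g : isomGroup B} (hg : g ∈ M) {u n : Fin a → F} (hun : f u n = 1)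
    {D : (Fin b → F) →ₗ[F] (Fin b → F)} (hsk : ∀ x y, polar qh (D x) y = -polar qh x (D y))
    (hD2 : ∀ w, D (D w) = 0) (hD : ∀ p w, g.1 (vecMulVec u (ct1 b f u ((g⁻¹).1 (vecMulVec p w)))) = vecMulVec p (D w))
    (hD0 : D ≠ 0) : Start hm.altB M qh := by
  classical
  have hu : u ≠ 0 := fun e => by rw [e, map_zero, LinearMap.zero_apply] at hun; exact zero_ne_one hun
  obtain ⟨w₁, hw₁⟩ := DFunLike.ne_iff.1 hD0
  rw [LinearMap.zero_apply] at hw₁
  obtain ⟨w₂, hw₂⟩ : ∃ w₂, D w₂ ∉ F ∙ D w₁ := by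
    by_contra! hall
    choose φ hφ using fun w => Submodule.mem_span_singleton.1 (hall w)
    have hd : ∀ w, φ w * polar qh (D w₁) w = 0 := fun w => by
      have h := hsk w w
      rw [polar_comm _ w (D w)] at h
      rw [← polar_smul_l', hφ]
      exact mul_left_cancel₀ hm.two (by linear_combination h)
    obtain ⟨δ, hδ⟩ := TensorMax.exists_dot_one hw₁
    set φ' : (Fin b → F) →ₗ[F] F := (dotProductBilin F F δ) ∘ₗ D with hφ'
    have hφφ : ∀ w, φ' w = φ w := fun w => by simp [hφ', ← hφ w, hδ]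
    obtain ⟨d, hd1, hd2⟩ := exists_both_ne φ' (polarBilin qh (D w₁))
      (fun e => by simpa [hφ', hδ] using LinearMap.congr_fun e w₁)
      (fun e => hw₁ (hm.ndh.1 _ fun y => LinearMap.congr_fun e y))
    exact mul_ne_zero hd1 hd2 (by rw [hφφ]; exact hd d)
  set e := D w₁
  set e₂ := D w₂
  have hsing : ∀ w, qh (D w) = 0 := fun w => TensorMaxO.quad_eq_zero_of_self hm.two (by
    rw [hsk, hD2, polar_zero_right, neg_zero])
  have hee : polar qh e e₂ = 0 := by rw [hsk, hD2, polar_zero_right, neg_zero]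
  obtain ⟨e', he', hee', he₂'⟩ := TensorMaxO.exists_partner_perp hm.ndh (hsing w₂) hee hw₂
  obtain ⟨C, hC⟩ := exists_isSiegel hm.ndh (hsing w₁) hee'
  have hCv : ∀ v, C.1 v = v + polar qh e v • e' + (-polar qh e' v) • e := fun v => by
    rw [hC.2.2, he', zero_mul, sub_zero]
  have hCD : ∀ w, C.1 (D w) = D w + (-polar qh e' (D w)) • e := fun w => by
    rw [hCv, show polar qh e (D w) = 0 by rw [hsk, hD2, polar_zero_right, neg_zero], zero_smul, add_zero]
  set k := g⁻¹ * hm.row C * g with hk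
  have hkM : k ∈ M := M.mul_mem (M.mul_mem (M.inv_mem hg) (hM _ (hm.row_tensor C))) hg
  -- the range
  have hrange : ∀ p w, ∃ x, g.1 (vecMulVec u x) = vecMulVec p (D w) := fun p w => ⟨_, hD p w⟩
  have hsum : ∀ x, ∃ Y : Matrix (Fin a) (Fin b) F, g.1 (vecMulVec u x) = ∑ i, vecMulVec (Pi.single i 1) (D (Y i)) := fun x => by
    refine ⟨g.1 (vecMulVec n x), ?_⟩
    rw [show (∑ i, vecMulVec (Pi.single i 1) (D (g.1 (vecMulVec n x) i)) : Matrix (Fin a) (Fin b) F) =
      g.1 (vecMulVec u (ct1 b f u ((g⁻¹).1 (∑ i, vecMulVec (Pi.single i 1) (g.1 (vecMulVec n x) i))))) by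
        simp only [map_sum, ← TensorMaxU.sl1_apply, map_sum]
        simp only [TensorMaxU.sl1_apply]
        exact Finset.sum_congr rfl fun i _ => (hD _ _).symm]
    rw [← TensorMaxU.matrix_eq_sum, inv_apply_apply', ct1_vecMulVec, hun, one_smul]
  have hkJ : ∀ x, ∃ y, k.1 (vecMulVec u x) = vecMulVec u y := fun x => by
    obtain ⟨Y, hY⟩ := hsum x
    choose t ht using fun i => hrange (Pi.single i 1) (Y i + (-polar qh e' (D (Y i))) • w₁)
    refine ⟨∑ i, t i, ?_⟩
    rw [hk, mul_apply', mul_apply', hY, map_sum]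
    simp only [hm.row_pure, hCD]
    refine g.1.injective ?_
    rw [apply_inv_apply', ← TensorMaxU.sl1_apply, map_sum, map_sum]
    refine Finset.sum_congr rfl fun i _ => ?_
    rw [TensorMaxU.sl1_apply, ht, map_add, map_smul]
  refine (hm.start_or_tensor_of_slice hM hb hq hu hu hkM hkJ).resolve_right fun hkT => ?_
  obtain ⟨A', C', hA', hC', hAC⟩ := TensorMaxU.tensor_pure hkT
  have hC2 : ∀ v, C.1 (C.1 v) = (2 : F) • C.1 v - v := fun v => by
    simp only [hCv, map_add, map_smul, polar_add_right, polar_smul_r', polar_self', hsing w₁, he', hee',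
      polar_comm _ e' e, show qh e = 0 from hsing w₁]
    module
  have hk2 : ∀ X, k.1 (k.1 X) = (2 : F) • k.1 X - X := fun X => by
    simp only [hk, mul_apply', apply_inv_apply']
    apply g.1.injective
    rw [apply_inv_apply', map_sub, map_smul, apply_inv_apply']
    refine LinearMap.congr_fun (TensorMaxO.ext_pure
      (φ := (hm.row C).1.toLinearMap ∘ₗ (hm.row C).1.toLinearMap) (ψ := (2 : F) • (hm.row C).1.toLinearMap - LinearMap.id)
      fun p w => ?_) (g.1 X)
    simp only [LinearMap.comp_apply, LinearEquiv.coe_coe, LinearMap.sub_apply, LinearMap.smul_apply, LinearMap.id_apply,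
      hm.row_pure, hC2]
    exact (map_sub (TensorMaxU.sl1 b p) _ _).trans (by rw [map_smul]; rfl)
  have h2 : ∀ p w, vecMulVec (A' (A' p)) (C' (C' w)) = (2 : F) • vecMulVec (A' p) (C' w) - vecMulVec p w := fun p w => by
    rw [← hAC, ← hAC]; exact hk2 _
  set p₀ : Fin a → F := Pi.single ⟨0, by omega⟩ 1 with hp₀
  have hp₀0 : p₀ ≠ 0 := by simp [hp₀]
  have hmove : ∀ p x, g.1 (vecMulVec u x) = vecMulVec p e₂ →
      k.1 (vecMulVec u x) = vecMulVec u x - (g⁻¹).1 (vecMulVec p e) := fun p x hx => by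
    refine g.1.injective ?_
    rw [hk, mul_apply', mul_apply', apply_inv_apply', hx, hm.row_pure, map_sub, hx, apply_inv_apply', hCD,
      polar_comm _ e' (D w₂), he₂', neg_one_smul, ← sub_eq_add_neg]
    exact map_sub (TensorMaxU.sl1 b p) _ _
  rcases scalar_of_sq hm.two h2 with ⟨α, hα⟩ | ⟨γ, hγ⟩
  · set D'' : (Fin b → F) →ₗ[F] (Fin b → F) := α • C' - LinearMap.id with hD''
    have hkD : ∀ p w, k.1 (vecMulVec p w) - vecMulVec p w = vecMulVec p (D'' w) := fun p w => by
      rw [hAC, hα, hD'', LinearMap.sub_apply, LinearMap.smul_apply, LinearMap.id_apply]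
      exact (by rw [smul_vecMulVec, ← vecMulVec_smul] :
        vecMulVec (α • p) (C' w) - vecMulVec p w = vecMulVec p (α • C' w) - vecMulVec p w).trans
        (map_sub (TensorMaxU.sl1 b p) _ _).symm
    set R := LinearMap.range D'' with hR
    -- the rank is at most two
    set E : Submodule F (Fin b → F) := Submodule.span F {e, e'} with hE
    have hEdim : finrank F E ≤ 2 := by
      refine (finrank_span_le_card (R := F) ({e, e'} : Set (Fin b → F))).trans ?_
      simp only [Set.toFinset_insert, Set.toFinset_singleton]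
      exact Finset.card_insert_le _ _
    set S := k.1.toLinearMap - LinearMap.id with hS
    have hrowE : ∀ Z i, ((hm.row C).1 Z - Z) i ∈ E := fun Z i => by
      show C.1 (Z i) - Z i ∈ E
      rw [hCv, add_assoc, add_sub_cancel_left]
      exact E.add_mem (E.smul_mem _ (Submodule.subset_span (by simp))) (E.smul_mem _ (Submodule.subset_span (by simp)))
    let Ψ : LinearMap.range S →ₗ[F] (Fin a → E) :=
      { toFun := fun X i => ⟨g.1 X.1 i, by
          obtain ⟨Y, hY⟩ := X.2
          rw [← hY]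
          have e1 : g.1 (S Y) = (hm.row C).1 (g.1 Y) - g.1 Y := by
            simp [hS, hk, mul_apply']
          rw [e1]
          exact hrowE _ i⟩
        map_add' := fun X Y => funext fun i => Subtype.ext (congrFun (map_add g.1 X.1 Y.1) i)
        map_smul' := fun t X => funext fun i => Subtype.ext (congrFun (map_smul g.1 t X.1) i) }
    have hΨ : Function.Injective Ψ := fun X Y hXY => Subtype.ext (g.1.injective (funext fun i =>
      congrArg Subtype.val (congrFun hXY i)))
    choose w hw using fun y : R => y.2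
    have hmem : ∀ y : Fin a → R, (Matrix.of fun i => (y i).1) ∈ LinearMap.range S := fun y => by
      refine ⟨∑ i, vecMulVec (Pi.single i 1) (w (y i)), ?_⟩
      rw [map_sum, TensorMaxU.matrix_eq_sum (Matrix.of fun i => (y i).1)]
      refine Finset.sum_congr rfl fun i _ => ?_
      show k.1 _ - _ = _
      rw [LinearMap.id_apply, hkD, hw]
      rfl
    let Ξ : (Fin a → R) →ₗ[F] LinearMap.range S :=
      { toFun := fun y => ⟨_, hmem y⟩
        map_add' := fun y y' => rfl
        map_smul' := fun t y => rfl }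
    have hΞ : Function.Injective Ξ := fun y y' hy => funext fun i =>
      Subtype.ext (congrFun (congrArg Subtype.val hy) i)
    have h3 := LinearMap.finrank_le_finrank_of_injective (f := Ψ ∘ₗ Ξ) (hΨ.comp hΞ)
    rw [Module.finrank_pi_fintype, Module.finrank_pi_fintype] at h3
    simp only [Finset.sum_const, Finset.card_univ, Fintype.card_fin, smul_eq_mul] at h3
    have hR2 : finrank F R ≤ 2 := (Nat.le_of_mul_le_mul_left h3 (by omega)).trans hEdim
    -- but the range on the slice is too large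
    have hin : ∀ p, ct1 b f n ((g⁻¹).1 (vecMulVec p e)) ∈ R := fun p => by
      obtain ⟨x, hx⟩ := hrange p w₂
      refine ⟨x, ?_⟩
      have h := congrArg (ct1 b f n) ((hkD u x).symm.trans (congrArg (· - vecMulVec u x) (hmove p x hx)))
      rw [show vecMulVec u x - (g⁻¹).1 (vecMulVec p e) - vecMulVec u x = -(g⁻¹).1 (vecMulVec p e) by abel, map_neg,
        ct1_vecMulVec, hm.fswap u n, hun, neg_one_smul] at h
      exact neg_injective h
    let Θ : (Fin a → F) →ₗ[F] R :=
      (ct1 b f n ∘ₗ (g⁻¹).1.toLinearMap ∘ₗ TensorMaxU.sl2 a e).codRestrict R hin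
    have hΘ : Function.Injective Θ := (injective_iff_map_eq_zero _).2 fun p hp => by
      have h : ct1 b f n ((g⁻¹).1 (vecMulVec p e)) = 0 := congrArg Subtype.val hp
      obtain ⟨x, hx⟩ := hrange p w₁
      rw [← hx, inv_apply_apply', ct1_vecMulVec, hm.fswap u n, hun, neg_one_smul, neg_eq_zero] at h
      rw [h, TensorMax.vecMulVec_zero', map_zero, eq_comm, TensorMax.vecMulVec_eq_zero_iff'] at hx
      exact hx.resolve_right hw₁
    have h4 := LinearMap.finrank_le_finrank_of_injective hΘ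
    rw [finrank_fin_fun] at h4
    omega
  · obtain ⟨x, hx⟩ := hrange p₀ w₂
    obtain ⟨x₁, hx₁⟩ := hrange p₀ w₁
    have h1 := hAC u x
    have h1' := hAC u x₁
    rw [hγ] at h1 h1'
    have hfix : k.1 (vecMulVec u x₁) = vecMulVec u x₁ := g.1.injective (by
      rw [hk, mul_apply', mul_apply', apply_inv_apply', hx₁, hm.row_pure, hCD, polar_comm _ e' (D w₁), hee', neg_zero,
        zero_smul, add_zero])
    have hx₁0 : x₁ ≠ 0 := fun e0 => by
      rw [e0, TensorMax.vecMulVec_zero', map_zero, eq_comm, TensorMax.vecMulVec_eq_zero_iff'] at hx₁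
      exact hx₁.elim hp₀0 hw₁
    rw [hfix, vecMulVec_smul, ← smul_vecMulVec] at h1'
    have hAu : γ • A' u = u := TensorMaxU.sl2_injective (a := a) hx₁0 h1'.symm
    rw [hmove p₀ x hx, vecMulVec_smul, ← smul_vecMulVec, hAu, sub_eq_self, LinearEquiv.map_eq_zero_iff,
      TensorMax.vecMulVec_eq_zero_iff'] at h1
    exact h1.elim hp₀0 hw₁

/-- A conjugate root element that is a tensor map gives a transvection. -/
theorem start_of_conj (ha : 3 ≤ a) {g : isomGroup B} (hg : g ∈ M) (hgT : ¬ IsTensor g.1) {u : Fin a → F} (hu : u ≠ 0)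
    (hT : IsTensor (g * hm.tau u 1 * g⁻¹).1) : Start hm.altB M qh := by
  classical
  obtain ⟨n, hn⟩ := alt_exists_partner hm.ndf.1 hu
  set z := g * hm.tau u 1 * g⁻¹
  have hz : ∀ X, z.1 X = X + g.1 (vecMulVec u (ct1 b f u ((g⁻¹).1 X))) := fun X => by
    show g.1 ((hm.tau u 1).1 ((g⁻¹).1 X)) = _
    rw [hm.tau_apply, map_add, apply_inv_apply', one_smul]
  have hz2 : ∀ X, z.1 (z.1 X) = (2 : F) • z.1 X - X := fun X => by
    rw [hz (z.1 X), hz X, map_add, inv_apply_apply', map_add, ct1_vecMulVec, hm.altf u, zero_smul, add_zero]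
    module
  obtain ⟨A, C, hA, hC, hAC⟩ := TensorMaxU.tensor_pure hT
  have h2 : ∀ p w, vecMulVec (A (A p)) (C (C w)) = (2 : F) • vecMulVec (A p) (C w) - vecMulVec p w := fun p w => by
    rw [← hAC, ← hAC]; exact hz2 _
  have hne : ∃ p w, z.1 (vecMulVec p w) ≠ vecMulVec p w := by
    by_contra! hall
    obtain ⟨x, hx⟩ : ∃ x : Fin b → F, x ≠ 0 := ⟨Pi.single ⟨0, by omega⟩ 1, by simp⟩
    have h := LinearMap.congr_fun (TensorMaxO.ext_pure (φ := z.1.toLinearMap) (ψ := LinearMap.id) hall)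
      (g.1 (vecMulVec n x))
    rw [LinearEquiv.coe_coe, hz, inv_apply_apply', ct1_vecMulVec, hn, one_smul, LinearMap.id_apply, add_eq_left,
      LinearEquiv.map_eq_zero_iff, TensorMax.vecMulVec_eq_zero_iff'] at h
    exact h.elim hu hx
  obtain ⟨p₁, w₁, hpw⟩ := hne
  rcases scalar_of_sq hm.two h2 with ⟨α, hα⟩ | ⟨γ, hγ⟩
  · set D : (Fin b → F) →ₗ[F] (Fin b → F) := α • C - LinearMap.id with hD
    have hzD : ∀ p w, z.1 (vecMulVec p w) = vecMulVec p (w + D w) := fun p w => by
      rw [hAC, hα, hD, LinearMap.sub_apply, LinearMap.smul_apply, LinearMap.id_apply, add_sub_cancel, smul_vecMulVec,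
        vecMulVec_smul]
    have hD' : ∀ p w, g.1 (vecMulVec u (ct1 b f u ((g⁻¹).1 (vecMulVec p w)))) = vecMulVec p (D w) := fun p w => by
      have h := (hz _).symm.trans (hzD p w)
      rwa [vecMulVec_add, add_right_inj] at h
    have hinj := TensorMaxU.sl1_injective (b := b) hu
    have hD2 : ∀ w, D (D w) = 0 := fun w => hinj (by
      have h := hz2 (vecMulVec u w)
      rw [hzD, hzD, map_add, vecMulVec_add, vecMulVec_add, vecMulVec_add] at h
      rw [TensorMaxU.sl1_apply, map_zero]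
      linear_combination (norm := module) h)
    refine hm.start_of_conj_row hM hb hq ha hg hn (fun x y => ?_) hD2 hD' fun e => hpw (by
      rw [hzD, e, LinearMap.zero_apply, add_zero])
    have h := mem_isomGroup.1 z.2 (vecMulVec u x) (vecMulVec n (y - D y))
    rw [hzD, hzD, hm.pol, hm.pol, map_sub, hD2, sub_zero, sub_add_cancel, hn, one_mul, one_mul, polar_add_left,
      polar_sub_right] at h
    linear_combination h
  · have hd : ∀ w, g.1 (vecMulVec u (ct1 b f u ((g⁻¹).1 (vecMulVec p₁ w)))) = vecMulVec (γ • A p₁ - p₁) w := fun w => by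
      have h := hAC p₁ w
      rw [hz, hγ, vecMulVec_smul, ← smul_vecMulVec] at h
      rw [sub_vecMulVec, ← h, add_sub_cancel_left]
    refine (hm.start_or_tensor_of_slice hM hb hq (u := γ • A p₁ - p₁) (u' := u) ?_ hu (M.inv_mem hg)
      fun w => ⟨_, by rw [← hd w, inv_apply_apply']⟩).resolve_right (not_isTensor_inv hgT)
    intro e
    refine hpw ?_
    rw [hAC, hγ, vecMulVec_smul, ← smul_vecMulVec, sub_eq_zero.1 e]

end Model

end CfsgLib.Classical.TensorMaxSp
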