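import Cfsg.Agent.Lib.Classical.Dickson.Generation

/-!
# An element of even order in a group generated by two transvections
-/

set_option autoImplicit false
set_option linter.unusedSectionVars false

namespace CfsgLib.Classical.TensorMaxSp

open Matrix Polynomial
open scoped MatrixGroups

/-- Two non-commuting transvections of a finite field of odd characteristic generate a group of even order. -/
theorem exists_order_two {L : Type*} [Field L] [Finite L] (h2 : (2 : L) ≠ 0) {l : L} (hl : l ≠ 0) :
    ∃ s ∈ Subgroup.closure ({Dickson.lowT, Dickson.upT l} : Set SL(2, L)), orderOf s = 2 := by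
  classical
  set K := Subfield.closure ({l} : Set L)
  set l' : K := ⟨l, Subfield.subset_closure rfl⟩
  haveI : Fintype K := Fintype.ofFinite K
  obtain ⟨p, hp⟩ := CharP.exists K
  haveI := hp
  haveI : Fact p.Prime := ⟨(CharP.char_is_prime_or_zero K p).resolve_right (CharP.char_ne_zero_of_finite K p)⟩
  have h2' : (2 : K) ≠ 0 := fun e => h2 (by
    have h := congrArg K.subtype e
    rwa [map_ofNat, map_zero] at h)
  have hgen : Subfield.closure ({l'} : Set K) = ⊤ := by
    refine eq_top_iff.2 fun x _ => ?_
    have hle : K ≤ (Subfield.closure ({l'} : Set K)).map K.subtype := by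
      rw [K.subtype.map_field_closure, Set.image_singleton]
      exact le_of_eq rfl
    obtain ⟨y, hy, hyx⟩ := hle x.2
    rwa [show x = y from Subtype.ext hyx.symm]
  set H := Subgroup.closure ({Dickson.lowT, Dickson.upT l'} : Set SL(2, K))
  have heven : 2 ∣ Nat.card H := by
    rcases Dickson.closure_transvections p h2' (fun e => hl (congrArg Subtype.val e)) hgen with ⟨h, -⟩ | ⟨-, -, h⟩
    · change H = ⊤ at h
      have hne : (-1 : SL(2, K)) ≠ 1 := fun e => h2' (by
        have h0 := congrArg (fun g : SL(2, K) => (g : Matrix (Fin 2) (Fin 2) K) 0 0) e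
        simp at h0
        linear_combination -h0)
      have hord : orderOf (⟨-1, h ▸ Subgroup.mem_top _⟩ : H) = 2 :=
        orderOf_eq_prime (Subtype.ext (by simp)) fun e => hne (congrArg Subtype.val e)
      exact (dvd_of_eq hord.symm).trans (orderOf_dvd_natCard _)
    · change Nat.card H = 120 at h
      rw [h]; norm_num
  haveI : Fact (Nat.Prime 2) := ⟨Nat.prime_two⟩
  obtain ⟨s, hs⟩ := exists_prime_orderOf_dvd_card' 2 heven
  set φ := Matrix.SpecialLinearGroup.map (n := Fin 2) K.subtype
  have hφ : Function.Injective φ := fun x y e => Subtype.ext (Matrix.ext fun i j => Subtype.ext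
    (congrArg (fun g : SL(2, L) => (g : Matrix (Fin 2) (Fin 2) L) i j) e))
  refine ⟨φ s, ?_, by rw [orderOf_injective φ hφ, Subgroup.orderOf_coe, hs]⟩
  have hmap : H.map φ = Subgroup.closure ({Dickson.lowT, Dickson.upT l} : Set SL(2, L)) := by
    rw [MonoidHom.map_closure, Set.image_pair]
    congr 2 <;> [skip; congr 1] <;> ext i j <;> fin_cases i <;> fin_cases j <;> rfl
  rw [← hmap]
  exact ⟨s, s.2, rfl⟩

end CfsgLib.Classical.TensorMaxSp
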