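import Cfsg.Agent.Lib.Classical.TensorMaxSp.Dickson

/-!
# An involution generated by two root elements

`J` and `R` are maps into `V` with left partners `J'` and `R'`; the two root elements are `1 + J J'` and `1 + R R'`,
and `θ = J' R R' J`.
-/

set_option autoImplicit false
set_option linter.unusedSectionVars false

namespace CfsgLib.Classical.TensorMaxSp

open Matrix Polynomial Module
open scoped MatrixGroups

variable {F : Type*} [Field F] {V W : Type*} [AddCommGroup V] [Module F V] [AddCommGroup W] [Module F W]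

/-- The data of two root elements. -/
structure RootData (J : W →ₗ[F] V) (J' : V →ₗ[F] W) (R : W →ₗ[F] V) (R' : V →ₗ[F] W) : Prop where
  hJ : ∀ w, J' (J w) = 0
  hR : ∀ w, R' (R w) = 0

variable {J : W →ₗ[F] V} {J' : V →ₗ[F] W} {R : W →ₗ[F] V} {R' : V →ₗ[F] W}

/-- The map `J' R R' J`. -/
def thetaMap (J : W →ₗ[F] V) (J' : V →ₗ[F] W) (R : W →ₗ[F] V) (R' : V →ₗ[F] W) : Module.End F W :=
  J' ∘ₗ R ∘ₗ R' ∘ₗ J

/-- `g` acts through the matrix `m` of polynomials in `θ`. -/
structure ActsAs (J : W →ₗ[F] V) (J' : V →ₗ[F] W) (R : W →ₗ[F] V) (R' : V →ₗ[F] W) (g : V ≃ₗ[F] V)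
    (m : Matrix (Fin 2) (Fin 2) F[X]) : Prop where
  colJ : ∀ y, g (J (thetaMap J J' R R' y)) = J (aeval (thetaMap J J' R R') (m 0 0) (thetaMap J J' R R' y)) +
    R (R' (J (aeval (thetaMap J J' R R') (m 1 0) (thetaMap J J' R R' y))))
  colR : ∀ y, g (R (R' (J (thetaMap J J' R R' y)))) =
    J (aeval (thetaMap J J' R R') (m 0 1) (thetaMap J J' R R' y)) +
      R (R' (J (aeval (thetaMap J J' R R') (m 1 1) (thetaMap J J' R R' y))))
  perp : ∀ X, R' (J (J' X)) = 0 → J' (R (R' X)) = 0 →
    ∃ k q, R' (J k) = 0 ∧ J' (R q) = 0 ∧ g X = X + (J k + R q)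
  fix : ∀ k q, R' (J k) = 0 → J' (R q) = 0 → g (J k + R q) = J k + R q

theorem aeval_comm (θ : Module.End F W) (p : F[X]) (y : W) : aeval θ p (θ y) = θ (aeval θ p y) := by
  have h := ((commute_X p).map (aeval θ)).eq
  rw [aeval_X] at h
  exact (LinearMap.congr_fun h y).symm

theorem actsAs_one : ActsAs J J' R R' 1 1 := by
  refine ⟨fun y => ?_, fun y => ?_, fun X _ _ => ⟨0, 0, by simp, by simp, by simp⟩, fun k q _ _ => rfl⟩
  · simp
  · simp

theorem ActsAs.mul {g g' : V ≃ₗ[F] V} {m m' : Matrix (Fin 2) (Fin 2) F[X]} (hg : ActsAs J J' R R' g m)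
    (hg' : ActsAs J J' R R' g' m') : ActsAs J J' R R' (g * g') (m * m') := by
  set θ := thetaMap J J' R R' with hθ
  refine ⟨fun y => ?_, fun y => ?_, fun X h1 h2 => ?_, fun k q hk hq => ?_⟩
  · rw [LinearEquiv.mul_apply, hg'.colJ, ← hθ, map_add, aeval_comm, aeval_comm, hg.colJ, hg.colR]
    simp only [← hθ, ← aeval_comm, Matrix.mul_apply, Fin.sum_univ_two, map_add, map_mul, LinearMap.add_apply,
      Module.End.mul_apply]
    abel
  · rw [LinearEquiv.mul_apply, hg'.colR, ← hθ, map_add, aeval_comm, aeval_comm, hg.colJ, hg.colR]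
    simp only [← hθ, ← aeval_comm, Matrix.mul_apply, Fin.sum_univ_two, map_add, map_mul, LinearMap.add_apply,
      Module.End.mul_apply]
    abel
  · obtain ⟨k', q', hk', hq', e'⟩ := hg'.perp X h1 h2
    obtain ⟨k, q, hk, hq, e⟩ := hg.perp X h1 h2
    refine ⟨k + k', q + q', by rw [map_add, map_add, hk, hk', add_zero], by rw [map_add, map_add, hq, hq', add_zero], ?_⟩
    rw [LinearEquiv.mul_apply, e', map_add, e, hg.fix k' q' hk' hq', map_add, map_add]
    abel
  · rw [LinearEquiv.mul_apply, hg'.fix k q hk hq, hg.fix k q hk hq]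

theorem actsAs_upper (hP : RootData J J' R R') {g : V ≃ₗ[F] V} {c : F} (hg : ∀ X, g X = X + c • J (J' X)) :
    ActsAs J J' R R' g !![1, C c * X; 0, 1] := by
  refine ⟨fun y => ?_, fun y => ?_, fun X h1 _ => ⟨c • J' X, 0, ?_, by simp, ?_⟩, fun k q _ hq => ?_⟩
  · simp [hg, hP.hJ]
  · simp [hg, thetaMap, LinearMap.comp_apply]
    abel
  · rw [map_smul, map_smul, h1, smul_zero]
  · rw [hg, map_smul, map_zero, add_zero]
  · rw [hg, map_add, hP.hJ, hq, add_zero, map_zero, smul_zero, add_zero]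

theorem actsAs_lower (hP : RootData J J' R R') {g : V ≃ₗ[F] V} {c : F} (hg : ∀ X, g X = X + c • R (R' X)) :
    ActsAs J J' R R' g !![1, 0; C c, 1] := by
  refine ⟨fun y => ?_, fun y => ?_, fun X _ h2 => ⟨0, c • R' X, by simp, ?_, ?_⟩, fun k q hk _ => ?_⟩
  · simp [hg, thetaMap, LinearMap.comp_apply]
  · simp [hg, hP.hR]
  · rw [map_smul, map_smul, h2, smul_zero]
  · rw [hg, map_smul, map_zero, zero_add]
  · rw [hg, map_add, hP.hR, hk, add_zero, map_zero, smul_zero, add_zero]

/-- A non-zero root of the minimal polynomial of a map with a non-zero non-nilpotent part. -/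
theorem exists_root_ext [FiniteDimensional F W] [Finite F] (θ : Module.End F W) (hne : θ ≠ 0)
    (hk : ∀ y, θ (θ y) = 0 → θ y = 0) :
    ∃ q : F[X], Irreducible q ∧ q ∣ minpoly F θ ∧ ¬ q ∣ (Polynomial.X : F[X]) := by
  have hint : IsIntegral F θ := Algebra.IsIntegral.isIntegral θ
  have hp0 : minpoly F θ ≠ 0 := minpoly.ne_zero hint
  obtain ⟨r, hr, hrX⟩ := exists_eq_pow_rootMultiplicity_mul_and_not_dvd (minpoly F θ) hp0 0
  rw [map_zero, sub_zero] at hr hrX
  set j := rootMultiplicity 0 (minpoly F θ)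
  have hru : ¬ IsUnit r := by
    intro hu
    obtain ⟨c, hc, rfl⟩ := Polynomial.isUnit_iff.1 hu
    have h := minpoly.aeval F θ
    rw [hr, map_mul, map_pow, aeval_X, aeval_C] at h
    have hnil : ∀ y, (θ ^ j) y = 0 := fun y => by
      have h' := LinearMap.congr_fun h y
      rw [Module.End.mul_apply, Module.algebraMap_end_apply, map_smul, LinearMap.zero_apply] at h'
      exact hc.smul_eq_zero.1 h'
    have hker : ∀ (i : ℕ) y, (θ ^ (i + 1)) y = 0 → θ y = 0 := by
      intro i
      induction i with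
      | zero => intro y hy; simpa using hy
      | succ i ih =>
        intro y hy
        rw [pow_succ, Module.End.mul_apply] at hy
        exact hk y (ih _ hy)
    refine hne (LinearMap.ext fun y => hker j y ?_)
    rw [pow_succ', Module.End.mul_apply, hnil, map_zero]
  obtain ⟨q, hq, hqr⟩ := WfDvdMonoid.exists_irreducible_factor hru fun e => hp0 (by rw [hr, e, mul_zero])
  refine ⟨q, hq, hr ▸ dvd_mul_of_dvd_right hqr _, fun hqX => hrX ?_⟩
  exact ((hq.associated_of_dvd Polynomial.irreducible_X hqX).dvd_iff_dvd_left).1 hqr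

/-- An involution among the words in two root elements. -/
theorem exists_involution [Finite F] [FiniteDimensional F W] {G : Type*} [Group G] [Finite G]
    (ρ : G →* (V ≃ₗ[F] V)) (hP : RootData J J' R R') (h2 : (2 : F) ≠ 0) {t r : G}
    (ht : ∀ X, ρ t X = X + J (J' X)) (hr : ∀ X, ρ r X = X + R (R' X)) (hJi : Function.Injective J)
    (hne : thetaMap J J' R R' ≠ 0)
    (hk : ∀ y, thetaMap J J' R R' (thetaMap J J' R R' y) = 0 → thetaMap J J' R R' y = 0) :
    ∃ z ∈ Subgroup.closure ({t, r} : Set G), z ≠ 1 ∧ z * z = 1 ∧ ∃ s : Module.End F W,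
      (∀ y, s (thetaMap J J' R R' y) = thetaMap J J' R R' (s y)) ∧
      (∀ y, s (s (thetaMap J J' R R' y)) = thetaMap J J' R R' y) ∧
      (∀ y, ρ z (J (thetaMap J J' R R' y)) = J (s (thetaMap J J' R R' y))) ∧
      (∀ y, ρ z (R (R' (J (thetaMap J J' R R' y)))) = R (R' (J (s (thetaMap J J' R R' y))))) ∧
      ∀ X, R' (J (J' X)) = 0 → J' (R (R' X)) = 0 → ρ z X = X := by
  classical
  set θ := thetaMap J J' R R' with hθ
  obtain ⟨q, hq, hqθ, hqX⟩ := exists_root_ext θ hne hk
  haveI := Fact.mk hq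
  haveI : Module.Finite F (AdjoinRoot q) := (AdjoinRoot.powerBasis hq.ne_zero).finite
  haveI : Finite (AdjoinRoot q) := Module.finite_of_finite F
  set l := AdjoinRoot.root q
  have hl : l ≠ 0 := fun e => hqX (AdjoinRoot.mk_eq_zero.1 (by rw [AdjoinRoot.mk_X]; exact e))
  set ev : F[X] →+* AdjoinRoot q := AdjoinRoot.mk q
  have hevθ : ∀ p : F[X], (∀ y, aeval θ p (θ y) = 0) → ev p = 0 := fun p hp => by
    have h : minpoly F θ ∣ p * Polynomial.X := minpoly.dvd F θ (LinearMap.ext fun y => by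
      rw [map_mul, aeval_X, Module.End.mul_apply, hp, LinearMap.zero_apply])
    rcases hq.prime.dvd_or_dvd (hqθ.trans h) with h' | h'
    · exact AdjoinRoot.mk_eq_zero.2 h'
    · exact absurd h' hqX
  set φ : SL(2, F[X]) →* SL(2, AdjoinRoot q) := Matrix.SpecialLinearGroup.map ev
  let U : F → SL(2, F[X]) := fun c => ⟨!![1, C c * Polynomial.X; 0, 1], by simp [det_fin_two]⟩
  let L : F → SL(2, F[X]) := fun c => ⟨!![1, 0; C c, 1], by simp [det_fin_two]⟩
  have hU : ∀ c d, U c * U d = U (c + d) := fun c d => Subtype.ext (by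
    change !![(1 : F[X]), C c * Polynomial.X; 0, 1] * !![1, C d * Polynomial.X; 0, 1] =
      !![1, C (c + d) * Polynomial.X; 0, 1]
    simp [add_mul, add_comm])
  have hL : ∀ c d, L c * L d = L (c + d) := fun c d => Subtype.ext (by
    change !![(1 : F[X]), 0; C c, 1] * !![1, 0; C d, 1] = !![1, 0; C (c + d), 1]
    simp)
  have hU0 : U 0 = 1 := Subtype.ext (by simp [U, Matrix.one_fin_two])
  have hL0 : L 0 = 1 := Subtype.ext (by simp [L, Matrix.one_fin_two])
  set Γ : Subgroup (G × SL(2, F[X])) := Subgroup.closure {(t, U 1), (r, L 1)} with hΓ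
  have key : ∀ x ∈ Γ, ActsAs J J' R R' (ρ x.1) x.2.1 := by
    intro x hx
    induction hx using Subgroup.closure_induction'' with
    | mem x hx =>
      rcases hx with rfl | rfl
      · exact actsAs_upper hP (c := 1) fun X => by rw [one_smul]; exact ht X
      · exact actsAs_lower hP (c := 1) fun X => by rw [one_smul]; exact hr X
    | inv_mem x hx =>
      rcases hx with rfl | rfl
      · have e : (U 1)⁻¹ = U (-1) := inv_eq_of_mul_eq_one_right (by rw [hU, add_neg_cancel, hU0])
        rw [Prod.snd_inv, Prod.fst_inv, e]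
        refine actsAs_upper hP (c := -1) fun X => (ρ t).injective ?_
        rw [map_inv, show ρ t ((ρ t)⁻¹ X) = X from (ρ t).apply_symm_apply X, ht, map_add J', map_smul J',
          hP.hJ, smul_zero, add_zero, neg_one_smul]
        abel
      · have e : (L 1)⁻¹ = L (-1) := inv_eq_of_mul_eq_one_right (by rw [hL, add_neg_cancel, hL0])
        rw [Prod.snd_inv, Prod.fst_inv, e]
        refine actsAs_lower hP (c := -1) fun X => (ρ r).injective ?_
        rw [map_inv, show ρ r ((ρ r)⁻¹ X) = X from (ρ r).apply_symm_apply X, hr, map_add R', map_smul R',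
          hP.hR, smul_zero, add_zero, neg_one_smul]
        abel
    | one => simpa using actsAs_one
    | mul x y _ _ hx hy => simpa using hx.mul hy
  have h2L : (2 : AdjoinRoot q) ≠ 0 := by
    rw [← map_ofNat (algebraMap F (AdjoinRoot q))]
    exact (_root_.map_ne_zero _).2 h2
  obtain ⟨σ, hσ, hσ2⟩ := exists_order_two h2L hl
  have hmap : Γ.map (φ.comp (MonoidHom.snd G _)) =
      Subgroup.closure ({Dickson.lowT, Dickson.upT l} : Set SL(2, AdjoinRoot q)) := by
    rw [hΓ, MonoidHom.map_closure, Set.image_pair, Set.pair_comm]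
    congr 2 <;> [skip; congr 1] <;> ext i j <;> fin_cases i <;> fin_cases j <;>
      first
      | exact map_one ev
      | exact map_zero ev
      | (show AdjoinRoot.mk q (C (1 : F) * Polynomial.X) = AdjoinRoot.root q; rw [map_one, one_mul, AdjoinRoot.mk_X])
      | (show AdjoinRoot.mk q (C (1 : F)) = 1; rw [map_one, map_one])
  rw [← hmap] at hσ
  obtain ⟨⟨g, m⟩, hgm, hφm⟩ := hσ
  change φ m = σ at hφm
  -- powers acting as the identity
  have hone : ∀ {g' : G} {m' : Matrix (Fin 2) (Fin 2) F[X]}, g' = 1 → ActsAs J J' R R' (ρ g') m' → ∀ y i j,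
      aeval θ (m' i j) (θ y) = if i = j then θ y else 0 := by
    intro g' m' hg' hA
    subst hg'
    have h10 : ∀ y, aeval θ (m' 1 0) (θ y) = 0 := fun y => by
      have e := congrArg J' (hA.colJ y)
      rw [map_one, LinearEquiv.coe_one, id_eq, map_add, hP.hJ, hP.hJ, zero_add] at e
      change 0 = θ (aeval θ (m' 1 0) (θ y)) at e
      rw [aeval_comm] at e ⊢
      exact hk _ e.symm
    have h11 : ∀ y, aeval θ (m' 1 1) (θ y) = θ y := fun y => by
      have e := congrArg J' (hA.colR y)
      rw [map_one, LinearEquiv.coe_one, id_eq, map_add, hP.hJ, zero_add] at e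
      change θ (θ y) = θ (aeval θ (m' 1 1) (θ y)) at e
      rw [aeval_comm] at e ⊢
      have h := hk (aeval θ (m' 1 1) y - y) (by rw [map_sub, map_sub, ← e, sub_self])
      rwa [map_sub, sub_eq_zero] at h
    have h00 : ∀ y, aeval θ (m' 0 0) (θ y) = θ y := fun y => hJi (by
      have e := hA.colJ y
      rw [map_one, LinearEquiv.coe_one, id_eq, h10, map_zero, map_zero, map_zero, add_zero] at e
      exact e.symm)
    have h01 : ∀ y, aeval θ (m' 0 1) (θ y) = 0 := fun y => hJi (by
      have e := hA.colR y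
      rw [map_one, LinearEquiv.coe_one, id_eq, h11, right_eq_add] at e
      rw [e, map_zero])
    intro y i j
    fin_cases i <;> fin_cases j <;> simp [h00, h01, h10, h11]
  set n := orderOf g with hn
  have hn2 : 2 ∣ n := by
    rw [← hσ2]
    refine orderOf_dvd_of_pow_eq_one ?_
    have hA := hone (pow_orderOf_eq_one g) (key _ (Γ.pow_mem hgm n))
    rw [← hφm, ← map_pow]
    refine Subtype.ext (Matrix.ext fun i j => ?_)
    have h0 : ev ((m ^ n).1 i j - (1 : Matrix (Fin 2) (Fin 2) F[X]) i j) = 0 := hevθ _ fun y => by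
      rw [map_sub, LinearMap.sub_apply]
      have hAy := hA y i j
      simp only [Prod.pow_snd] at hAy
      rw [hAy, Matrix.one_apply]
      split_ifs <;> simp
    rw [map_sub, sub_eq_zero] at h0
    refine h0.trans ?_
    rw [Matrix.one_apply]
    split_ifs with hij <;> simp [hij]
  obtain ⟨k, hk2⟩ := hn2
  have hk0 : k ≠ 0 := fun e => by
    have := orderOf_pos g
    omega
  set z := g ^ k with hz
  have hzz : z * z = 1 := by rw [hz, ← pow_add, ← two_mul, ← hk2, hn, pow_orderOf_eq_one]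
  have hz1 : z ≠ 1 := fun e => by
    have := Nat.le_of_dvd (Nat.pos_of_ne_zero hk0) (orderOf_dvd_of_pow_eq_one e)
    omega
  have hzΓ : (z, m ^ k) ∈ Γ := by simpa using Γ.pow_mem hgm k
  refine ⟨z, ?_, hz1, hzz, ?_⟩
  · have h : (z, m ^ k) ∈ Γ := hzΓ
    have hmap' : Γ.map (MonoidHom.fst G _) = Subgroup.closure {t, r} := by
      rw [hΓ, MonoidHom.map_closure, Set.image_pair]
      rfl
    rw [← hmap']
    exact ⟨_, h, rfl⟩
  have hAz := key _ hzΓ
  have hA2 := hone hzz (key _ (Γ.mul_mem hzΓ hzΓ))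
  set N := (m ^ k).1 with hN
  set T := N 0 0 + N 1 1 with hT
  have hd : N 0 0 * N 1 1 - N 0 1 * N 1 0 = 1 := by
    rw [← det_fin_two]
    exact (m ^ k).2
  have hsq : ∀ i j y, aeval θ (T * N i j) (θ y) = if i = j then (2 : F) • θ y else 0 := by
    intro i j y
    have e := hA2 y i j
    change aeval θ ((N * N) i j) (θ y) = _ at e
    have e' : (N * N) i j = T * N i j - (if i = j then 1 else 0) := by
      fin_cases i <;> fin_cases j <;> simp [Matrix.mul_apply, Fin.sum_univ_two, hT] <;>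
        first | linear_combination -hd | ring
    rw [e', map_sub, LinearMap.sub_apply, sub_eq_iff_eq_add] at e
    rw [e]
    split_ifs <;> simp [two_smul]
  have hmul : ∀ (p p' : F[X]) y, aeval θ (p * p') (θ y) = aeval θ p (aeval θ p' (θ y)) := fun p p' y => by
    rw [map_mul, Module.End.mul_apply]
  have hoff : ∀ i j, i ≠ j → ∀ y, aeval θ (N i j) (θ y) = 0 := fun i j hij y => by
    have e1 := hsq i j y
    rw [if_neg hij] at e1
    have e2 : aeval θ (N i j * (T * N 0 0)) (θ y) = 0 := by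
      rw [show N i j * (T * N 0 0) = N 0 0 * (T * N i j) by ring, hmul, e1, map_zero]
    rw [hmul, hsq 0 0 y, if_pos rfl, map_smul] at e2
    exact (smul_eq_zero.1 e2).resolve_left h2
  have hdiag : ∀ y, aeval θ (N 1 1) (θ y) = aeval θ (N 0 0) (θ y) := fun y => by
    have e1 : aeval θ (N 1 1 * (T * N 0 0)) (θ y) = aeval θ (N 0 0 * (T * N 1 1)) (θ y) := by ring_nf
    rw [hmul (N 1 1) (T * N 0 0), hmul (N 0 0) (T * N 1 1), hsq, hsq, if_pos rfl, if_pos rfl, map_smul, map_smul] at e1
    exact smul_right_injective W h2 e1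
  refine ⟨aeval θ (N 0 0), fun y => aeval_comm θ (N 0 0) y, fun y => ?_, fun y => ?_, fun y => ?_, fun X h1 hq' => ?_⟩
  · have e := hA2 y 0 0
    change aeval θ ((N * N) 0 0) (θ y) = _ at e
    rw [Matrix.mul_apply, Fin.sum_univ_two, map_add, LinearMap.add_apply, hmul, hmul (N 0 1), hoff 1 0 (by decide),
      map_zero, add_zero, if_pos rfl] at e
    exact e
  · have e := hAz.colJ y
    rw [← hθ, hoff 1 0 (by decide)] at e
    simpa using e
  · have e := hAz.colR y
    rw [← hθ, hoff 0 1 (by decide), hdiag] at e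
    simpa using e
  · obtain ⟨kk, qq, hkk, hqq, e⟩ := hAz.perp X h1 hq'
    have e2 : ρ z (ρ z X) = X := by rw [← LinearEquiv.mul_apply, ← map_mul, hzz, map_one]; rfl
    rw [e, map_add, e, hAz.fix kk qq hkk hqq, add_assoc, add_eq_left, ← two_smul F] at e2
    rw [e, (smul_eq_zero.1 e2).resolve_left h2, add_zero]

end CfsgLib.Classical.TensorMaxSp
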