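import Cfsg.Agent.Lib.Classical.TensorMaxSp.Skew

/-!
# A non-tensor element gives a transvection when the symplectic factor is two-dimensional
-/

set_option autoImplicit false
set_option linter.unusedSectionVars false

namespace CfsgLib.Classical.TensorMaxSp

open Matrix Module QuadraticMap CfsgLib.Orth CfsgLib.Classical
open CfsgLib.Classical.TensorMax (IsTensor)
open CfsgLib.Classical.TensorMaxS (ct1)
open CfsgLib.Classical.TensorMaxO (ct ct_apply ct_vecMulVec ext_pure NoPlane)
open CfsgLib.Classical.TensorMaxU (rowMap colMap rowMap_vecMulVec colMap_vecMulVec isTensor_rowMap isTensor_colMap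
  sl1 sl1_apply sl1_injective sl2 sl2_injective)

variable {F : Type*} [Field F] [Fintype F] {a b : ℕ}
  {B : Matrix (Fin a) (Fin b) F →ₗ[F] Matrix (Fin a) (Fin b) F →ₗ[F] F}
  {f : (Fin a → F) →ₗ[F] (Fin a → F) →ₗ[F] F} {qh : QuadraticForm F (Fin b → F)} {M : Subgroup (isomGroup B)}

namespace Model

variable (hm : Model B f qh)
include hm

/-- A plane that is no slice gives a transvection. -/
theorem start_of_plane (hM : ContainsTensor M) (hb : 4 ≤ b) (hpl : NoPlane qh) (ha : a = 2) {Z₁ Z₂ : Matrix (Fin a) (Fin b) F}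
    (h : PlaneInv M Z₁ Z₂) (hnp : ∀ z₁ z₂ e, Z₁ = vecMulVec z₁ e → Z₂ ≠ vecMulVec z₂ e) :
    Start hm.altB M qh := by
  classical
  have hq : (∃ s : F, s ≠ 0 ∧ s * s ≠ 1) ∨ 4 ≤ b := Or.inr (by omega)
  -- pure vectors of the plane
  have hswap : PlaneInv M Z₂ (-Z₁) := by
    have h' := PlaneInv.basis hm h 0 1 (-1) 0 (by ring)
    simpa using h'
  have pure2 : ∀ z e, Z₂ = vecMulVec z e → Start hm.altB M qh := fun z e hZ => by
    rw [hZ] at hswap
    refine hm.start_of_pureVec hM (by omega) hq ha hswap fun z' hz' => hnp (-z') z e ?_ hZ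
    rw [neg_vecMulVec, ← hz', neg_neg]
  obtain ⟨x₀, hx₀⟩ : ∃ x : Fin a → F, x ≠ 0 := ⟨Pi.single ⟨0, by omega⟩ 1, by simp⟩
  obtain ⟨n₀, hn₀⟩ := alt_exists_partner hm.ndf.1 hx₀
  set p := -ct1 b f n₀ Z₂ with hp
  set r := ct1 b f x₀ Z₂ with hr
  have hZ₂ : ∀ v, ct a qh v Z₂ = polar qh v p • x₀ + polar qh v r • n₀ := fun v => by
    conv_lhs => rw [hm.coords2 ha hn₀ (ct a qh v Z₂)]
    rw [← hm.left_eq2, hm.left_eq, hm.fswap n₀ (ct a qh v Z₂), ← hm.left_eq2, hm.left_eq, hp, polar_neg_right,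
      ← hr]
    abel
  by_cases hind : LinearIndependent F ![p, r]
  swap
  · rw [LinearIndependent.pair_iff] at hind
    push_neg at hind
    obtain ⟨s, t, hst, hne⟩ := hind
    rcases eq_or_ne s 0 with rfl | hs
    · have ht := hne rfl
      rw [zero_smul, zero_add, smul_eq_zero] at hst
      refine pure2 x₀ p (hm.ext_ct fun v => ?_)
      rw [hZ₂, ct_vecMulVec, hst.resolve_left ht, polar_zero_right, zero_smul, add_zero]
    · refine pure2 ((-t / s) • x₀ + n₀) r (hm.ext_ct fun v => ?_)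
      have hpr : p = (-t / s) • r := by
        apply smul_right_injective _ hs
        simp only
        rw [smul_smul, mul_div_cancel₀ _ hs, neg_smul]
        exact eq_neg_of_add_eq_zero_left hst
      rw [hZ₂, ct_vecMulVec, hpr, polar_smul_r']
      module
  by_cases hs₁ : ∃ v, ct a qh v Z₂ = 0 ∧ ct a qh v Z₁ ≠ 0
  · by_cases hs₂ : ∃ v, ct a qh v Z₁ = 0 ∧ ct a qh v Z₂ ≠ 0
    · exact hm.start_of_zeros hM hb hpl ha h hs₁ hs₂
    push_neg at hs₂
    -- a kernel is contained in the other one, so the first vector is pure or both kernels agree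
    obtain ⟨v₁, hv₁, hv₁'⟩ := hs₁
    set L₁ : (Fin b → F) →ₗ[F] (Fin a → F) := (ct a qh).flip Z₁ with hL₁
    set L₂ : (Fin b → F) →ₗ[F] (Fin a → F) := (ct a qh).flip Z₂ with hL₂
    have hlt : LinearMap.ker L₁ < LinearMap.ker L₂ := lt_of_le_not_ge (fun v hv => hs₂ v hv) fun hle =>
      hv₁' (hle (show v₁ ∈ LinearMap.ker L₂ from hv₁))
    exfalso
    have hsurj : LinearMap.range L₂ = ⊤ := by
      obtain ⟨vr, hvr0, hvr⟩ := exists_polar_one hm.ndh (show r ∉ F ∙ p from fun hmem => by
        obtain ⟨c, hc⟩ := Submodule.mem_span_singleton.1 hmem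
        exact one_ne_zero (neg_eq_zero.1 (LinearIndependent.pair_iff.1 hind c (-1) (by rw [hc]; module)).2))
      obtain ⟨vp, hvp0, hvp⟩ := exists_polar_one hm.ndh (show p ∉ F ∙ r from fun hmem => by
        obtain ⟨c, hc⟩ := Submodule.mem_span_singleton.1 hmem
        exact one_ne_zero (neg_eq_zero.1 (LinearIndependent.pair_iff.1 hind (-1) c (by rw [hc]; module)).1))
      refine top_unique fun y _ => ?_
      rw [hm.coords2 ha hn₀ y]
      refine ⟨f x₀ y • vr + f y n₀ • vp, ?_⟩
      rw [map_add, map_smul, map_smul, show L₂ vr = ct a qh vr Z₂ from rfl, show L₂ vp = ct a qh vp Z₂ from rfl,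
        hZ₂, hZ₂, hvr, hvp, hvr0 p (Submodule.mem_span_singleton_self p),
        hvp0 r (Submodule.mem_span_singleton_self r)]
      module
    have h1 := Submodule.finrank_lt_finrank_of_lt hlt
    have h2 := L₁.finrank_range_add_finrank_ker
    have h3 := L₂.finrank_range_add_finrank_ker
    have h4 := Submodule.finrank_le (LinearMap.range L₁)
    rw [hsurj, finrank_top] at h3
    simp only [finrank_fin_fun] at h2 h3 h4
    omega
  push_neg at hs₁
  obtain ⟨vr, hvr0, hvr⟩ := exists_polar_one hm.ndh (show r ∉ F ∙ p from fun hmem => by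
    obtain ⟨c, hc⟩ := Submodule.mem_span_singleton.1 hmem
    exact one_ne_zero (neg_eq_zero.1 (LinearIndependent.pair_iff.1 hind c (-1) (by rw [hc]; module)).2))
  obtain ⟨vp, hvp0, hvp⟩ := exists_polar_one hm.ndh (show p ∉ F ∙ r from fun hmem => by
    obtain ⟨c, hc⟩ := Submodule.mem_span_singleton.1 hmem
    exact one_ne_zero (neg_eq_zero.1 (LinearIndependent.pair_iff.1 hind (-1) c (by rw [hc]; module)).1))
  have hvr0' := hvr0 p (Submodule.mem_span_singleton_self p)
  have hvp0' := hvp0 r (Submodule.mem_span_singleton_self r)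
  set P₁ := ct a qh vp Z₁
  set P₂ := ct a qh vr Z₁
  have hZ₁ : ∀ v, ct a qh v Z₁ = polar qh v p • P₁ + polar qh v r • P₂ := fun v => by
    have e := hs₁ (v - polar qh v p • vp - polar qh v r • vr) (by
      rw [hZ₂, polar_sub_left, polar_sub_left, polar_sub_left, polar_sub_left, polar_smul_l', polar_smul_l',
        polar_smul_l', polar_smul_l', hvp, hvr, hvr0', hvp0']
      module)
    simp only [map_sub, map_smul, LinearMap.sub_apply, LinearMap.smul_apply] at e
    rwa [sub_sub, sub_eq_zero] at e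
  by_cases hlam : ∃ l : F, f (P₁ - l • x₀) (P₂ - l • n₀) = 0
  · -- the plane has a pure vector
    obtain ⟨l, hl⟩ := hlam
    have hct : ∀ v, ct a qh v (Z₁ - l • Z₂) = polar qh v p • (P₁ - l • x₀) + polar qh v r • (P₂ - l • n₀) :=
      fun v => by
        rw [map_sub, map_smul, hZ₁, hZ₂]
        module
    have h' : PlaneInv M (Z₁ - l • Z₂) Z₂ := by
      have h' := PlaneInv.basis hm h 1 (-l) 0 1 (by ring)
      simpa [sub_eq_add_neg] using h'
    obtain ⟨z, e, hze⟩ : ∃ z e, Z₁ - l • Z₂ = vecMulVec z e := by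
      rcases eq_or_ne (P₁ - l • x₀) 0 with h0 | h0
      · exact ⟨P₂ - l • n₀, r, hm.ext_ct fun v => by
          rw [hct, h0, smul_zero, zero_add, ct_vecMulVec]⟩
      · obtain ⟨n, hn⟩ := alt_exists_partner hm.ndf.1 h0
        refine ⟨P₁ - l • x₀, p + f (P₂ - l • n₀) n • r, hm.ext_ct fun v => ?_⟩
        rw [hct]
        conv_lhs => rw [hm.coords2 ha hn (P₂ - l • n₀), hl, zero_smul, zero_add]
        rw [ct_vecMulVec, polar_add_right, polar_smul_r']
        module
    rw [hze] at h'
    refine hm.start_of_pureVec hM (by omega) hq ha h' fun z' hz' => hnp (z + l • z') z' e ?_ hz'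
    rw [add_vecMulVec, smul_vecMulVec, ← hze, ← hz']
    abel
  push_neg at hlam
  set d := f x₀ P₁ with hd
  have hd0 : d ≠ 0 := by
    intro e
    have eP : P₁ = f P₁ n₀ • x₀ := by
      conv_lhs => rw [hm.coords2 ha hn₀ P₁, ← hd, e, zero_smul, zero_add]
    refine hlam (f P₁ n₀) ?_
    rw [← eP, sub_self, map_zero, LinearMap.zero_apply]
  set β := d⁻¹ with hβ
  set α := -(d⁻¹ * f P₁ n₀) with hα
  have hn₀' : n₀ = α • x₀ + β • P₁ := by
    conv_rhs => rw [hm.coords2 ha hn₀ P₁, ← hd]
    simp only [hα, hβ]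
    match_scalars <;> field_simp <;> ring
  set y₂ := d⁻¹ * f x₀ P₂ with hy₂
  set x₂ := f P₂ n₀ - y₂ * f P₁ n₀ with hx₂
  have hP₂ : P₂ = x₂ • x₀ + y₂ • P₁ := by
    conv_rhs => rw [hm.coords2 ha hn₀ P₁, ← hd]
    conv_lhs => rw [hm.coords2 ha hn₀ P₂]
    simp only [hx₂, hy₂]
    match_scalars <;> field_simp <;> ring
  have hβ0 : β ≠ 0 := inv_ne_zero hd0
  set N := -x₂ / β with hN
  set s := (y₂ - α) / β with hs
  have hdet : ∀ l, f (P₁ - l • x₀) (P₂ - l • n₀) = d * β * (N - l * s + l * l) := fun l => by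
    rw [hP₂]
    conv_lhs => rw [hn₀']
    simp only [map_add, map_sub, map_smul, LinearMap.add_apply, LinearMap.sub_apply, LinearMap.smul_apply, smul_eq_mul,
      hm.altf x₀, hm.altf P₁, hm.fswap x₀ P₁, ← hd, hN, hs]
    field_simp
    ring
  refine hm.start_of_skew hM hb hpl ha h (x := x₀) (y := P₁) hd0 (s := s) (N := N) (fun e => ?_) (fun l e => ?_)
    (e₀ := p + α • r) (e₁ := β • r) ?_ (fun v => ?_) (fun v => ?_)
  · refine hlam ((s + 1) / 2) ?_
    rw [hdet, show N - (s + 1) / 2 * s + (s + 1) / 2 * ((s + 1) / 2) = 0 by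
      have := hm.two
      field_simp
      linear_combination -e, mul_zero]
  · exact hlam l (by rw [hdet, e, mul_zero])
  · refine LinearIndependent.pair_iff.2 fun c c' e => ?_
    obtain ⟨h3, h4⟩ := LinearIndependent.pair_iff.1 hind c (c * α + c' * β) (by rw [← e]; module)
    subst h3
    rw [zero_mul, zero_add, mul_eq_zero] at h4
    exact ⟨rfl, h4.resolve_right hβ0⟩
  · rw [hZ₂, polar_add_right, polar_smul_r', polar_smul_r']
    conv_lhs => rw [hn₀']
    module
  · rw [hZ₁, hP₂, polar_add_right, polar_smul_r', polar_smul_r', hN, hs]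
    match_scalars <;> field_simp <;> ring

/-- An element of `M` is a tensor map or gives a transvection. -/
theorem start_of_not_tensor_two (hM : ContainsTensor M) (hb : 4 ≤ b) (hpl : NoPlane qh) (ha : a = 2) {g : isomGroup B} (hg : g ∈ M)
    (hgT : ¬ IsTensor g.1) : Start hm.altB M qh := by
  classical
  by_cases hall : ∀ v, qh v ≠ 0 → ∃ v' : Fin b → F, ∀ u, ∃ u', g.1 (vecMulVec u v) = vecMulVec u' v'
  swap
  · push_neg at hall
    obtain ⟨v, hv, hnp⟩ := hall
    obtain ⟨x₀, hx₀⟩ : ∃ x : Fin a → F, x ≠ 0 := ⟨Pi.single ⟨0, by omega⟩ 1, by simp⟩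
    obtain ⟨n₀, hn₀⟩ := alt_exists_partner hm.ndf.1 hx₀
    refine hm.start_of_plane hM hb hpl ha ((hm.planeInv_slice hM ha hn₀ hv).conj hg) fun z₁ z₂ e h1 h2 => ?_
    obtain ⟨u, hu⟩ := hnp e
    refine hu (f u n₀ • z₁ + (f x₀ u * (2 * qh v)) • z₂) ?_
    conv_lhs => rw [hm.coords2 ha hn₀ u]
    rw [map_smul] at h2
    rw [add_vecMulVec, map_add, smul_vecMulVec, smul_vecMulVec, map_smul, map_smul, h1, add_vecMulVec,
      smul_vecMulVec, smul_vecMulVec, ← h2, smul_smul, mul_assoc, mul_inv_cancel₀ (mul_ne_zero hm.two hv), mul_one,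
      add_comm]
  refine absurd ?_ hgT
  obtain ⟨bs, hbs⟩ : ∃ e : Basis (Fin b) F (Fin b → F),
      (∀ i, qh (e i) ≠ 0) ∧ ∀ i j, i ≠ j → polar qh (e i) (e j) = 0 := by
    haveI : Invertible (2 : F) := invertibleOfNonzero hm.two
    obtain ⟨v, hv⟩ := LinearMap.BilinForm.exists_orthogonal_basis (B := polarBilin qh)
      ⟨fun x y => by simpa using polar_comm qh x y⟩
    refine ⟨v.reindex (finCongr (by rw [finrank_fin_fun])), fun i h => ?_, fun i j hij => ?_⟩
    · rw [Basis.reindex_apply] at h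
      exact LinearMap.BilinForm.iIsOrtho.not_isOrtho_basis_self_of_nondegenerate hv hm.ndh _
        (show polarBilin qh (v _) (v _) = 0 by rw [QuadraticMap.polarBilin_apply_apply, polar_self', h, mul_zero])
    · simp only [Basis.reindex_apply]
      exact hv ((Equiv.injective _).ne hij)
  obtain ⟨hq0, horth⟩ := hbs
  choose φ hφ using fun i => hall (bs i) (hq0 i)
  choose hfun hh using hφ
  have hbs0 : ∀ i, bs i ≠ 0 := fun i => bs.ne_zero i
  have hsurj : ∀ i y, ∃ u, g.1 (vecMulVec u (bs i)) = vecMulVec y (φ i) := fun i y => by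
    have hinj : Function.Injective (hfun i) := fun u u' e => sl2_injective (a := a) (hbs0 i)
      (g.1.injective (show g.1 (vecMulVec u (bs i)) = g.1 (vecMulVec u' (bs i)) by rw [hh, hh, e]))
    obtain ⟨u, hu⟩ := Finite.injective_iff_surjective.1 hinj y
    exact ⟨u, by rw [hh, hu]⟩
  have hφind : LinearIndependent F φ := by
    refine Fintype.linearIndependent_iff.2 fun c hc j => ?_
    obtain ⟨y, hy⟩ : ∃ y : Fin a → F, y ≠ 0 := ⟨Pi.single ⟨0, by omega⟩ 1, by simp⟩
    choose u hu using fun i => hsurj i y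
    have e : g.1 (∑ i, c i • vecMulVec (u i) (bs i)) = 0 := by
      simp only [map_sum, map_smul, hu]
      simp only [← sl1_apply]
      rw [← map_zero (sl1 b y), ← hc, map_sum]
      simp only [map_smul]
    have e' := congrArg (ct a qh (bs j)) (g.1.map_eq_zero_iff.1 e)
    rw [map_sum, map_zero, Finset.sum_eq_single j (fun i _ hij => by
      rw [map_smul, ct_vecMulVec, horth j i (Ne.symm hij), zero_smul, smul_zero])
      (fun h => absurd (Finset.mem_univ j) h), map_smul, ct_vecMulVec,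
      polar_self', smul_eq_zero, smul_eq_zero] at e'
    refine e'.resolve_right (not_or.2 ⟨mul_ne_zero hm.two (hq0 j), fun h => ?_⟩)
    have e2 := hu j
    rw [h, zero_vecMulVec, map_zero, eq_comm, TensorMax.vecMulVec_eq_zero_iff'] at e2
    rcases e2 with e2 | e2
    · exact hy e2
    · have e3 := hh j y
      rw [e2, TensorMax.vecMulVec_zero', LinearEquiv.map_eq_zero_iff, TensorMax.vecMulVec_eq_zero_iff'] at e3
      exact e3.elim hy (hbs0 j)
  haveI : Nonempty (Fin b) := ⟨⟨0, by omega⟩⟩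
  set φb := basisOfLinearIndependentOfCardEqFinrank hφind (by rw [Fintype.card_fin, finrank_fin_fun]) with hφb
  have hφb' : ∀ i, φb i = φ i := fun i => by
    rw [hφb, coe_basisOfLinearIndependentOfCardEqFinrank]
  set δ : Fin b → (Fin b → F) := fun i => (LinearMap.BilinForm.toDual (polarBilin qh) hm.ndh).symm (φb.coord i)
  have hδ : ∀ i j, polar qh (δ i) (φ j) = if i = j then 1 else 0 := fun i j => by
    rw [← QuadraticMap.polarBilin_apply_apply, LinearMap.BilinForm.apply_toDual_symm_apply, ← hφb',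
      Basis.coord_apply, Basis.repr_self, Finsupp.single_apply]
    simp [eq_comm]
  set A : Fin b → (Fin a → F) →ₗ[F] (Fin a → F) := fun i => ct a qh (δ i) ∘ₗ g.1.toLinearMap ∘ₗ sl2 a (bs i)
  have hA : ∀ i u, g.1 (vecMulVec u (bs i)) = vecMulVec (A i u) (φ i) := fun i u => by
    show _ = vecMulVec (ct a qh (δ i) (g.1 (vecMulVec u (bs i)))) (φ i)
    rw [hh, ct_vecMulVec, hδ, if_pos rfl, one_smul]
  have hAi : ∀ i u, A i u = 0 → u = 0 := fun i u hu => by
    have e := hA i u
    rw [hu, zero_vecMulVec, LinearEquiv.map_eq_zero_iff, TensorMax.vecMulVec_eq_zero_iff'] at e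
    exact e.resolve_right (hbs0 i)
  have hrel : ∀ i j, i ≠ j → ∃ c : F, ∀ u, A i u = c • A j u := by
    intro i j hij
    obtain ⟨k, hki, hkj⟩ : ∃ k, k ≠ i ∧ k ≠ j := by
      by_contra! hk
      have hsub : (Finset.univ : Finset (Fin b)) ⊆ {i, j} := fun k _ => by
        by_cases h : k = i
        · simp [h]
        · simp [hk k h]
      have := Finset.card_le_card hsub
      rw [Finset.card_univ, Fintype.card_fin, Finset.card_pair hij] at this
      omega
    obtain ⟨ε, hε⟩ : ∃ ε : F, qh (bs i + bs j + ε • bs k) ≠ 0 := by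
      by_contra! hall'
      have e0 := hall' 0
      have e1 := hall' 1
      simp only [quad_add', quad_smul', polar_add_left, polar_smul_r', horth i j hij, horth i k (Ne.symm hki),
        horth j k (Ne.symm hkj)] at e0 e1
      exact hq0 k (by linear_combination e1 - e0)
    obtain ⟨ψ, hψ⟩ := hall _ hε
    choose u' hu' using hψ
    have key : ∀ l, (l = i ∨ l = j) → ∀ u, A l u = polar qh (δ l) ψ • u' u := fun l hl u => by
      have e := congrArg (ct a qh (δ l)) (hu' u)
      simp only [vecMulVec_add, vecMulVec_smul, map_add, map_smul, hA, ct_vecMulVec] at e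
      simp only [hδ] at e
      rcases hl with rfl | rfl
      · simpa [hij, Ne.symm hki] using e
      · simpa [Ne.symm hij, Ne.symm hkj] using e
    obtain ⟨y, hy⟩ : ∃ y : Fin a → F, y ≠ 0 := ⟨Pi.single ⟨0, by omega⟩ 1, by simp⟩
    have hcj : polar qh (δ j) ψ ≠ 0 := fun e => hy (hAi j y (by rw [key j (Or.inr rfl), e, zero_smul]))
    exact ⟨polar qh (δ i) ψ / polar qh (δ j) ψ, fun u => by
      rw [key i (Or.inl rfl), key j (Or.inr rfl), smul_smul, div_mul_cancel₀ _ hcj]⟩
  set j₀ : Fin b := ⟨0, by omega⟩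
  have hrel' : ∀ i, ∃ c : F, ∀ u, A i u = c • A j₀ u := fun i => by
    by_cases h : i = j₀
    · exact ⟨1, fun u => by rw [h, one_smul]⟩
    · exact hrel i j₀ h
  choose c hc using hrel'
  set ψ := bs.constr F fun i => c i • φ i with hψdef
  have hgψ : ∀ u w, g.1 (vecMulVec u w) = vecMulVec (A j₀ u) (ψ w) := fun u w =>
    LinearMap.congr_fun (bs.ext (f₁ := g.1.toLinearMap ∘ₗ sl1 b u) (f₂ := sl1 b (A j₀ u) ∘ₗ ψ) fun i => by
      show g.1 (vecMulVec u (bs i)) = vecMulVec (A j₀ u) (ψ (bs i))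
      rw [hψdef, Basis.constr_basis, hA, hc i u, smul_vecMulVec, vecMulVec_smul]) w
  obtain ⟨y, hy⟩ : ∃ y : Fin a → F, y ≠ 0 := ⟨Pi.single ⟨0, by omega⟩ 1, by simp⟩
  have hψi : Function.Injective ψ := (injective_iff_map_eq_zero _).2 fun w hw => by
    have e := hgψ y w
    rw [hw, TensorMax.vecMulVec_zero', LinearEquiv.map_eq_zero_iff, TensorMax.vecMulVec_eq_zero_iff'] at e
    exact e.resolve_left hy
  have hA0 : Function.Injective (A j₀) := (injective_iff_map_eq_zero _).2 (hAi j₀)
  rw [show g.1 = colMap (LinearEquiv.ofInjectiveEndo (A j₀) hA0) * rowMap (LinearEquiv.ofInjectiveEndo ψ hψi) from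
    LinearEquiv.toLinearMap_injective (ext_pure fun u w => by
      simp only [LinearEquiv.coe_coe, LinearEquiv.mul_apply, rowMap_vecMulVec, colMap_vecMulVec, hgψ]
      rfl)]
  exact (isTensor_colMap _).mul (isTensor_rowMap _)

end Model

end CfsgLib.Classical.TensorMaxSp
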