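import Cfsg.Agent.Lib.Classical.TensorMaxSp.Climb
import Cfsg.Agent.Lib.Classical.TensorMaxSp.Plane
import Cfsg.Agent.Lib.Classical.TensorMaxSp.Axes

/-!
# The tensor maps are a maximal subgroup of the isometry group
-/

set_option autoImplicit false
set_option linter.unusedSectionVars false

namespace CfsgLib.Classical.TensorMaxSp

open Matrix Module QuadraticMap CfsgLib.Orth CfsgLib.Classical
open CfsgLib.Classical.TensorMax (IsTensor)
open CfsgLib.Classical.TensorMaxS (ct1 ct1_vecMulVec)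

variable {F : Type*} [Field F] [Fintype F] {a b : ℕ}
  {B : Matrix (Fin a) (Fin b) F →ₗ[F] Matrix (Fin a) (Fin b) F →ₗ[F] F}
  {f : (Fin a → F) →ₗ[F] (Fin a → F) →ₗ[F] F} {qh : QuadraticForm F (Fin b → F)} {M : Subgroup (isomGroup B)}

namespace Model

variable (hm : Model B f qh)
include hm

/-- An overgroup of the tensor maps with a further element is everything. -/
theorem eq_top_of_not_tensor (hab : (4 ≤ a ∧ 3 ≤ b) ∨ (a = 2 ∧ 4 ≤ b ∧ TensorMaxO.NoPlane qh))
    (hq : (∃ s : F, s ≠ 0 ∧ s * s ≠ 1) ∨ 4 ≤ b) (hM : ContainsTensor M) {g : isomGroup B} (hg : g ∈ M)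
    (hgT : ¬ IsTensor g.1) : M = ⊤ := by
  rcases hab with ⟨ha, hb⟩ | ⟨ha, hb, hnp⟩
  · exact hm.eq_top hM hb (hm.start_of_not_tensor hM hb hq ha hg hgT)
  · exact hm.eq_top hM (by omega) (hm.start_of_not_tensor_two hM hb hnp ha hg hgT)

/-- Some isometry is no tensor map. -/
theorem exists_not_tensor (ha : 0 < a) (hb : 3 ≤ b) : ∃ g : isomGroup B, ¬ IsTensor g.1 := by
  set u : Fin a → F := Pi.single ⟨0, ha⟩ 1 with hudef
  have hu : u ≠ 0 := by simp [hudef]
  obtain ⟨n, hun⟩ := alt_exists_partner hm.ndf.1 hu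
  set w : Fin b → F := Pi.single ⟨0, by omega⟩ 1 with hwdef
  have hw : w ≠ 0 := by simp [hwdef]
  obtain ⟨w', hww', hw'⟩ : ∃ w', polar qh w w' ≠ 0 ∧ w' ∉ F ∙ w := by
    obtain ⟨z, -, hz⟩ := exists_polar_one hm.ndh (W := ⊥) (show w ∉ (⊥ : Submodule F (Fin b → F)) by simpa using hw)
    obtain ⟨x, hx, hxw⟩ : ∃ x ∈ LinearMap.ker (polarBilin qh w), x ∉ F ∙ w := by
      by_contra! hall
      have h1 := TensorMaxO.finrank_kerPolar (Q := qh) w
      have h2 := Submodule.finrank_mono (show LinearMap.ker (polarBilin qh w) ≤ F ∙ w from hall)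
      rw [finrank_span_singleton hw] at h2
      rw [finrank_fin_fun] at h1
      omega
    rw [TensorMaxO.mem_ker_polar] at hx
    by_cases hzw : z ∈ F ∙ w
    · refine ⟨z + x, ?_, fun hmem => hxw ?_⟩
      · rw [polar_add_right, polar_comm _ w z, hz, hx, add_zero]
        exact one_ne_zero
      · simpa using Submodule.sub_mem _ hmem hzw
    · exact ⟨z, by rw [polar_comm, hz]; exact one_ne_zero, hzw⟩
  refine ⟨tv hm.altB (vecMulVec u w) 1, fun hT => ?_⟩
  obtain ⟨A, C, -, -, hAC⟩ := TensorMaxU.tensor_pure hT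
  have e := hAC n w'
  rw [tv_apply, hm.pol, one_mul] at e
  have e1 := congrArg (ct1 b f u) e
  have e2 := congrArg (ct1 b f n) e
  simp only [map_add, map_smul, ct1_vecMulVec, hm.altf u, hm.altf n, hun, hm.fswap u n, one_smul, zero_smul, smul_zero,
    add_zero, zero_add] at e1 e2
  have hr : f u (A n) ≠ 0 := fun h => by
    rw [h, zero_smul] at e1
    exact hw' (e1 ▸ Submodule.zero_mem _)
  have hC : C w' = (f u (A n))⁻¹ • w' := by
    conv_rhs => rw [e1]
    rw [inv_smul_smul₀ hr]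
  rw [hC, smul_smul, smul_smul] at e2
  have hc : (-1 : F) * polar qh w' w * -1 ≠ 0 := by
    simp only [ne_eq, mul_eq_zero, neg_eq_zero, one_ne_zero, or_false, false_or]
    rwa [polar_comm]
  refine hw' (Submodule.mem_span_singleton.2 ?_)
  by_cases h0 : f n (A n) * (f u (A n))⁻¹ = 0
  · rw [h0, zero_smul, smul_eq_zero] at e2
    exact absurd (e2.resolve_right hw) (by simpa using hc)
  · refine ⟨(f n (A n) * (f u (A n))⁻¹)⁻¹ * ((-1 : F) * polar qh w' w * -1), ?_⟩
    rw [← smul_smul, e2, smul_smul, inv_mul_cancel₀ h0, one_smul]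

end Model

end CfsgLib.Classical.TensorMaxSp
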