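import Cfsg.Agent.Lib.Classical.TensorMaxSp.Centre

/-!
# Involutions that negate a non-degenerate plane

The symplectic factor is two-dimensional. `PlaneInv M p q` says that `M` contains the involution that is `-1` on the
plane of `p, q` and `1` on its orthogonal complement.
-/

set_option autoImplicit false
set_option linter.unusedSectionVars false

namespace CfsgLib.Classical.TensorMaxSp

open Matrix Module QuadraticMap CfsgLib.Orth CfsgLib.Classical
open CfsgLib.Classical.TensorMax (IsTensor)
open CfsgLib.Classical.TensorMaxS (ct1 ct1_vecMulVec)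
open CfsgLib.Classical.TensorMaxO (ct ct_apply ct_vecMulVec ext_pure)

variable {F : Type*} [Field F] {a b : ℕ}
  {B : Matrix (Fin a) (Fin b) F →ₗ[F] Matrix (Fin a) (Fin b) F →ₗ[F] F}
  {f : (Fin a → F) →ₗ[F] (Fin a → F) →ₗ[F] F} {qh : QuadraticForm F (Fin b → F)} {M : Subgroup (isomGroup B)}

/-- `M` contains the involution negating the plane of `p` and `q`. -/
def PlaneInv (M : Subgroup (isomGroup B)) (p q : Matrix (Fin a) (Fin b) F) : Prop :=
  B p q = 1 ∧ ∃ k ∈ M, ∀ X, k.1 X = X - (2 : F) • (B p X • q - B q X • p)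

theorem PlaneInv.conj {p q : Matrix (Fin a) (Fin b) F} (h : PlaneInv M p q) {g : isomGroup B} (hg : g ∈ M) :
    PlaneInv M (g.1 p) (g.1 q) := by
  obtain ⟨h1, k, hk, hX⟩ := h
  refine ⟨by rw [mem_isomGroup.1 g.2, h1], g * k * g⁻¹, M.mul_mem (M.mul_mem hg hk) (M.inv_mem hg), fun X => ?_⟩
  have e : ∀ p, B (g.1 p) X = B p ((g⁻¹).1 X) := fun p => by
    conv_lhs => rw [← apply_inv_apply' g X]
    exact mem_isomGroup.1 g.2 _ _
  rw [mul_apply', mul_apply', hX, map_sub, map_smul, map_sub, map_smul, map_smul, apply_inv_apply', e, e]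

namespace Model

variable (hm : Model B f qh)
include hm

theorem PlaneInv.basis {p q : Matrix (Fin a) (Fin b) F} (h : PlaneInv M p q) (α β γ δ : F)
    (hd : α * δ - β * γ = 1) : PlaneInv M (α • p + β • q) (γ • p + δ • q) := by
  obtain ⟨h1, k, hk, hX⟩ := h
  refine ⟨?_, k, hk, fun X => ?_⟩
  · simp only [map_add, map_smul, LinearMap.add_apply, LinearMap.smul_apply, hm.altB p, hm.altB q, h1,
      alt_swap hm.altB q p, smul_eq_mul]
    linear_combination hd
  · rw [hX]
    simp only [map_add, map_smul, LinearMap.add_apply, LinearMap.smul_apply, smul_eq_mul]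
    linear_combination (norm := module) (-(2 : F) * (-1) * hd) • (B p X • q - B q X • p)

theorem left_eq2 (u : Fin a → F) (w : Fin b → F) (X : Matrix (Fin a) (Fin b) F) :
    B (vecMulVec u w) X = f u (ct a qh w X) :=
  LinearMap.congr_fun (ext_pure (φ := B (vecMulVec u w)) (ψ := f u ∘ₗ ct a qh w) fun u' w' => by
    rw [LinearMap.comp_apply, ct_vecMulVec, map_smul, hm.pol, smul_eq_mul, mul_comm]) X

theorem right_eq2 (u : Fin a → F) (w : Fin b → F) (X : Matrix (Fin a) (Fin b) F) :
    B X (vecMulVec u w) = -f u (ct a qh w X) := by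
  rw [alt_swap hm.altB, hm.left_eq2]

theorem ext_ct {X Y : Matrix (Fin a) (Fin b) F} (e : ∀ v, ct a qh v X = ct a qh v Y) : X = Y :=
  funext fun i => eq_of_forall_polar hm.ndh fun v => congrFun (e v) i

theorem ct_row (C : orthGroup qh) (v : Fin b → F) (X : Matrix (Fin a) (Fin b) F) :
    ct a qh (C.1 v) ((hm.row C).1 X) = ct a qh v X :=
  funext fun i => by rw [ct_apply, ct_apply]; exact polar_isom C v (X i)

theorem ct_col (A : isomGroup f) (v : Fin b → F) (X : Matrix (Fin a) (Fin b) F) :
    ct a qh v ((hm.col A).1 X) = A.1 (ct a qh v X) :=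
  LinearMap.congr_fun (ext_pure (φ := ct a qh v ∘ₗ (hm.col A).1.toLinearMap) (ψ := A.1.toLinearMap ∘ₗ ct a qh v)
    fun u w => by simp [hm.col_pure]) X

/-- Coordinates in a hyperbolic basis of the plane. -/
theorem coords2 (ha : a = 2) {u n : Fin a → F} (hun : f u n = 1) (y : Fin a → F) :
    y = f u y • n + f y n • u := by
  have hli : LinearIndependent F ![u, n] := LinearIndependent.pair_iff.2 fun s t e => by
    have h1 := congrArg (f u) e
    have h2 := congrArg (fun z => f z n) e
    simp only [map_add, map_smul, LinearMap.add_apply, LinearMap.smul_apply, hm.altf u, hm.altf n, hun, smul_eq_mul,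
      map_zero, LinearMap.zero_apply] at h1 h2
    exact ⟨by linear_combination h2, by linear_combination h1⟩
  have hspan := hli.span_eq_top_of_card_eq_finrank (by rw [Fintype.card_fin, finrank_fin_fun, ha])
  refine sub_eq_zero.1 (hm.ndf.1 _ fun z => ?_)
  have hz : z ∈ Submodule.span F (Set.range ![u, n]) := hspan ▸ Submodule.mem_top
  rw [Matrix.range_cons, Matrix.range_cons, Matrix.range_empty, Set.union_empty, Set.singleton_union,
    Submodule.mem_span_pair] at hz
  obtain ⟨s, t, rfl⟩ := hz
  simp only [map_add, map_sub, map_smul, LinearMap.sub_apply, LinearMap.add_apply, LinearMap.smul_apply, smul_eq_mul,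
    hm.altf u, hm.altf n, hun, hm.fswap u n, hm.fswap u y]
  ring

/-- The involution negating a slice at an anisotropic vector. -/
theorem planeInv_slice (hM : ContainsTensor M) (ha : a = 2) {u n : Fin a → F} (hun : f u n = 1) {v : Fin b → F}
    (hv : qh v ≠ 0) : PlaneInv M (vecMulVec u v) ((2 * qh v)⁻¹ • vecMulVec n v) := by
  have h2q : 2 * qh v ≠ 0 := mul_ne_zero hm.two hv
  refine ⟨by rw [map_smul, hm.pol, hun, polar_self', one_mul, smul_eq_mul, inv_mul_cancel₀ h2q],
    hm.row (refl qh v), hM _ (hm.row_tensor _), fun X => ?_⟩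
  refine LinearMap.congr_fun (ext_pure (φ := (hm.row (refl qh v)).1.toLinearMap)
    (ψ := LinearMap.id - (2 : F) • ((B (vecMulVec u v)).smulRight ((2 * qh v)⁻¹ • vecMulVec n v) -
      (B ((2 * qh v)⁻¹ • vecMulVec n v)).smulRight (vecMulVec u v))) fun y w => ?_) X
  simp only [LinearEquiv.coe_coe, hm.row_pure, refl_apply, LinearMap.sub_apply, LinearMap.id_apply,
    LinearMap.smul_apply, LinearMap.smulRight_apply, map_smul, hm.pol, smul_eq_mul]
  conv_lhs => rw [show vecMulVec y (w - ((qh v)⁻¹ * polar qh v w) • v) =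
    vecMulVec y w - ((qh v)⁻¹ * polar qh v w) • vecMulVec (f u y • n + f y n • u) v by
      rw [vecMulVec_sub, vecMulVec_smul, ← hm.coords2 ha hun y]]
  rw [hm.fswap y n, add_vecMulVec, smul_vecMulVec, smul_vecMulVec]
  have := hm.two
  linear_combination (norm := skip) (0 : F) • vecMulVec y w
  match_scalars <;> field_simp <;> ring

/-- The product of two of the involutions is a central element. -/
theorem start_of_two [Fintype F] (hM : ContainsTensor M) (hb : 3 ≤ b)
    (hq : (∃ s : F, s ≠ 0 ∧ s * s ≠ 1) ∨ 4 ≤ b) {u : Fin a → F} (hu : u ≠ 0) {v d : Fin b → F}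
    {Z : Matrix (Fin a) (Fin b) F} (h : PlaneInv M (vecMulVec u v) Z)
    (h' : PlaneInv M (vecMulVec u v) (Z + vecMulVec u d)) (hd : d ∉ F ∙ v) : Start hm.altB M qh := by
  obtain ⟨hZ, k, hk, hkX⟩ := h
  obtain ⟨hZ', k', hk', hkX'⟩ := h'
  set c := B (vecMulVec u d) Z with hc
  set S : (Fin b → F) →ₗ[F] (Fin b → F) := (2 : F) • ((polarBilin qh v).smulRight d +
    (polarBilin qh d - (2 * c) • polarBilin qh v).smulRight v) with hS
  have hcent : Cent M f u S := ⟨k' * k, M.mul_mem hk' hk, fun X => by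
    have e : vecMulVec u (S (ct1 b f u X)) = ((2 : F) * B (vecMulVec u v) X) • vecMulVec u d +
        ((2 : F) * (B (vecMulVec u d) X - 2 * c * B (vecMulVec u v) X)) • vecMulVec u v := by
      simp only [hS, hm.left_eq, LinearMap.smul_apply, LinearMap.add_apply, LinearMap.smulRight_apply,
        LinearMap.sub_apply, QuadraticMap.polarBilin_apply_apply, vecMulVec_add, vecMulVec_smul, smul_eq_mul]
      module
    have hZd : B Z (vecMulVec u d) = -c := alt_swap hm.altB _ _
    have hdp : B (vecMulVec u v) (vecMulVec u d) = 0 := by rw [hm.pol, hm.altf u, zero_mul]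
    have hdp' : B (vecMulVec u d) (vecMulVec u v) = 0 := by rw [hm.pol, hm.altf u, zero_mul]
    rw [mul_apply', hkX', hkX, e]
    simp only [map_sub, map_smul, map_add, LinearMap.add_apply, hm.altB (vecMulVec u v), hm.altB Z, hZ,
      alt_swap hm.altB Z (vecMulVec u v), hdp', hdp, hZd, ← hc, smul_eq_mul]
    module⟩
  refine hm.start_of_cent hM hb hq hu hcent ?_
  rintro ⟨l, hl⟩
  have hv0 : v ≠ 0 := fun e => by
    rw [e, TensorMax.vecMulVec_zero', map_zero, LinearMap.zero_apply] at hZ
    exact zero_ne_one hZ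
  obtain ⟨y, hy0, hy⟩ := TensorMax.exists_perp ((polarBilin qh v).prod (polarBilin qh d))
    (by rw [finrank_prod, finrank_self]; omega)
  have hy1 : polarBilin qh v y = 0 := congrArg Prod.fst hy
  have hy2 : polarBilin qh d y = 0 := congrArg Prod.snd hy
  have hl0 : l = 0 := by
    have e := LinearMap.congr_fun hl y
    simp only [hS, LinearMap.smul_apply, LinearMap.add_apply, LinearMap.smulRight_apply, LinearMap.sub_apply, hy1,
      hy2, smul_zero, sub_zero, zero_smul, add_zero, LinearMap.id_apply] at e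
    exact (smul_eq_zero.1 e.symm).resolve_right hy0
  obtain ⟨z, -, hz⟩ := exists_polar_one hm.ndh (W := ⊥) (show v ∉ (⊥ : Submodule F (Fin b → F)) by simpa using hv0)
  have e := LinearMap.congr_fun hl z
  rw [hl0, zero_smul, LinearMap.zero_apply, hS, LinearMap.smul_apply, smul_eq_zero] at e
  have e' := e.resolve_left hm.two
  simp only [LinearMap.add_apply, LinearMap.smulRight_apply, QuadraticMap.polarBilin_apply_apply,
    polar_comm _ v z, hz, one_smul] at e'
  refine hd ?_
  rw [eq_neg_of_add_eq_zero_left e', ← neg_smul]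
  exact Submodule.smul_mem _ _ (Submodule.mem_span_singleton_self v)

/-- A plane that contains a pure vector but is no slice gives a transvection. -/
theorem start_of_pureVec [Fintype F] (hM : ContainsTensor M) (hb : 3 ≤ b)
    (hq : (∃ s : F, s ≠ 0 ∧ s * s ≠ 1) ∨ 4 ≤ b) (ha : a = 2) {u : Fin a → F} {v : Fin b → F}
    {Z : Matrix (Fin a) (Fin b) F} (h : PlaneInv M (vecMulVec u v) Z) (hZ : ∀ z, Z ≠ vecMulVec z v) :
    Start hm.altB M qh := by
  have hu : u ≠ 0 := fun e => by
    have h1 := h.1
    rw [e, zero_vecMulVec, map_zero, LinearMap.zero_apply] at h1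
    exact zero_ne_one h1
  obtain ⟨n, hn⟩ := alt_exists_partner hm.ndf.1 hu
  set y := ct1 b f u Z with hy
  by_cases hyv : y ∈ F ∙ v
  · obtain ⟨s, hs⟩ := Submodule.mem_span_singleton.1 hyv
    have hvy : polar qh v y = 1 := by rw [hy, ← hm.left_eq]; exact h.1
    have hv : qh v ≠ 0 := fun e => by
      rw [← hs, polar_smul_r', polar_self', e, mul_zero, mul_zero] at hvy
      exact zero_ne_one hvy
    set x := -ct1 b f n Z with hx
    have hZx : Z = vecMulVec n y + vecMulVec u x := hm.ext_ct fun w => by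
      rw [map_add, ct_vecMulVec, ct_vecMulVec]
      conv_lhs => rw [hm.coords2 ha hn (ct a qh w Z)]
      rw [← hm.left_eq2, hm.left_eq, ← hy, hm.fswap n (ct a qh w Z), ← hm.left_eq2, hm.left_eq, hx, polar_neg_right]
    have hxv : x ∉ F ∙ v := fun hmem => by
      obtain ⟨r, hr⟩ := Submodule.mem_span_singleton.1 hmem
      exact hZ (s • n + r • u) (by rw [hZx, ← hs, ← hr, add_vecMulVec, smul_vecMulVec, smul_vecMulVec, vecMulVec_smul,
        vecMulVec_smul])
    -- a reflection orthogonal to `v` moving `x`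
    have hvv : polar qh v v ≠ 0 := by rw [polar_self']; exact mul_ne_zero hm.two hv
    obtain ⟨w, hwv, hwx, hw⟩ : ∃ w, polar qh w v = 0 ∧ polar qh w x ≠ 0 ∧ qh w ≠ 0 := by
      obtain ⟨z, hz0, hz⟩ := exists_polar_one hm.ndh hxv
      have hzv : polar qh z v = 0 := hz0 v (Submodule.mem_span_singleton_self v)
      set x' := x - (polar qh v x / polar qh v v) • v with hx'
      have hx'v : polar qh x' v = 0 := by
        rw [hx', polar_sub_left, polar_smul_l', polar_comm _ x v, div_mul_cancel₀ _ hvv, sub_self]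
      by_cases hqx : qh x' = 0
      · have hzx : polar qh z x' = 1 := by rw [hx', polar_sub_right, polar_smul_r', hzv, hz, mul_zero, sub_zero]
        refine ⟨z + (1 - qh z) • x', ?_, ?_, ?_⟩
        · rw [polar_add_left, polar_smul_l', hzv, hx'v, mul_zero, add_zero]
        · have hxx : polar qh x' x = 0 := by
            rw [show x = x' + (polar qh v x / polar qh v v) • v by rw [hx']; abel, polar_add_right, polar_smul_r',
              polar_self', hqx, hx'v, mul_zero, mul_zero, add_zero]
          rw [polar_add_left, polar_smul_l', hz, hxx, mul_zero, add_zero]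
          exact one_ne_zero
        · rw [quad_add', quad_smul', polar_smul_r', hqx, hzx]
          ring_nf
          exact one_ne_zero
      · refine ⟨x', hx'v, ?_, hqx⟩
        rw [show x = x' + (polar qh v x / polar qh v v) • v by rw [hx']; abel, polar_add_right, polar_smul_r', hx'v,
          mul_zero, add_zero, polar_self']
        exact mul_ne_zero hm.two hqx
    set C := refl qh w with hC
    have hCv : C.1 v = v := by rw [hC, refl_apply, hwv, mul_zero, zero_smul, sub_zero]
    set d := C.1 x - x with hd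
    have h' := h.conj (hM _ (hm.row_tensor C))
    rw [hm.row_pure, hCv, show (hm.row C).1 Z = Z + vecMulVec u d by
      rw [hZx, map_add, hm.row_pure, hm.row_pure, ← hs, map_smul, hCv, hd, vecMulVec_sub]
      abel] at h'
    refine hm.start_of_two hM hb hq hu h h' fun hmem => ?_
    obtain ⟨r, hr⟩ := Submodule.mem_span_singleton.1 hmem
    have e : r • v = -(((qh w)⁻¹ * polar qh w x) • w) := by rw [hr, hd, hC, refl_apply]; abel
    have e' := congrArg (polar qh v) e
    rw [polar_smul_r', polar_neg_right, polar_smul_r', polar_comm _ v w, hwv, mul_zero, neg_zero] at e'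
    rw [(mul_eq_zero.1 e').resolve_right hvv, zero_smul, eq_comm, neg_eq_zero, smul_eq_zero] at e
    exact e.elim (mul_ne_zero (inv_ne_zero hw) hwx) fun e0 => hw (by rw [e0, QuadraticMap.map_zero])
  · have h' := h.conj (hM _ (hm.tau_tensor u 1))
    rw [hm.tau_apply, hm.tau_apply, ct1_vecMulVec, hm.altf u, zero_smul, TensorMax.vecMulVec_zero', smul_zero,
      add_zero, one_smul] at h'
    exact hm.start_of_two hM hb hq hu h h' hyv

/-- A plane whose orthogonal contains a pure anisotropic vector moved by it gives a transvection. -/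
theorem start_of_fixed [Fintype F] (hM : ContainsTensor M) (hb : 3 ≤ b)
    (hq : (∃ s : F, s ≠ 0 ∧ s * s ≠ 1) ∨ 4 ≤ b) (ha : a = 2) {Z₁ Z₂ : Matrix (Fin a) (Fin b) F}
    (h : PlaneInv M Z₁ Z₂) {u : Fin a → F} (hu : u ≠ 0) {v : Fin b → F} (hv : qh v ≠ 0)
    (h1 : f u (ct a qh v Z₁) = 0) (h2 : f u (ct a qh v Z₂) = 0)
    (hne : ct a qh v Z₁ ≠ 0 ∨ ct a qh v Z₂ ≠ 0) : Start hm.altB M qh := by
  obtain ⟨n, hn⟩ := alt_exists_partner hm.ndf.1 hu
  obtain ⟨h12, k, hk, hkX⟩ := h
  have h2q : 2 * qh v ≠ 0 := mul_ne_zero hm.two hv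
  have hB1 : B Z₁ (vecMulVec u v) = 0 := by rw [hm.right_eq2, h1, neg_zero]
  have hB2 : B Z₂ (vecMulVec u v) = 0 := by rw [hm.right_eq2, h2, neg_zero]
  have hfix : k.1 (vecMulVec u v) = vecMulVec u v := by
    rw [hkX, hB1, hB2, zero_smul, zero_smul, sub_zero, smul_zero, sub_zero]
  have h' := (hm.planeInv_slice hM ha hn hv).conj hk
  rw [hfix] at h'
  refine hm.start_of_pureVec hM hb hq ha h' fun z hz => ?_
  set c₁ := B Z₁ (vecMulVec n v)
  set c₂ := B Z₂ (vecMulVec n v)
  set w := (2 : F)⁻¹ • (n - (2 * qh v) • z) with hw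
  have hW : c₁ • Z₂ - c₂ • Z₁ = vecMulVec w v := by
    have e := congrArg ((2 * qh v) • ·) hz
    simp only [map_smul] at e
    rw [smul_inv_smul₀ h2q, hkX] at e
    rw [hw, smul_vecMulVec, sub_vecMulVec, smul_vecMulVec, ← e, sub_sub_cancel, inv_smul_smul₀ hm.two]
  have hfw : f u w = 0 := by
    have e := congrArg (B (vecMulVec u v)) hW
    simp only [map_sub, map_smul, hm.left_eq2, h1, h2, ct_vecMulVec, polar_self', smul_eq_mul, mul_zero,
      sub_self] at e
    exact (mul_eq_zero.1 e.symm).resolve_left h2q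
  have hW' : c₁ • Z₂ - c₂ • Z₁ = f w n • vecMulVec u v := by
    rw [hW, hm.coords2 ha hn w, hfw, zero_smul, zero_add, smul_vecMulVec]
    simp [map_smul, hn]
  have e1 := congrArg (B Z₁) hW'
  have e2 := congrArg (B Z₂) hW'
  simp only [map_sub, map_smul, h12, hm.altB Z₁, hm.altB Z₂, alt_swap hm.altB Z₂ Z₁, hB1, hB2, smul_eq_mul, mul_zero,
    sub_zero, zero_sub, mul_one, mul_neg, neg_neg] at e1 e2
  have hzero : ∀ Z, B Z (vecMulVec n v) = 0 → f u (ct a qh v Z) = 0 → ct a qh v Z = 0 := fun Z e e' => by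
    rw [hm.right_eq2, neg_eq_zero] at e
    rw [hm.coords2 ha hn (ct a qh v Z), e', hm.fswap n (ct a qh v Z), e]
    simp
  exact hne.elim (fun hne => hne (hzero _ e1 h1)) fun hne => hne (hzero _ e2 h2)

end Model

end CfsgLib.Classical.TensorMaxSp
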