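import Cfsg.Agent.Lib.Classical.TensorMaxSp.Centre
import Cfsg.Agent.Lib.Classical.TensorMaxS.Rad

/-!
# An element preserving a slice is a tensor map or gives a transvection
-/

set_option autoImplicit false
set_option linter.unusedSectionVars false

namespace CfsgLib.Classical.TensorMaxSp

open Matrix Module QuadraticMap CfsgLib.Orth CfsgLib.Classical
open CfsgLib.Classical.TensorMax (IsTensor)
open CfsgLib.Classical.TensorMaxS (ct1 ct1_vecMulVec ct2 ct2_vecMulVec)
open CfsgLib.Classical.TensorMaxO (ext_pure)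

variable {F : Type*} [Field F] {a b : ℕ} {B : Matrix (Fin a) (Fin b) F →ₗ[F] Matrix (Fin a) (Fin b) F →ₗ[F] F}
  {f : (Fin a → F) →ₗ[F] (Fin a → F) →ₗ[F] F} {qh : QuadraticForm F (Fin b → F)} {M : Subgroup (isomGroup B)}

/-- `k` is in the radical of the slice at `u`, moving `n ⊗ w` by `Φ w` modulo that slice. -/
structure IsRad (k : isomGroup B) (f : (Fin a → F) →ₗ[F] (Fin a → F) →ₗ[F] F) (u n : Fin a → F)
    (Φ : (Fin b → F) →ₗ[F] Matrix (Fin a) (Fin b) F) : Prop where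
  fix : ∀ x, k.1 (vecMulVec u x) = vecMulVec u x
  perp : ∀ w, ct1 b f u (Φ w) = 0
  shift : ∀ Y, ct1 b f u Y = 0 → ∃ y, k.1 Y = Y + vecMulVec u y
  phi : ∀ w, ∃ y, k.1 (vecMulVec n w) = vecMulVec n w + Φ w + vecMulVec u y

variable {u n : Fin a → F} {k k' : isomGroup B} {Φ Φ' : (Fin b → F) →ₗ[F] Matrix (Fin a) (Fin b) F}

namespace Model

variable (hm : Model B f qh)
include hm

theorem ext_ct1 {X Y : Matrix (Fin a) (Fin b) F} (e : ∀ v, ct1 b f v X = ct1 b f v Y) : X = Y :=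
  sub_eq_zero.1 (hm.ndB.2 _ fun Z => LinearMap.congr_fun (ext_pure (φ := B.flip (X - Y)) (ψ := 0) fun v w => by
    rw [LinearMap.flip_apply, hm.left_eq, map_sub, e, sub_self, polar_zero_right, LinearMap.zero_apply]) Z)

omit hm in
theorem _root_.CfsgLib.Classical.TensorMaxSp.IsRad.mul (hk : IsRad k f u n Φ) (hk' : IsRad k' f u n Φ') :
    IsRad (k * k') f u n (Φ + Φ') where
  fix x := by rw [mul_apply', hk'.fix, hk.fix]
  perp w := by rw [LinearMap.add_apply, map_add, hk.perp, hk'.perp, add_zero]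
  shift Y hY := by
    obtain ⟨y', hy'⟩ := hk'.shift Y hY
    obtain ⟨y, hy⟩ := hk.shift Y hY
    exact ⟨y + y', by rw [mul_apply', hy', map_add, hy, hk.fix, vecMulVec_add, add_assoc]⟩
  phi w := by
    obtain ⟨y', hy'⟩ := hk'.phi w
    obtain ⟨y, hy⟩ := hk.phi w
    obtain ⟨y₁, hy₁⟩ := hk.shift _ (hk'.perp w)
    refine ⟨y + y₁ + y', ?_⟩
    rw [mul_apply', hy', map_add, map_add, hy, hy₁, hk.fix, LinearMap.add_apply, vecMulVec_add, vecMulVec_add]
    abel

omit hm in
theorem _root_.CfsgLib.Classical.TensorMaxSp.IsRad.inv (hk : IsRad k f u n Φ) : IsRad k⁻¹ f u n (-Φ) where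
  fix x := k.1.injective (by rw [apply_inv_apply', hk.fix])
  perp w := by rw [LinearMap.neg_apply, map_neg, hk.perp, neg_zero]
  shift Y hY := by
    obtain ⟨y, hy⟩ := hk.shift Y hY
    refine ⟨-y, k.1.injective ?_⟩
    rw [apply_inv_apply', map_add, hy, hk.fix, add_assoc, ← vecMulVec_add, add_neg_cancel,
      TensorMax.vecMulVec_zero', add_zero]
  phi w := by
    obtain ⟨y, hy⟩ := hk.phi w
    obtain ⟨y₁, hy₁⟩ := hk.shift _ (hk.perp w)
    refine ⟨y₁ - y, k.1.injective ?_⟩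
    rw [apply_inv_apply', map_add, map_add, hy, LinearMap.neg_apply, map_neg, hy₁, hk.fix]
    rw [show vecMulVec u (y₁ - y) = vecMulVec u y₁ - vecMulVec u y from map_sub (TensorMaxU.sl1 b u) y₁ y]
    abel

theorem isRad_conj_col (hk : IsRad k f u n Φ) {A : isomGroup f} (hu : A.1 u = u) (hn : A.1 n = n) :
    IsRad (hm.col A * k * hm.col A⁻¹) f u n ((hm.col A).1.toLinearMap ∘ₗ Φ) := by
  have hinv : ∀ v, A.1 v = v → (A⁻¹).1 v = v := fun v hv => A.1.injective (by
    rw [show A.1 ((A⁻¹).1 v) = v from A.1.apply_symm_apply v, hv])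
  refine ⟨fun x => ?_, fun w => ?_, fun Y hY => ?_, fun w => ?_⟩
  · rw [mul_apply', mul_apply', hm.col_pure, hinv u hu, hk.fix, hm.col_pure, hu]
  · have h := hm.ct1_col A u (Φ w)
    rw [hu, hk.perp] at h
    exact h
  · have hY' : ct1 b f u ((hm.col A⁻¹).1 Y) = 0 := by
      have h := hm.ct1_col A⁻¹ u Y
      rwa [hinv u hu, hY] at h
    obtain ⟨y, hy⟩ := hk.shift _ hY'
    refine ⟨y, ?_⟩
    rw [mul_apply', mul_apply', hy, map_add, ← mul_apply', ← map_mul, mul_inv_cancel, map_one, hm.col_pure, hu]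
    rfl
  · obtain ⟨y, hy⟩ := hk.phi w
    refine ⟨y, ?_⟩
    rw [mul_apply', mul_apply', hm.col_pure, hinv n hn, hy, map_add, map_add, hm.col_pure, hn, hm.col_pure, hu]
    rfl

theorem isRad_conj_row (hk : IsRad k f u n Φ) (C : orthGroup qh) :
    IsRad (hm.row C * k * hm.row C⁻¹) f u n ((hm.row C).1.toLinearMap ∘ₗ Φ ∘ₗ (C⁻¹).1.toLinearMap) := by
  refine ⟨fun x => ?_, fun w => ?_, fun Y hY => ?_, fun w => ?_⟩
  · rw [mul_apply', mul_apply', hm.row_pure, hk.fix, hm.row_pure, Orth.inv_apply]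
  · show ct1 b f u ((hm.row C).1 (Φ _)) = 0
    rw [hm.ct1_row, hk.perp, map_zero]
  · obtain ⟨y, hy⟩ := hk.shift _ (show ct1 b f u ((hm.row C⁻¹).1 Y) = 0 by rw [hm.ct1_row, hY, map_zero])
    refine ⟨C.1 y, ?_⟩
    rw [mul_apply', mul_apply', hy, map_add, ← mul_apply', ← map_mul, mul_inv_cancel, map_one, hm.row_pure]
    rfl
  · obtain ⟨y, hy⟩ := hk.phi ((C⁻¹).1 w)
    refine ⟨C.1 y, ?_⟩
    rw [mul_apply', mul_apply', hm.row_pure, hy, map_add, map_add, hm.row_pure, hm.row_pure, Orth.inv_apply]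
    rfl

theorem isRad_shift_pair (hun : f u n = 1) (hk : IsRad k f u n Φ) {Y : Matrix (Fin a) (Fin b) F}
    (hY : ct1 b f u Y = 0) {y : Fin b → F} (hy : k.1 Y = Y + vecMulVec u y) (x : Fin b → F) :
    polar qh y x = -B Y (Φ x) := by
  obtain ⟨y', hy'⟩ := hk.phi x
  have h := mem_isomGroup.1 k.2 Y (vecMulVec n x)
  rw [hy, hy'] at h
  simp only [map_add, LinearMap.add_apply, hm.pol, hun, hm.left_eq u y (Φ x), hk.perp, polar_zero_right,
    hm.right_eq u y' Y, hY, hm.altf u] at h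
  linear_combination h

/-- The commutator of two elements of a radical. -/
theorem cent_of_comm (hun : f u n = 1) (hk : IsRad k f u n Φ) (hk' : IsRad k' f u n Φ') (hkM : k ∈ M)
    (hk'M : k' ∈ M) :
    ∃ S, Cent M f u S ∧ ∀ w x, polar qh (S w) x = B (Φ w) (Φ' x) - B (Φ' w) (Φ x) := by
  set D : Matrix (Fin a) (Fin b) F →ₗ[F] Matrix (Fin a) (Fin b) F :=
    (k * k').1.toLinearMap - (k' * k).1.toLinearMap with hD
  have hDY : ∀ Y, ct1 b f u Y = 0 → D Y = 0 := fun Y hY => by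
    obtain ⟨y, hy⟩ := hk.shift Y hY
    obtain ⟨y', hy'⟩ := hk'.shift Y hY
    show (k * k').1 Y - (k' * k).1 Y = 0
    rw [mul_apply', mul_apply', hy, hy', map_add, map_add, hy, hy', hk.fix, hk'.fix]
    abel
  have hDn : ∀ w, ∃ s, D (vecMulVec n w) = vecMulVec u s ∧
      ∀ x, polar qh s x = B (Φ w) (Φ' x) - B (Φ' w) (Φ x) := fun w => by
    obtain ⟨y, hy⟩ := hk.phi w
    obtain ⟨y', hy'⟩ := hk'.phi w
    obtain ⟨s, hs⟩ := hk.shift _ (hk'.perp w)
    obtain ⟨s', hs'⟩ := hk'.shift _ (hk.perp w)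
    refine ⟨s - s', ?_, fun x => ?_⟩
    · show (k * k').1 (vecMulVec n w) - (k' * k).1 (vecMulVec n w) = _
      rw [mul_apply', mul_apply', hy, hy', map_add, map_add, map_add, map_add, hy, hy', hs, hs', hk.fix, hk'.fix,
        show vecMulVec u (s - s') = vecMulVec u s - vecMulVec u s' from map_sub (TensorMaxU.sl1 b u) s s']
      abel
    · rw [sub_eq_add_neg, polar_add_left, polar_neg_left, hm.isRad_shift_pair hun hk (hk'.perp w) hs,
        hm.isRad_shift_pair hun hk' (hk.perp w) hs']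
      ring
  set S : (Fin b → F) →ₗ[F] (Fin b → F) := -(ct1 b f n ∘ₗ D ∘ₗ TensorMaxU.sl1 b n) with hS
  have hnu : f n u = -1 := by rw [hm.fswap u n, hun]
  have hSs : ∀ w, D (vecMulVec n w) = vecMulVec u (S w) := fun w => by
    obtain ⟨s, hs, -⟩ := hDn w
    rw [hs]
    congr 1
    simp [hS, hs, hnu]
  refine ⟨S, ⟨k * k' * (k' * k)⁻¹, M.mul_mem (M.mul_mem hkM hk'M) (M.inv_mem (M.mul_mem hk'M hkM)), fun X => ?_⟩,
    fun w x => ?_⟩
  · obtain ⟨Z, rfl⟩ := (k' * k).1.surjective X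
    have hc : ∀ {l : isomGroup B}, (∀ x, l.1 (vecMulVec u x) = vecMulVec u x) → ∀ Y,
        ct1 b f u (l.1 Y) = ct1 b f u Y := fun {l} hl Y => eq_of_forall_polar hm.ndh fun x => by
      rw [← hm.left_eq, ← hm.left_eq]
      conv_lhs => rw [← hl]
      exact mem_isomGroup.1 l.2 _ _
    rw [hc (l := k' * k) (fun x => by rw [mul_apply', hk.fix, hk'.fix]), mul_apply' (k * k'), inv_apply_apply']
    have h := hDY (Z - vecMulVec n (ct1 b f u Z)) (by rw [map_sub, ct1_vecMulVec, hun, one_smul, sub_self])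
    rw [map_sub, hSs, sub_eq_zero] at h
    rw [← h]
    show _ = _ + ((k * k').1 Z - (k' * k).1 Z)
    abel
  · obtain ⟨s, hs, hsx⟩ := hDn w
    rw [← hsx x]
    congr 1
    simp [hS, hs, hnu]

variable [Fintype F] (hM : ContainsTensor M) (hb : 3 ≤ b) (hq : (∃ s : F, s ≠ 0 ∧ s * s ≠ 1) ∨ 4 ≤ b)
include hM hb hq

omit hq in
theorem exists_anisotropic_moved {T : (Fin b → F) →ₗ[F] (Fin b → F)} (hT : T ≠ 0) :
    ∃ v, qh v ≠ 0 ∧ T v ≠ 0 := by
  by_contra! hall
  obtain ⟨v, -, hv⟩ := TensorMaxO.exists_anisotropic_in hm.ndh (S := ⊤) (by rw [finrank_top, finrank_fin_fun]; omega)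
  refine hT (LinearMap.ext fun x => ?_)
  rw [LinearMap.zero_apply]
  by_cases hx : qh x = 0
  · by_cases h1 : qh (x + v) = 0
    · have h2 : qh (x + -v) ≠ 0 := fun h2 => hv (by
        rw [quad_add', hx] at h1
        rw [quad_add', hx, QuadraticMap.map_neg, polar_neg_right] at h2
        exact mul_left_cancel₀ hm.two (by linear_combination h1 + h2))
      have h := hall _ h2
      rwa [map_add, map_neg, hall v hv, neg_zero, add_zero] at h
    · have h := hall _ h1
      rwa [map_add, hall v hv, add_zero] at h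
  · exact hall x hx

/-- An element of the radical of a slice is a tensor map or gives a transvection. -/
theorem start_or_tensor_of_isRad (hun : f u n = 1) (hkM : k ∈ M) (hk : IsRad k f u n Φ) :
    Start hm.altB M qh ∨ IsTensor k.1 := by
  classical
  have hu : u ≠ 0 := fun e => by rw [e, map_zero, LinearMap.zero_apply] at hun; exact zero_ne_one hun
  have hnu : f n u = -1 := by rw [hm.fswap u n, hun]
  refine or_iff_not_imp_left.2 fun hno => ?_
  have hscal : ∀ {S : (Fin b → F) →ₗ[F] (Fin b → F)}, Cent M f u S → ∃ l : F, S = l • LinearMap.id := fun {S} e => by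
    by_contra hns
    exact hno (hm.start_of_cent hM hb hq hu e hns)
  set π : (Fin a → F) →ₗ[F] (Fin a → F) := LinearMap.id - (f u).smulRight n + (f n).smulRight u with hπ
  have hπu : ∀ v, f u (π v) = 0 := fun v => by simp [hπ, hun, hm.altf u]
  have hπn : ∀ v, f n (π v) = 0 := fun v => by simp [hπ, hnu, hm.altf n]
  have hπz : ∀ z v, f u z = 0 → f n z = 0 → f z (π v) = f z v := fun z v h1 h2 => by
    simp [hπ, hm.fswap u z, hm.fswap n z, h1, h2]
  set N := fun z : Fin a → F => f u z = 0 ∧ f n z = 0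
  have hE : ∀ z, N z → ∃ E ∈ M, IsTensor E.1 ∧
      IsRad E f u n (TensorMaxU.sl1 b z : (Fin b → F) →ₗ[F] Matrix (Fin a) (Fin b) F) := by
    rintro z ⟨hz1, hz2⟩
    have huz : f z u = 0 := by rw [hm.fswap u z, hz1, neg_zero]
    have hzn : f z n = 0 := by rw [hm.fswap n z, hz2, neg_zero]
    refine ⟨hm.tau (u + z) 1 * hm.tau u (-1) * hm.tau z (-1),
      M.mul_mem (M.mul_mem (hM _ (hm.tau_tensor _ _)) (hM _ (hm.tau_tensor _ _))) (hM _ (hm.tau_tensor _ _)),
      ((hm.tau_tensor _ _).mul (hm.tau_tensor _ _)).mul (hm.tau_tensor _ _), fun x => ?_, fun w => ?_, fun Y hY => ?_,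
      fun w => ?_⟩
    · simp [mul_apply', hm.tau_apply, hm.altf u, hm.altf z, hz1, huz, TensorMax.vecMulVec_zero']
    · simp [hz1]
    · refine ⟨ct1 b f z Y, ?_⟩
      simp only [mul_apply', hm.tau_apply, map_add, map_smul, map_neg, LinearMap.add_apply, ct1_vecMulVec, hm.altf u,
        hm.altf z, hz1, huz, hY, add_vecMulVec, vecMulVec_smul, neg_smul, one_smul, zero_smul, smul_zero, neg_zero,
        add_zero, zero_add, TensorMax.vecMulVec_zero']
      abel
    · refine ⟨0, ?_⟩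
      simp only [mul_apply', hm.tau_apply, map_add, map_smul, map_neg, LinearMap.add_apply, ct1_vecMulVec, hm.altf u,
        hm.altf z, hz1, huz, hun, hzn, TensorMaxU.sl1_apply, add_vecMulVec, vecMulVec_smul, neg_smul, one_smul,
        zero_smul, smul_zero, neg_zero, add_zero, zero_add, TensorMax.vecMulVec_zero']
      abel
  -- symmetric parts
  have hsymm : ∀ z, N z → ∃ s : F, ∀ w x,
      polar qh x (ct1 b f z (Φ w)) + polar qh w (ct1 b f z (Φ x)) = s * polar qh w x := fun z hz => by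
    obtain ⟨E, hEM, -, hEr⟩ := hE z hz
    obtain ⟨S, hS, hSx⟩ := hm.cent_of_comm hun hk hEr hkM hEM
    obtain ⟨l, hl⟩ := hscal hS
    refine ⟨-l, fun w x => ?_⟩
    have h := hSx w x
    rw [TensorMaxU.sl1_apply, TensorMaxU.sl1_apply, hm.left_eq, hm.right_eq, hl, LinearMap.smul_apply,
      LinearMap.id_apply, polar_smul_l'] at h
    linear_combination h
  obtain ⟨x₀, -, hx₀⟩ := TensorMaxO.exists_anisotropic_in hm.ndh (S := ⊤) (by rw [finrank_top, finrank_fin_fun]; omega)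
  have hx₀' : polar qh x₀ x₀ ≠ 0 := by rw [polar_self']; exact mul_ne_zero hm.two hx₀
  set ℓ : (Fin a → F) →ₗ[F] F := (polar qh x₀ x₀)⁻¹ • (polarBilin qh x₀ ∘ₗ (ct1 b f).flip (Φ x₀)) with hℓ
  obtain ⟨w₀, hw₀⟩ := (LinearMap.BilinForm.toDual f hm.ndf).surjective ℓ
  set z₀ := π w₀ with hz₀
  obtain ⟨E, hEM, hET, hEr⟩ := hE z₀ ⟨hπu _, hπn _⟩
  have hk₀ := hk.mul hEr
  set k₀ := k * E with hk₀def
  set Φ₀ := Φ + TensorMaxU.sl1 b z₀ with hΦ₀
  have hk₀M : k₀ ∈ M := M.mul_mem hkM hEM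
  suffices h : IsTensor k₀.1 by
    rw [show k = k₀ * E⁻¹ from (mul_inv_cancel_right k E).symm]
    exact h.mul hET.inv
  have hskew : ∀ z, N z → ∀ w x, polar qh x (ct1 b f z (Φ₀ w)) + polar qh w (ct1 b f z (Φ₀ x)) = 0 := by
    intro z hz w x
    obtain ⟨s, hs⟩ := hsymm z hz
    have hs₀ := hs x₀ x₀
    have hfz : f z z₀ = -ℓ z := by
      rw [hz₀, hπz z w₀ hz.1 hz.2, hm.fswap w₀ z, ← hw₀]
      rfl
    have hℓz : ℓ z * polar qh x₀ x₀ = polar qh x₀ (ct1 b f z (Φ x₀)) := by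
      show (polar qh x₀ x₀)⁻¹ * polar qh x₀ (ct1 b f z (Φ x₀)) * polar qh x₀ x₀ = _
      field_simp
    have h2 : 2 * ℓ z = s := mul_right_cancel₀ hx₀' (by linear_combination hs₀ + 2 * hℓz)
    simp only [hΦ₀, LinearMap.add_apply, TensorMaxU.sl1_apply, map_add, ct1_vecMulVec, hfz, polar_add_right,
      polar_smul_r', polar_comm _ x w]
    linear_combination hs w x - polar qh w x * h2
  by_cases hall : ∀ z, N z → ∀ w, ct1 b f z (Φ₀ w) = 0
  · -- the element is central
    set S₀ : (Fin b → F) →ₗ[F] (Fin b → F) := -(ct1 b f n ∘ₗ (k₀.1.toLinearMap - LinearMap.id) ∘ₗ TensorMaxU.sl1 b n)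
      with hS₀
    have hJ : ∀ Y, ct1 b f u Y = 0 → (∀ z, N z → ct1 b f z Y = 0) → ∃ y, Y = vecMulVec u y := fun Y hY hYz =>
      ⟨-ct1 b f n Y, hm.ext_ct1 fun v => by
        have hv : v = π v + f u v • n - f n v • u := by simp [hπ]; abel
        conv_lhs => rw [hv]
        rw [map_sub, map_add, map_smul, map_smul, LinearMap.sub_apply, LinearMap.add_apply, LinearMap.smul_apply,
          LinearMap.smul_apply, hY, hYz _ ⟨hπu v, hπn v⟩, ct1_vecMulVec, hm.fswap u v]
        simp⟩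
    have hn₀ : ∀ w, k₀.1 (vecMulVec n w) = vecMulVec n w + vecMulVec u (S₀ w) := fun w => by
      obtain ⟨y, hy⟩ := hk₀.phi w
      obtain ⟨y', hy'⟩ := hJ _ (hk₀.perp w) fun z hz => hall z hz w
      rw [hy', add_assoc, ← vecMulVec_add] at hy
      rw [hy]
      congr 2
      simp [hS₀, hy, hnu, add_comm]
    have hY₀ : ∀ Y, ct1 b f u Y = 0 → k₀.1 Y = Y := fun Y hY => by
      obtain ⟨y, hy⟩ := hk₀.shift Y hY
      have h0 : y = 0 := hm.ndh.1 y fun x => by
        obtain ⟨y', hy'⟩ := hJ _ (hk₀.perp x) fun z hz => hall z hz x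
        rw [QuadraticMap.polarBilin_apply_apply, hm.isRad_shift_pair hun hk₀ hY hy, hy', hm.right_eq, hY,
          polar_zero_right]
        simp
      rw [hy, h0, TensorMax.vecMulVec_zero', add_zero]
    have hX : ∀ X, k₀.1 X = X + vecMulVec u (S₀ (ct1 b f u X)) := fun X => by
      have h := hY₀ (X - vecMulVec n (ct1 b f u X)) (by rw [map_sub, ct1_vecMulVec, hun, one_smul, sub_self])
      rw [map_sub, hn₀, sub_eq_iff_eq_add] at h
      rw [h]
      abel
    obtain ⟨l, hl⟩ := hscal ⟨k₀, hk₀M, hX⟩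
    rw [show k₀ = hm.tau u l from Subtype.ext (LinearEquiv.ext fun X => by
      rw [hX, hm.tau_apply, hl, LinearMap.smul_apply, LinearMap.id_apply, vecMulVec_smul])]
    exact hm.tau_tensor _ _
  -- a skew parameter
  exfalso
  push Not at hall
  obtain ⟨z, hz, w₁, hw₁⟩ := hall
  set T : (Fin b → F) →ₗ[F] (Fin b → F) := ct1 b f z ∘ₗ Φ₀ with hT
  have hTskew : ∀ w x, polar qh (T w) x = -polar qh w (T x) := fun w x => by
    have h := hskew z hz w x
    rw [polar_comm _ x] at h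
    linear_combination h
  have hz0 : z ≠ 0 := fun e => hw₁ (by rw [e, map_zero, LinearMap.zero_apply])
  obtain ⟨y, hy⟩ := alt_exists_partner hm.ndf.1 hz0
  set z' := π y with hz'
  have hzz' : f z z' = 1 := by rw [hz', hπz z y hz.1 hz.2, hy]
  have hz'u : f u z' = 0 := hπu y
  have hz'n : f n z' = 0 := hπn y
  clear_value z'
  have hA₁ : ∀ v, f v z = 0 → (tv hm.altf z (-1)).1 v = v := fun v hv => by simp [hv]
  have hA₂ : ∀ v, f v z = 0 → f v z' = 0 → (tv hm.altf (z' - z) (f z z')⁻¹).1 v = v := fun v h1 h2 => by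
    simp [h1, h2]
  have r1 := (hm.isRad_conj_col hk₀ (A := tv hm.altf z (-1)) (hA₁ u hz.1) (hA₁ n hz.2)).mul hk₀.inv
  set k₁ := hm.col (tv hm.altf z (-1)) * k₀ * hm.col (tv hm.altf z (-1))⁻¹ * k₀⁻¹
  set Φ₁ := (hm.col (tv hm.altf z (-1))).1.toLinearMap ∘ₗ Φ₀ + -Φ₀ with hΦ₁
  have hk₁M : k₁ ∈ M := M.mul_mem (M.mul_mem (M.mul_mem (hM _ (hm.col_tensor _)) hk₀M) (hM _ (hm.col_tensor _)))
    (M.inv_mem hk₀M)
  have hΦ₁x : ∀ w, Φ₁ w = vecMulVec z (T w) := fun w => by
    show (hm.tau z 1).1 (Φ₀ w) + -Φ₀ w = _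
    rw [hm.tau_apply, one_smul]
    simp [hT]
  have key : ∀ C : orthGroup qh, ∃ l : F, ∀ w,
      T (C.1 (T ((C⁻¹).1 w))) + C.1 (T ((C⁻¹).1 (T w))) = l • w := by
    intro C
    set A := tv hm.altf (z' - z) (f z z')⁻¹
    have hAz : A.1 z = z' := tv_move hm.altf z z' (by rw [hzz']; exact one_ne_zero)
    have r2 := hm.isRad_conj_row (hm.isRad_conj_col r1 (A := A) (hA₂ u hz.1 hz'u) (hA₂ n hz.2 hz'n)) C
    obtain ⟨S, hS, hSx⟩ := hm.cent_of_comm hun r1 r2 hk₁M
      (M.mul_mem (M.mul_mem (hM _ (hm.row_tensor C)) (M.mul_mem (M.mul_mem (hM _ (hm.col_tensor A)) hk₁M)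
        (hM _ (hm.col_tensor _)))) (hM _ (hm.row_tensor _)))
    obtain ⟨l, hl⟩ := hscal hS
    refine ⟨-l, fun w => eq_of_forall_polar hm.ndh fun x => ?_⟩
    have h := hSx w x
    simp only [LinearMap.comp_apply, LinearEquiv.coe_coe, hΦ₁x, hm.col_pure, hm.row_pure, hAz, hm.pol,
      hm.fswap z z', hzz', hl, LinearMap.smul_apply, LinearMap.id_apply, polar_smul_l'] at h
    have hC : ∀ p q, polar qh (C.1 p) q = polar qh p ((C⁻¹).1 q) := fun p q => by
      conv_lhs => rw [← Orth.inv_apply C q]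
      rw [polar_isom]
    have hC' : ∀ p q, polar qh p (C.1 q) = polar qh ((C⁻¹).1 p) q := fun p q => by
      rw [polar_comm, hC, polar_comm]
    have hT' : ∀ p q, polar qh (C.1 (T ((C⁻¹).1 p))) q = -polar qh p (C.1 (T ((C⁻¹).1 q))) := fun p q => by
      rw [hC, hTskew, hC']
    simp only [polar_add_right, polar_smul_r']
    rw [polar_comm _ x (T _), polar_comm _ x (C.1 _), polar_comm _ x w]
    have e1 := hT' (T w) x
    have e2 := hTskew (C.1 (T ((C⁻¹).1 w))) x
    linear_combination h + e1 + e2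
  obtain ⟨m₀, hm₀⟩ := key 1
  have hTT : ∀ w, T (T w) = (m₀ / 2) • w := fun w => by
    have h := hm₀ w
    simp only [show (1 : orthGroup qh)⁻¹ = 1 from inv_one] at h
    change T (T w) + T (T w) = _ at h
    rw [← two_smul F] at h
    rw [div_eq_inv_mul, mul_smul, ← h, inv_smul_smul₀ hm.two]
  obtain ⟨v, hv, hTv⟩ := hm.exists_anisotropic_moved hM hb (T := T) fun e => hw₁ (LinearMap.congr_fun e w₁)
  obtain ⟨l, hl⟩ := key (refl qh v)
  set μ := m₀ / 2
  set c := (qh v)⁻¹ with hc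
  have hc0 : c ≠ 0 := inv_ne_zero hv
  have hvTv : polar qh v (T v) = 0 := by
    have h := hTskew v v
    rw [polar_comm] at h
    exact mul_left_cancel₀ hm.two (by linear_combination h)
  have hmain : ∀ w, (2 * μ - l) • w + (-2 * c * μ * polar qh v w) • v + (2 * c * polar qh (T v) w) • T v = 0 := by
    intro w
    have h := hl w
    simp only [Orth.refl_inv, refl_apply, map_sub, map_smul, hTT, ← hc, polar_sub_right, polar_smul_r', hvTv] at h
    simp only [show polar qh v (T w) = -polar qh (T v) w from by rw [hTskew]; ring] at h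
    linear_combination (norm := module) h
  obtain ⟨p, hp0, hp⟩ := TensorMax.exists_perp ((polarBilin qh v).prod (polarBilin qh (T v)))
    (by rw [finrank_prod, finrank_self]; omega)
  simp only [LinearMap.prod_apply, Function.prod, Prod.mk_eq_zero, QuadraticMap.polarBilin_apply_apply] at hp
  have hl0 : 2 * μ - l = 0 := by
    have h := hmain p
    rw [hp.1, hp.2] at h
    simpa [hp0] using h
  have hTvv : T v ∉ F ∙ v := fun hmem => by
    obtain ⟨t, ht⟩ := Submodule.mem_span_singleton.1 hmem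
    rw [← ht, polar_smul_r', polar_self'] at hvTv
    exact hTv (by rw [← ht, (mul_eq_zero.1 hvTv).resolve_right (mul_ne_zero hm.two hv), zero_smul])
  obtain ⟨q, hq0, hq1⟩ := exists_polar_one hm.ndh hTvv
  have h := hmain q
  rw [hl0, polar_comm _ v q, hq0 v (Submodule.mem_span_singleton_self v), polar_comm _ (T v) q, hq1] at h
  simpa [hm.two, hc0, hTv] using h

end Model

end CfsgLib.Classical.TensorMaxSp
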