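import Cfsg.Agent.Lib.Classical.TensorMaxSp.Zeros
import Cfsg.Agent.Lib.Classical.SimMaxBasic

/-!
# A plane whose pencil of pairings has no zero

The plane is `{u ⊗ e₀ + ω u ⊗ e₁}` where `ω` has no eigenvalue; we move it to a plane supported on three vectors.
-/

set_option autoImplicit false
set_option linter.unusedSectionVars false

namespace CfsgLib.Classical.TensorMaxSp

open Matrix Module QuadraticMap CfsgLib.Orth CfsgLib.Classical
open CfsgLib.Classical.TensorMax (IsTensor)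
open CfsgLib.Classical.TensorMaxO (ct ct_apply ct_vecMulVec NoPlane)

variable {F : Type*} [Field F] [Fintype F] {a b : ℕ}
  {B : Matrix (Fin a) (Fin b) F →ₗ[F] Matrix (Fin a) (Fin b) F →ₗ[F] F}
  {f : (Fin a → F) →ₗ[F] (Fin a → F) →ₗ[F] F} {qh : QuadraticForm F (Fin b → F)} {M : Subgroup (isomGroup B)}

/-- A binary form with non-zero coefficients takes every value. -/
theorem exists_binary_value (h2 : (2 : F) ≠ 0) {c₁ c₂ : F} (h1 : c₁ ≠ 0) (hc : c₂ ≠ 0) (x : F) :
    ∃ r s : F, c₁ * (r * r) + c₂ * (s * s) = x := by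
  have hF : ringChar F ≠ 2 := fun e => h2 (by
    have h := CharP.cast_eq_zero F (ringChar F)
    rw [e] at h
    exact_mod_cast h)
  open Polynomial in
  obtain ⟨r, s, hrs⟩ := FiniteField.exists_root_sum_quadratic (f := (X ^ 2 - C (x / c₁) : F[X]))
    (g := C (c₂ / c₁) * X ^ 2) (degree_X_pow_sub_C (by decide) _) (degree_C_mul_X_pow 2 (div_ne_zero hc h1))
    (FiniteField.odd_card_of_char_ne_two hF)
  refine ⟨r, s, ?_⟩
  simp only [Polynomial.eval_sub, Polynomial.eval_pow, Polynomial.eval_X, Polynomial.eval_C, Polynomial.eval_mul] at hrs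
  field_simp at hrs
  linear_combination hrs

namespace Model

variable (hm : Model B f qh)
include hm

/-- The auxiliary reflection vector. -/
theorem exists_skew_vec (hb : 5 ≤ b) {e₀ e₁ : Fin b → F} (hind : LinearIndependent F ![e₀, e₁])
    (h01 : polar qh e₀ e₀ ≠ 0 ∨ polar qh e₀ e₁ ≠ 0) (k : F) :
    ∃ w, polar qh w e₀ = 0 ∧ polar qh w e₁ = 1 ∧ qh w ≠ 0 ∧ qh w ≠ k ∧ w ∉ Submodule.span F {e₀, e₁} := by
  set E := Submodule.span F ({e₀, e₁} : Set (Fin b → F)) with hE
  set R := LinearMap.ker (polarBilin qh e₀) ⊓ LinearMap.ker (polarBilin qh e₁) with hR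
  have hmemR : ∀ {r}, r ∈ R ↔ polar qh e₀ r = 0 ∧ polar qh e₁ r = 0 := fun {r} => Iff.rfl
  have hRb : b ≤ finrank F R + 2 := by
    have h1 := TensorMaxO.finrank_kerPolar (Q := qh) e₀
    have h2 := TensorMaxO.finrank_perp_vec (Q := qh) (S := LinearMap.ker (polarBilin qh e₀)) e₁
    rw [finrank_fin_fun] at h1
    rw [hR]
    omega
  have hrad : ∀ r ∈ R, (∀ x ∈ R, polar qh r x = 0) → r ∈ E := fun r hr hperp => by
    by_contra hrE
    obtain ⟨z, hz0, hz⟩ := exists_polar_one hm.ndh hrE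
    have hzR : z ∈ R := hmemR.2 ⟨by rw [polar_comm]; exact hz0 e₀ (Submodule.subset_span (by simp)),
      by rw [polar_comm]; exact hz0 e₁ (Submodule.subset_span (by simp))⟩
    rw [polar_comm, hperp z hzR] at hz
    exact zero_ne_one hz
  have hEdim : finrank F E ≤ 2 := by
    classical
    refine (finrank_span_le_card (R := F) ({e₀, e₁} : Set (Fin b → F))).trans ?_
    simp only [Set.toFinset_insert, Set.toFinset_singleton]
    exact Finset.card_insert_le _ _
  have hself : ∀ r, polar qh r r = 2 * qh r := fun r => polar_self' _ _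
  obtain ⟨r₁, hr₁, hq₁⟩ : ∃ r ∈ R, qh r ≠ 0 := by
    by_contra! hall
    have hle : R ≤ E := fun r hr => hrad r hr fun x hx => by
      have e := hall _ (R.add_mem hr hx)
      rwa [quad_add', hall r hr, hall x hx, zero_add, zero_add] at e
    have := Submodule.finrank_mono hle
    omega
  have hr₁' : polar qh r₁ r₁ ≠ 0 := by rw [hself]; exact mul_ne_zero hm.two hq₁
  obtain ⟨r₂, hr₂, hr12, hq₂⟩ : ∃ r ∈ R, polar qh r₁ r = 0 ∧ qh r ≠ 0 := by
    by_contra! hall
    set R₁ := R ⊓ LinearMap.ker (polarBilin qh r₁) with hR₁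
    have hle : R₁ ≤ E := fun r hr => hrad r hr.1 fun x hx => by
      have hr' : polar qh r₁ r = 0 := hr.2
      set x' := x - (polar qh r₁ x / polar qh r₁ r₁) • r₁ with hx'
      have hx'R : x' ∈ R := R.sub_mem hx (R.smul_mem _ hr₁)
      have hx'1 : polar qh r₁ x' = 0 := by
        rw [hx', polar_sub_right, polar_smul_r', div_mul_cancel₀ _ hr₁', sub_self]
      have e := hall _ (R.add_mem hr.1 hx'R) (by rw [polar_add_right, hr', hx'1, add_zero])
      rw [quad_add', hall r hr.1 hr', hall x' hx'R hx'1, zero_add, zero_add, hx', polar_sub_right, polar_smul_r',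
        polar_comm _ r r₁, hr', mul_zero, sub_zero] at e
      exact e
    have h1 := TensorMaxO.finrank_perp_vec (Q := qh) (S := R) r₁
    rw [← hR₁] at h1
    have heq : R₁ = E := Submodule.eq_of_le_of_finrank_le hle (by omega)
    have he₀ : e₀ ∈ R₁ := heq ▸ Submodule.subset_span (by simp)
    obtain ⟨h00, h10⟩ := hmemR.1 he₀.1
    rw [polar_comm _ e₁ e₀] at h10
    exact h01.elim (· h00) (· h10)
  obtain ⟨w₀, hw₀0, hw₀1⟩ := exists_polar_one hm.ndh (show e₁ ∉ F ∙ e₀ from fun hmem => by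
    obtain ⟨t, ht⟩ := Submodule.mem_span_singleton.1 hmem
    have := (LinearIndependent.pair_iff.1 hind t (-1) (by rw [ht, neg_one_smul, add_neg_cancel])).2
    exact one_ne_zero (neg_eq_zero.1 this))
  have hw₀0' : polar qh w₀ e₀ = 0 := hw₀0 e₀ (Submodule.mem_span_singleton_self e₀)
  set w₁ := w₀ - (polar qh r₁ w₀ / polar qh r₁ r₁) • r₁ - (polar qh r₂ w₀ / polar qh r₂ r₂) • r₂ with hw₁
  obtain ⟨h10, h11⟩ := hmemR.1 hr₁
  obtain ⟨h20, h21⟩ := hmemR.1 hr₂
  have hr₂' : polar qh r₂ r₂ ≠ 0 := by rw [hself]; exact mul_ne_zero hm.two hq₂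
  have hw10 : polar qh w₁ e₀ = 0 := by
    rw [hw₁, polar_sub_left, polar_sub_left, polar_smul_l', polar_smul_l', hw₀0', polar_comm _ r₁ e₀, h10,
      polar_comm _ r₂ e₀, h20, mul_zero, mul_zero, sub_zero, sub_zero]
  have hw11 : polar qh w₁ e₁ = 1 := by
    rw [hw₁, polar_sub_left, polar_sub_left, polar_smul_l', polar_smul_l', hw₀1, polar_comm _ r₁ e₁, h11,
      polar_comm _ r₂ e₁, h21, mul_zero, mul_zero, sub_zero, sub_zero]
  have hw1r₁ : polar qh r₁ w₁ = 0 := by
    rw [hw₁, polar_sub_right, polar_sub_right, polar_smul_r', polar_smul_r', hr12, div_mul_cancel₀ _ hr₁', sub_self,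
      mul_zero, sub_zero]
  have hw1r₂ : polar qh r₂ w₁ = 0 := by
    rw [hw₁, polar_sub_right, polar_sub_right, polar_smul_r', polar_smul_r', polar_comm _ r₂ r₁, hr12,
      div_mul_cancel₀ _ hr₂', mul_zero, sub_zero, sub_self]
  obtain ⟨γ, hγ0, hγk⟩ : ∃ γ : F, γ ≠ 0 ∧ γ ≠ k := by
    by_cases h1 : (1 : F) = k
    · refine ⟨-1, neg_ne_zero.2 one_ne_zero, fun e => hm.two ?_⟩
      linear_combination (h1.trans e.symm : (1 : F) = -1)
    · exact ⟨1, one_ne_zero, h1⟩
  obtain ⟨p, r, hpr⟩ := exists_binary_value hm.two hq₁ hq₂ (γ - qh w₁)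
  set w := w₁ + p • r₁ + r • r₂ with hw
  have hwe₀ : polar qh w e₀ = 0 := by
    rw [hw, polar_add_left, polar_add_left, polar_smul_l', polar_smul_l', hw10, polar_comm _ r₁ e₀, h10,
      polar_comm _ r₂ e₀, h20, mul_zero, mul_zero, add_zero, add_zero]
  have hwe₁ : polar qh w e₁ = 1 := by
    rw [hw, polar_add_left, polar_add_left, polar_smul_l', polar_smul_l', hw11, polar_comm _ r₁ e₁, h11,
      polar_comm _ r₂ e₁, h21, mul_zero, mul_zero, add_zero, add_zero]
  have hqw : qh w = γ := by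
    rw [hw, quad_add', quad_add', quad_smul', quad_smul', polar_add_left, polar_smul_l', polar_smul_r', polar_smul_r',
      polar_smul_r', polar_comm _ w₁ r₁, hw1r₁, polar_comm _ w₁ r₂, hw1r₂, hr12]
    linear_combination hpr
  by_cases hwE : w ∈ E
  swap
  · exact ⟨w, hwe₀, hwe₁, hqw ▸ hγ0, hqw ▸ hγk, hwE⟩
  have hER : ∀ x ∈ R, x ∈ E → x = 0 := fun x hx hxE => by
    obtain ⟨g0, g1⟩ := hmemR.1 hx
    obtain ⟨s, t, hwst⟩ := Submodule.mem_span_pair.1 hwE
    have hwx : polar qh w x = 0 := by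
      rw [← hwst, polar_add_left, polar_smul_l', polar_smul_l', g0, g1, mul_zero, mul_zero, add_zero]
    obtain ⟨s', t', hxst⟩ := Submodule.mem_span_pair.1 hxE
    have ht' : t' = 0 := by
      rwa [← hxst, polar_add_right, polar_smul_r', polar_smul_r', hwe₀, hwe₁, mul_zero, zero_add, mul_one] at hwx
    rw [ht', zero_smul, add_zero] at hxst
    rw [← hxst, polar_smul_r'] at g0 g1
    have hs : s' = 0 := h01.elim (fun h => (mul_eq_zero.1 g0).resolve_right h)
      (fun h => (mul_eq_zero.1 g1).resolve_right (by rwa [polar_comm]))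
    rw [← hxst, hs, zero_smul]
  obtain ⟨r₃, hr₃, hr₃0, hq₃⟩ := SimMax.exists_singular_of_three (Q := qh) hm.two (U := R) (by omega)
  obtain ⟨h30, h31⟩ := hmemR.1 hr₃
  have hw3 : polar qh w r₃ = 0 := by
    obtain ⟨s, t, hwst⟩ := Submodule.mem_span_pair.1 hwE
    rw [← hwst, polar_add_left, polar_smul_l', polar_smul_l', h30, h31, mul_zero, mul_zero, add_zero]
  have hqw' : qh (w + r₃) = γ := by rw [quad_add', hqw, hq₃, hw3, add_zero, add_zero]
  refine ⟨w + r₃, ?_, ?_, hqw' ▸ hγ0, hqw' ▸ hγk, fun hmem => hr₃0 (hER r₃ hr₃ ?_)⟩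
  · rw [polar_add_left, hwe₀, polar_comm _ r₃ e₀, h30, add_zero]
  · rw [polar_add_left, hwe₁, polar_comm _ r₃ e₁, h31, add_zero]
  · simpa using E.sub_mem hmem hwE

/-- The auxiliary reflection vector when `qh` is a four-dimensional form without singular planes. -/
theorem exists_skew_vec_four (hb : b = 4) (hnp : NoPlane qh) {e₀ e₁ : Fin b → F}
    (hind : LinearIndependent F ![e₀, e₁]) (h01 : polar qh e₀ e₀ ≠ 0 ∨ polar qh e₀ e₁ ≠ 0)
    (hE : polar qh e₀ e₀ = 0 ∨ ∀ c₀ c₁ : F, qh (c₀ • e₀ + c₁ • e₁) = 0 →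
      polar qh (c₀ • e₀ + c₁ • e₁) e₀ = 0 ∧ polar qh (c₀ • e₀ + c₁ • e₁) e₁ = 0) (k : F) :
    ∃ w, polar qh w e₀ = 0 ∧ polar qh w e₁ = 1 ∧ qh w ≠ 0 ∧ qh w ≠ k ∧ w ∉ Submodule.span F {e₀, e₁} := by
  set a₀ := polar qh e₀ e₀ with ha₀
  set a₁ := polar qh e₀ e₁ with ha₁
  set a₂ := polar qh e₁ e₁ with ha₂
  set E := Submodule.span F ({e₀, e₁} : Set (Fin b → F)) with hEdef
  have hself : ∀ r, polar qh r r = 2 * qh r := fun r => polar_self' _ _
  obtain ⟨γ, hγ0, hγk⟩ : ∃ γ : F, γ ≠ 0 ∧ γ ≠ k := by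
    by_cases h1 : (1 : F) = k
    · refine ⟨-1, neg_ne_zero.2 one_ne_zero, fun e => hm.two ?_⟩
      linear_combination (h1.trans e.symm : (1 : F) = -1)
    · exact ⟨1, one_ne_zero, h1⟩
  set z := (-a₁) • e₀ + a₀ • e₁ with hz
  have hze₀ : polar qh z e₀ = 0 := by
    rw [hz, polar_add_left, polar_smul_l', polar_smul_l', polar_comm _ e₁ e₀, ← ha₀, ← ha₁]
    ring
  have hze₁ : polar qh z e₁ = a₀ * a₂ - a₁ * a₁ := by
    rw [hz, polar_add_left, polar_smul_l', polar_smul_l', ← ha₁, ← ha₂]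
    ring
  have hzz : polar qh z z = a₀ * (a₀ * a₂ - a₁ * a₁) := by
    nth_rewrite 2 [hz]
    rw [polar_add_right, polar_smul_r', polar_smul_r', hze₀, hze₁]
    ring
  have hzE : z ∈ E := Submodule.mem_span_pair.2 ⟨_, _, rfl⟩
  clear_value z
  set det := a₀ * a₂ - a₁ * a₁ with hdet
  by_cases hd : det = 0
  · -- the span is degenerate
    have ha0 : a₀ ≠ 0 := fun e => by
      rw [hdet, e, zero_mul, zero_sub, neg_eq_zero, mul_self_eq_zero] at hd
      exact h01.elim (· e) (· hd)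
    obtain ⟨w₀, hw₀0, hw₀1⟩ := exists_polar_one hm.ndh (show e₁ ∉ F ∙ e₀ from fun hmem => by
      obtain ⟨t, ht⟩ := Submodule.mem_span_singleton.1 hmem
      have := (LinearIndependent.pair_iff.1 hind t (-1) (by rw [ht, neg_one_smul, add_neg_cancel])).2
      exact one_ne_zero (neg_eq_zero.1 this))
    have hw₀0' : polar qh w₀ e₀ = 0 := hw₀0 e₀ (Submodule.mem_span_singleton_self e₀)
    have hw₀z : polar qh w₀ z = a₀ := by
      rw [hz, polar_add_right, polar_smul_r', polar_smul_r', hw₀0', hw₀1]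
      ring
    have hqz : qh z = 0 := by
      rw [hd, mul_zero, hself] at hzz
      exact (mul_eq_zero.1 hzz).resolve_left hm.two
    set w := w₀ + ((γ - qh w₀) / a₀) • z with hw
    have hqw : qh w = γ := by
      rw [hw, quad_add', quad_smul', polar_smul_r', hqz, hw₀z, div_mul_cancel₀ _ ha0]
      ring
    refine ⟨w, ?_, ?_, hqw ▸ hγ0, hqw ▸ hγk, fun hmem => ?_⟩
    · rw [hw, polar_add_left, polar_smul_l', hw₀0', hze₀, mul_zero, add_zero]
    · rw [hw, polar_add_left, polar_smul_l', hw₀1, hze₁, hd, mul_zero, add_zero]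
    · obtain ⟨c, c', hc⟩ := Submodule.mem_span_pair.1 hmem
      have h1 : polar qh w z = 0 := by
        rw [← hc, polar_add_left, polar_smul_l', polar_smul_l', polar_comm _ e₀ z, polar_comm _ e₁ z, hze₀, hze₁, hd]
        ring
      rw [hw, polar_add_left, polar_smul_l', hw₀z, hzz, hd, mul_zero, mul_zero, add_zero] at h1
      exact ha0 h1
  -- the span is non-degenerate
  set R := LinearMap.ker (polarBilin qh e₀) ⊓ LinearMap.ker (polarBilin qh e₁) with hR
  have hmemR : ∀ {r}, r ∈ R ↔ polar qh e₀ r = 0 ∧ polar qh e₁ r = 0 := fun {r} => Iff.rfl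
  have hRb : 2 ≤ finrank F R := by
    have h1 := TensorMaxO.finrank_kerPolar (Q := qh) e₀
    have h2 := TensorMaxO.finrank_perp_vec (Q := qh) (S := LinearMap.ker (polarBilin qh e₀)) e₁
    rw [finrank_fin_fun] at h1
    rw [hR]
    omega
  have hER : ∀ r ∈ R, r ∈ E → r = 0 := fun r hr hrE => by
    obtain ⟨g0, g1⟩ := hmemR.1 hr
    obtain ⟨c, c', rfl⟩ := Submodule.mem_span_pair.1 hrE
    rw [polar_add_right, polar_smul_r', polar_smul_r', ← ha₀, ← ha₁] at g0
    rw [polar_add_right, polar_smul_r', polar_smul_r', polar_comm _ e₁ e₀, ← ha₁, ← ha₂] at g1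
    have h3 : c * det = 0 := by rw [hdet]; linear_combination a₂ * g0 - a₁ * g1
    have h4 : c' * det = 0 := by rw [hdet]; linear_combination a₀ * g1 - a₁ * g0
    rw [(mul_eq_zero.1 h3).resolve_right hd, (mul_eq_zero.1 h4).resolve_right hd, zero_smul, zero_smul, add_zero]
  have hzR : ∀ r ∈ R, polar qh z r = 0 := fun r hr => by
    rw [hz, polar_add_left, polar_smul_l', polar_smul_l', (hmemR.1 hr).1, (hmemR.1 hr).2, mul_zero, mul_zero,
      add_zero]
  obtain ⟨r₁, hr₁, hq₁⟩ : ∃ r ∈ R, qh r ≠ 0 := by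
    by_contra! hall
    obtain ⟨u, hu, hu0⟩ := Submodule.exists_mem_ne_zero_of_ne_bot (p := R) fun e => by
      rw [e, finrank_bot] at hRb; omega
    have hle : R ≤ F ∙ u := fun v hv => hnp hb u v hu0 (hall u hu) (hall v hv) (by
      have e := hall _ (R.add_mem hu hv)
      rwa [quad_add', hall u hu, hall v hv, zero_add, zero_add] at e)
    have := Submodule.finrank_mono hle
    rw [finrank_span_singleton hu0] at this
    omega
  have hr₁' : polar qh r₁ r₁ ≠ 0 := by rw [hself]; exact mul_ne_zero hm.two hq₁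
  obtain ⟨r₂, hr₂, hr12, hq₂⟩ : ∃ r ∈ R, polar qh r₁ r = 0 ∧ qh r ≠ 0 := by
    by_contra! hall
    obtain ⟨r, hr, hr0⟩ := Submodule.exists_mem_ne_zero_of_ne_bot (p := R ⊓ LinearMap.ker (polarBilin qh r₁))
      fun e => by
        have h1 := TensorMaxO.finrank_perp_vec (Q := qh) (S := R) r₁
        rw [e, finrank_bot] at h1
        omega
    have hr' : polar qh r₁ r = 0 := hr.2
    refine hr0 (hER r hr.1 ?_)
    by_contra hrE
    obtain ⟨x, hx0, hx⟩ := exists_polar_one hm.ndh hrE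
    have hxR : x ∈ R := hmemR.2 ⟨by rw [polar_comm]; exact hx0 e₀ (Submodule.subset_span (by simp)),
      by rw [polar_comm]; exact hx0 e₁ (Submodule.subset_span (by simp))⟩
    set x' := x - (polar qh r₁ x / polar qh r₁ r₁) • r₁ with hx'
    have hx'R : x' ∈ R := R.sub_mem hxR (R.smul_mem _ hr₁)
    have hx'1 : polar qh r₁ x' = 0 := by
      rw [hx', polar_sub_right, polar_smul_r', div_mul_cancel₀ _ hr₁', sub_self]
    have e := hall _ (R.add_mem hr.1 hx'R) (by rw [polar_add_right, hr', hx'1, add_zero])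
    rw [quad_add', hall r hr.1 hr', hall x' hx'R hx'1, zero_add, zero_add, hx', polar_sub_right, polar_smul_r',
      polar_comm _ r r₁, hr', mul_zero, sub_zero, polar_comm _ r x, hx] at e
    exact one_ne_zero e
  set w₁ := det⁻¹ • z with hw₁
  have hw10 : polar qh w₁ e₀ = 0 := by rw [hw₁, polar_smul_l', hze₀, mul_zero]
  have hw11 : polar qh w₁ e₁ = 1 := by rw [hw₁, polar_smul_l', hze₁, inv_mul_cancel₀ hd]
  obtain ⟨r, hr, hr0, hqr⟩ : ∃ r ∈ R, r ≠ 0 ∧ qh r = γ - qh w₁ := by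
    by_cases hx : γ - qh w₁ = 0
    swap
    · obtain ⟨p, q, hpq⟩ := exists_binary_value hm.two hq₁ hq₂ (γ - qh w₁)
      have hq : qh (p • r₁ + q • r₂) = γ - qh w₁ := by
        rw [quad_add', quad_smul', quad_smul', polar_smul_l', polar_smul_r', hr12]
        linear_combination hpq
      exact ⟨_, R.add_mem (R.smul_mem _ hr₁) (R.smul_mem _ hr₂),
        fun e => hx (by rw [← hq, e, QuadraticMap.map_zero]), hq⟩
    have hqz : qh z ≠ 0 := fun e => hγ0 (by
      rw [sub_eq_zero] at hx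
      rw [hx, hw₁, quad_smul', e, mul_zero])
    have hA0 : a₀ ≠ 0 := fun e => by
      rw [e, zero_mul, hself] at hzz
      exact hqz ((mul_eq_zero.1 hzz).resolve_left hm.two)
    have hq0 : qh e₀ ≠ 0 := fun e => hA0 (by rw [ha₀, hself, e, mul_zero])
    have hzq0 : polar qh e₀ z = 0 := by rw [polar_comm, hze₀]
    have nsqE : ¬ IsSquare (-(qh e₀ * qh z)) := by
      rintro ⟨c, hc⟩
      set v := (c - qh e₀ * a₁) • e₀ + (qh e₀ * a₀) • e₁ with hv
      have hvz : v = c • e₀ + qh e₀ • z := by rw [hv, hz]; module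
      have h0 : qh v = 0 := by
        rw [hvz, quad_add', quad_smul', quad_smul', polar_smul_l', polar_smul_r', hzq0]
        linear_combination -qh e₀ * hc
      have h1 := ((hE.resolve_left hA0) _ _ h0).1
      rw [← hv, hvz, polar_add_left, polar_smul_l', polar_smul_l', hze₀, mul_zero, add_zero, mul_eq_zero] at h1
      rw [h1.resolve_right hA0, mul_zero, neg_eq_zero] at hc
      exact mul_ne_zero hq0 hqz hc
    by_contra! hall
    have hiso : ∀ v ∈ R, qh v = 0 → v = 0 := fun v hv hqv => by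
      by_contra h
      exact hall v hv h (by rw [hqv, hx])
    have nsqR : ¬ IsSquare (-(qh r₁ * qh r₂)) := by
      rintro ⟨c, hc⟩
      have h0 := hiso (c • r₁ + qh r₁ • r₂) (R.add_mem (R.smul_mem _ hr₁) (R.smul_mem _ hr₂)) (by
        rw [quad_add', quad_smul', quad_smul', polar_smul_l', polar_smul_r', hr12]
        linear_combination -qh r₁ * hc)
      have h1 := congrArg (polar qh r₂) h0
      rw [polar_add_right, polar_smul_r', polar_smul_r', polar_comm _ r₂ r₁, hr12, mul_zero, zero_add,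
        polar_zero_right, hself, mul_eq_zero, mul_eq_zero] at h1
      exact h1.elim hq₁ fun h => h.elim hm.two hq₂
    obtain ⟨c, hc⟩ : IsSquare (-(qh e₀ * qh z) * -(qh r₁ * qh r₂)) := by
      classical
      have h1 := quadraticChar_neg_one_iff_not_isSquare.2 nsqE
      have h2 := quadraticChar_neg_one_iff_not_isSquare.2 nsqR
      refine (quadraticChar_one_iff_isSquare
        (mul_ne_zero (neg_ne_zero.2 (mul_ne_zero hq0 hqz)) (neg_ne_zero.2 (mul_ne_zero hq₁ hq₂)))).1 ?_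
      rw [map_mul, h1, h2]
      norm_num
    obtain ⟨p, q, hpq⟩ := exists_binary_value hm.two hq₁ hq₂ (-qh e₀)
    obtain ⟨u, hu⟩ : ∃ u, u = p • r₁ + q • r₂ := ⟨_, rfl⟩
    obtain ⟨u', hu'⟩ : ∃ u', u' = (-(q * qh r₂)) • r₁ + (p * qh r₁) • r₂ := ⟨_, rfl⟩
    have huR : u ∈ R := hu ▸ R.add_mem (R.smul_mem _ hr₁) (R.smul_mem _ hr₂)
    have hu'R : u' ∈ R := hu' ▸ R.add_mem (R.smul_mem _ hr₁) (R.smul_mem _ hr₂)
    have hqu : qh u = -qh e₀ := by
      rw [hu, quad_add', quad_smul', quad_smul', polar_smul_l', polar_smul_r', hr12]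
      linear_combination hpq
    have hqu' : qh u' = qh r₁ * qh r₂ * -qh e₀ := by
      rw [hu', quad_add', quad_smul', quad_smul', polar_smul_l', polar_smul_r', hr12]
      linear_combination qh r₁ * qh r₂ * hpq
    have huu' : polar qh u u' = 0 := by
      rw [hu, hu', polar_add_left, polar_add_right, polar_add_right]
      simp only [polar_smul_l', polar_smul_r', hr12, polar_comm _ r₂ r₁, hself]
      ring
    have e0u : ∀ v ∈ R, polar qh e₀ v = 0 := fun v hv => (hmemR.1 hv).1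
    obtain ⟨z₁, hz₁⟩ : ∃ z₁, z₁ = e₀ + u := ⟨_, rfl⟩
    obtain ⟨z₂, hz₂⟩ : ∃ z₂, z₂ = (c / qh z) • z + u' := ⟨_, rfl⟩
    have hq1 : qh z₁ = 0 := by
      rw [hz₁, quad_add', e0u u huR, hqu]
      ring
    have hq2 : qh z₂ = 0 := by
      rw [hz₂, quad_add', quad_smul', polar_smul_l', hzR u' hu'R, hqu']
      field_simp
      linear_combination -hc
    have hz12 : polar qh z₁ z₂ = 0 := by
      rw [hz₁, hz₂, polar_add_left, polar_add_right, polar_add_right, polar_smul_r', polar_smul_r', hzq0,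
        e0u u' hu'R, polar_comm _ u z, hzR u huR, huu']
      ring
    have hz1z : polar qh z₁ z = 0 := by
      rw [hz₁, polar_add_left, hzq0, polar_comm _ u z, hzR u huR, add_zero]
    have hz10 : z₁ ≠ 0 := fun e => by
      have e' := congrArg (polar qh e₀) e
      rw [hz₁, polar_add_right, e0u u huR, add_zero, polar_zero_right, ← ha₀] at e'
      exact hA0 e'
    obtain ⟨t, ht⟩ := Submodule.mem_span_singleton.1 (hnp hb z₁ z₂ hz10 hq1 hq2 hz12)
    have hz2z : polar qh z₂ z = c / qh z * (2 * qh z) := by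
      rw [hz₂, polar_add_left, polar_smul_l', hself, polar_comm _ u' z, hzR u' hu'R, add_zero]
    rw [← ht, polar_smul_l', hz1z, mul_zero, eq_comm, mul_eq_zero, or_iff_left (mul_ne_zero hm.two hqz),
      div_eq_zero_iff, or_iff_left hqz] at hz2z
    rw [hz2z, mul_zero, mul_eq_zero, neg_eq_zero, neg_eq_zero] at hc
    exact hc.elim (mul_ne_zero hq0 hqz) (mul_ne_zero hq₁ hq₂)
  have hw1r : polar qh w₁ r = 0 := by rw [hw₁, polar_smul_l', hzR r hr, mul_zero]
  have hqw : qh (w₁ + r) = γ := by rw [quad_add', hw1r, hqr]; ring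
  refine ⟨w₁ + r, ?_, ?_, hqw ▸ hγ0, hqw ▸ hγk, fun hmem => hr0 (hER r hr ?_)⟩
  · rw [polar_add_left, hw10, polar_comm _ r e₀, (hmemR.1 hr).1, add_zero]
  · rw [polar_add_left, hw11, polar_comm _ r e₁, (hmemR.1 hr).2, add_zero]
  · simpa [hw₁] using E.sub_mem hmem (E.smul_mem det⁻¹ hzE)

theorem start_of_skew₀ (hM : ContainsTensor M) (hb : 4 ≤ b) (hnp : NoPlane qh) (ha : a = 2) {Z₁ Z₂ : Matrix (Fin a) (Fin b) F}
    (h : PlaneInv M Z₁ Z₂) {x y : Fin a → F} (hxy : f x y ≠ 0) {s N : F} (hirr : s * s - 4 * N ≠ 1)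
    {e₀ e₁ : Fin b → F} (hind : LinearIndependent F ![e₀, e₁])
    (h01 : polar qh e₀ e₀ ≠ 0 ∨ polar qh e₀ e₁ ≠ 0)
    (hE : polar qh e₀ e₀ = 0 ∨ ∀ c₀ c₁ : F, qh (c₀ • e₀ + c₁ • e₁) = 0 →
      polar qh (c₀ • e₀ + c₁ • e₁) e₀ = 0 ∧ polar qh (c₀ • e₀ + c₁ • e₁) e₁ = 0)
    (hZ₂ : ∀ v, ct a qh v Z₂ = polar qh v e₀ • x + polar qh v e₁ • y)
    (hZ₁ : ∀ v, ct a qh v Z₁ = (-N * polar qh v e₁) • x + (polar qh v e₀ + s * polar qh v e₁) • y) :
    Start hm.altB M qh := by
  set d := f x y with hd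
  set a₀ := polar qh e₀ e₀
  set a₁ := polar qh e₀ e₁
  set a₂ := polar qh e₁ e₁
  obtain ⟨w, hwe₀, hwe₁, hw0, hwk, hwE⟩ := hb.lt_or_eq.elim (fun h => hm.exists_skew_vec h hind h01 (-(2 * d * N)))
    fun h => hm.exists_skew_vec_four h.symm hnp hind h01 hE (-(2 * d * N))
  set t := -(qh w)⁻¹ with ht
  have ht0 : t ≠ 0 := neg_ne_zero.2 (inv_ne_zero hw0)
  have htk : 2 * d * N * t ≠ 1 := fun e => hwk (by
    rw [ht] at e
    field_simp at e
    linear_combination -e)
  have hZ₂' : Z₂ = vecMulVec x e₀ + vecMulVec y e₁ := hm.ext_ct fun v => by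
    rw [hZ₂, map_add, ct_vecMulVec, ct_vecMulVec]
  have hZ₁' : Z₁ = vecMulVec y e₀ + vecMulVec (s • y - N • x) e₁ := hm.ext_ct fun v => by
    rw [hZ₁, map_add, ct_vecMulVec, ct_vecMulVec]
    module
  -- the pairings with the plane
  have hyx : f y x = -d := hm.fswap x y
  have hB₂ : ∀ X, B Z₂ X = f x (ct a qh e₀ X) + f y (ct a qh e₁ X) := fun X => by
    rw [hZ₂', map_add, LinearMap.add_apply, hm.left_eq2, hm.left_eq2]
  have hB₁ : ∀ X, B Z₁ X = f y (ct a qh e₀ X) + (s * f y (ct a qh e₁ X) - N * f x (ct a qh e₁ X)) := fun X => by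
    rw [hZ₁', map_add, LinearMap.add_apply, hm.left_eq2, hm.left_eq2, map_sub, map_smul, map_smul,
      LinearMap.sub_apply, LinearMap.smul_apply, LinearMap.smul_apply, smul_eq_mul, smul_eq_mul]
  have hrel : d * (-a₀ - N * a₂ - s * a₁) = 1 := by
    have e := h.1
    simp only [hB₁, hZ₂, map_add, map_smul, smul_eq_mul, hm.altf x, hm.altf y, ← hd, hyx,
      polar_comm _ e₁ e₀] at e
    linear_combination e
  obtain ⟨-, k, hk, hkX⟩ := h
  -- move the plane
  set A := tv hm.altf x (-d⁻¹) with hA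
  have hAx : A.1 x = x := by rw [hA, tv_apply, hm.altf x, mul_zero, zero_smul, add_zero]
  have hAy : A.1 y = y + x := by
    rw [hA, tv_apply, hyx, neg_mul_neg, inv_mul_cancel₀ hxy, one_smul]
  set C := refl qh w with hC
  set g : isomGroup B := k * (hm.col A * hm.row C) with hg
  have hgM : g ∈ M := M.mul_mem hk (M.mul_mem (hM _ (hm.col_tensor A)) (hM _ (hm.row_tensor C)))
  have h' := PlaneInv.conj (g := g) ⟨by
    simp only [hB₁, hZ₂, map_add, map_smul, smul_eq_mul, hm.altf x, hm.altf y, ← hd, hyx, polar_comm _ e₁ e₀]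
    linear_combination hrel, k, hk, hkX⟩ hgM
  set pw : (Fin b → F) → F := fun v => polar qh w v with hpw
  have hC0 : ∀ v, polar qh (C.1 v) e₀ = polar qh v e₀ := fun v => by
    rw [hC, refl_apply, polar_sub_left, polar_smul_l', hwe₀, mul_zero, sub_zero]
  have hC1 : ∀ v, polar qh (C.1 v) e₁ = polar qh v e₁ + t * pw v := fun v => by
    rw [hC, refl_apply, polar_sub_left, polar_smul_l', hwe₁, mul_one, hpw, ht]
    ring
  have hCC : ∀ v, C.1 (C.1 v) = v := fun v => by
    show (refl qh w * refl qh w).1 v = v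
    rw [refl_mul_self]; rfl
  have hrow : ∀ v X, ct a qh v ((hm.row C).1 X) = ct a qh (C.1 v) X := fun v X => by
    conv_lhs => rw [← hCC v]
    exact hm.ct_row C (C.1 v) X
  have hpw0 : pw e₀ = 0 := hwe₀
  have hpw1 : pw e₁ = 1 := hwe₁
  have hY₂ : ∀ v, ct a qh v ((hm.col A).1 ((hm.row C).1 Z₂)) =
      (polar qh v e₀ + (polar qh v e₁ + t * pw v)) • x + (polar qh v e₁ + t * pw v) • y := fun v => by
    rw [hm.ct_col, hrow, hZ₂, hC0, hC1, map_add, map_smul, map_smul, hAx, hAy]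
    module
  have hY₁ : ∀ v, ct a qh v ((hm.col A).1 ((hm.row C).1 Z₁)) =
      (-N * (polar qh v e₁ + t * pw v) + (polar qh v e₀ + s * (polar qh v e₁ + t * pw v))) • x +
        (polar qh v e₀ + s * (polar qh v e₁ + t * pw v)) • y := fun v => by
    rw [hm.ct_col, hrow, hZ₁, hC0, hC1, map_add, map_smul, map_smul, hAx, hAy]
    module
  set W₁ := g.1 Z₁
  set W₂ := g.1 Z₂
  have hW : ∀ (Z : Matrix (Fin a) (Fin b) F) v, ct a qh v (g.1 Z) = ct a qh v ((hm.col A).1 ((hm.row C).1 Z)) -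
      (2 : F) • (B Z₁ ((hm.col A).1 ((hm.row C).1 Z)) • ct a qh v Z₂ -
        B Z₂ ((hm.col A).1 ((hm.row C).1 Z)) • ct a qh v Z₁) := fun Z v => by
    rw [hg, mul_apply', mul_apply', hkX, map_sub, map_smul, map_sub, map_smul, map_smul]
  have hsmall : ∀ v, ct a qh v W₁ = 0 → ct a qh v W₂ = 0 →
      polar qh e₀ v = 0 ∧ polar qh e₁ v = 0 ∧ polar qh w v = 0 := by
    intro v g1 g2
    set h₀ := polar qh v e₀
    set h₁ := polar qh v e₁
    rw [show W₁ = g.1 Z₁ from rfl, hW, hB₁, hB₂, hY₁, hY₁, hY₁, hZ₁, hZ₂] at g1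
    rw [show W₂ = g.1 Z₂ from rfl, hW, hB₁, hB₂, hY₂, hY₂, hY₂, hZ₁, hZ₂] at g2
    have g1x := congrArg (fun z => f z y) g1
    have g1y := congrArg (f x) g1
    have g2x := congrArg (fun z => f z y) g2
    have g2y := congrArg (f x) g2
    simp only [map_add, map_sub, map_smul, map_zero, LinearMap.add_apply, LinearMap.sub_apply, LinearMap.smul_apply,
      LinearMap.zero_apply, smul_eq_mul, hm.altf x, hm.altf y, ← hd, hyx, hpw0, hpw1, polar_comm _ e₁ e₀]
      at g1x g1y g2x g2y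
    have h3 : 2 * N * (-2 * d * (a₂ + t) * h₀ + 2 * d * h₁ * a₁) +
        (s - 1) * (t * pw v + h₁ + 2 * d * h₀ * (a₁ + s * (a₂ + t)) + 2 * d * h₁ * (a₂ + t) * N) = 0 := by
      refine mul_left_cancel₀ hxy ?_
      linear_combination g1x - g2x + N * g2y
    have h4 : -(s + 1) * (-2 * d * (a₂ + t) * h₀ + 2 * d * h₁ * a₁) -
        2 * (t * pw v + h₁ + 2 * d * h₀ * (a₁ + s * (a₂ + t)) + 2 * d * h₁ * (a₂ + t) * N) = 0 := by
      refine mul_left_cancel₀ hxy ?_
      linear_combination g1y - g2x - (s + 1) * g2y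
    set cd := -2 * d * (a₂ + t) * h₀ + 2 * d * h₁ * a₁ with hcd
    set cc := t * pw v + h₁ + 2 * d * h₀ * (a₁ + s * (a₂ + t)) + 2 * d * h₁ * (a₂ + t) * N with hcc
    have hD : 1 - (s * s - 4 * N) ≠ 0 := sub_ne_zero.2 hirr.symm
    have hcd0 : cd = 0 := (mul_eq_zero.1 (show (1 - (s * s - 4 * N)) * cd = 0 by
      linear_combination 2 * h3 + (s - 1) * h4)).resolve_left hD
    have hcc0 : cc = 0 := (mul_eq_zero.1 (show (1 - (s * s - 4 * N)) * cc = 0 by
      linear_combination -(s + 1) * h3 - 2 * N * h4)).resolve_left hD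
    have hca : h₀ * (1 + 2 * d * a₀ + 2 * d * s * a₁) + 2 * d * h₁ * a₁ * N = 0 := by
      refine mul_left_cancel₀ hxy ?_
      linear_combination g2x + d * (N * hcd0 - hcc0)
    have hh₀ : h₀ = 0 := (mul_eq_zero.1 (show h₀ * (2 * d * N * t - 1) = 0 by
      rw [hcd] at hcd0
      linear_combination hca - N * hcd0 + 2 * h₀ * hrel)).resolve_right (sub_ne_zero.2 htk)
    have hcb : h₀ * (-(2 * d * a₁)) + 2 * d * h₁ * a₀ = 0 := by
      refine mul_left_cancel₀ hxy ?_
      linear_combination g2y + d * (-hcc0 - (s + 1) * hcd0)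
    have h2d : 2 * d ≠ 0 := mul_ne_zero hm.two hxy
    have hh₁ : h₁ = 0 := by
      rw [hh₀, zero_mul, zero_add] at hcb
      rw [hcd, hh₀, mul_zero, zero_add] at hcd0
      rcases h01 with h | h
      · exact (mul_eq_zero.1 ((mul_eq_zero.1 hcb).resolve_right h)).resolve_left h2d
      · exact (mul_eq_zero.1 ((mul_eq_zero.1 hcd0).resolve_right h)).resolve_left h2d
    rw [hcc, hh₀, hh₁] at hcc0
    refine ⟨by rw [polar_comm]; exact hh₀, by rw [polar_comm]; exact hh₁, ?_⟩
    exact (mul_eq_zero.1 (show t * pw v = 0 by linear_combination hcc0)).resolve_left ht0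
  -- dimensions
  set Φ : (Fin b → F) →ₗ[F] F × F × F :=
    (polarBilin qh e₀).prod ((polarBilin qh e₁).prod (polarBilin qh w)) with hΦ
  have hΦ' : ∀ v, Φ v = (polar qh e₀ v, polar qh e₁ v, polar qh w v) := fun v => rfl
  have hΦker : finrank F (LinearMap.ker Φ) + 3 ≤ b := by
    have hsurj : LinearMap.range Φ = ⊤ := by
      obtain ⟨z, hz0, hz⟩ := exists_polar_one hm.ndh hwE
      obtain ⟨q, hq0, hq⟩ := exists_polar_one hm.ndh (show e₁ ∉ F ∙ e₀ from fun hmem => by
        obtain ⟨r, hr⟩ := Submodule.mem_span_singleton.1 hmem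
        have := (LinearIndependent.pair_iff.1 hind r (-1) (by rw [hr, neg_one_smul, add_neg_cancel])).2
        exact one_ne_zero (neg_eq_zero.1 this))
      obtain ⟨o, -, ho⟩ := exists_polar_one hm.ndh (W := ⊥) (show e₀ ∉ (⊥ : Submodule F (Fin b → F)) by
        simpa using hind.ne_zero 0)
      have e1 : Φ z = (0, 0, 1) := by
        rw [hΦ', polar_comm _ e₀, polar_comm _ e₁, polar_comm _ w, hz, hz0 e₀ (Submodule.subset_span (by simp)),
          hz0 e₁ (Submodule.subset_span (by simp))]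
      have e2 : Φ q = (0, 1, polar qh w q) := by
        rw [hΦ', polar_comm _ e₀, polar_comm _ e₁, hq, hq0 e₀ (Submodule.mem_span_singleton_self e₀)]
      have e3 : Φ o = (1, polar qh e₁ o, polar qh w o) := by rw [hΦ', polar_comm _ e₀, ho]
      refine top_unique fun ⟨p1, p2, p3⟩ _ => ?_
      refine ⟨p1 • o + (p2 - p1 * polar qh e₁ o) • q +
        (p3 - p1 * polar qh w o - (p2 - p1 * polar qh e₁ o) * polar qh w q) • z, ?_⟩
      simp only [map_add, map_smul, e1, e2, e3, Prod.smul_mk, Prod.mk_add_mk, smul_eq_mul, Prod.mk.injEq]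
      exact ⟨by ring, by ring, by ring⟩
    have h1 := Φ.finrank_range_add_finrank_ker
    rw [hsurj, finrank_top, finrank_prod, finrank_prod, finrank_self, finrank_fin_fun] at h1
    omega
  have hbig : ∀ X Y : Matrix (Fin a) (Fin b) F,
      (∀ v, ct a qh v X = 0 → ct a qh v Y = 0 → v ∈ LinearMap.ker Φ) →
        ∃ v, ct a qh v X = 0 ∧ ct a qh v Y ≠ 0 := fun X Y hXY => by
    by_contra! hall
    have hle : LinearMap.ker ((ct a qh).flip X) ≤ LinearMap.ker Φ := fun v hv =>
      hXY v hv (hall v hv)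
    have h1 := Submodule.finrank_mono hle
    have h2 := ((ct a qh).flip X).finrank_range_add_finrank_ker
    have h3 := Submodule.finrank_le (LinearMap.range ((ct a qh).flip X))
    rw [finrank_fin_fun] at h2 h3
    omega
  have hker : ∀ v, ct a qh v W₁ = 0 → ct a qh v W₂ = 0 → v ∈ LinearMap.ker Φ := fun v g1 g2 => by
    obtain ⟨q1, q2, q3⟩ := hsmall v g1 g2
    rw [LinearMap.mem_ker, hΦ', q1, q2, q3]
    rfl
  exact hm.start_of_zeros hM hb hnp ha h' (hbig W₂ W₁ fun v g2 g1 => hker v g1 g2) (hbig W₁ W₂ hker)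

/-- A plane whose pencil has no zero gives a transvection. -/
theorem start_of_skew (hM : ContainsTensor M) (hb : 4 ≤ b) (hnp : NoPlane qh) (ha : a = 2) {Z₁ Z₂ : Matrix (Fin a) (Fin b) F}
    (h : PlaneInv M Z₁ Z₂) {x y : Fin a → F} (hxy : f x y ≠ 0) {s N : F} (hirr : s * s - 4 * N ≠ 1)
    (hno : ∀ l : F, N - l * s + l * l ≠ 0)
    {e₀ e₁ : Fin b → F} (hind : LinearIndependent F ![e₀, e₁])
    (hZ₂ : ∀ v, ct a qh v Z₂ = polar qh v e₀ • x + polar qh v e₁ • y)
    (hZ₁ : ∀ v, ct a qh v Z₁ = (-N * polar qh v e₁) • x + (polar qh v e₀ + s * polar qh v e₁) • y) :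
    Start hm.altB M qh := by
  have hN : N ≠ 0 := by simpa using hno 0
  by_cases hiso : ∃ c₀ c₁ : F, qh (c₀ • e₀ + c₁ • e₁) = 0 ∧
      (polar qh (c₀ • e₀ + c₁ • e₁) e₀ ≠ 0 ∨ polar qh (c₀ • e₀ + c₁ • e₁) e₁ ≠ 0)
  · -- make the first vector singular
    obtain ⟨c₀, c₁, hq, hne⟩ := hiso
    set z := c₀ • e₀ + c₁ • e₁ with hz
    set p := N * c₀ - c₁ * s with hp
    have hD' : N * (c₀ * c₀) - c₀ * c₁ * s + c₁ * c₁ ≠ 0 := fun e => by
      rcases eq_or_ne c₀ 0 with h0 | h0
      · rw [h0] at e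
        have h1 : c₁ = 0 := by simpa using e
        rw [hz, h0, h1, zero_smul, zero_smul, add_zero] at hne
        simp [polar_zero_left] at hne
      · refine hno (c₁ / c₀) ?_
        field_simp
        linear_combination e
    set D := N * (N * (c₀ * c₀) - c₀ * c₁ * s + c₁ * c₁) with hD
    have hD0 : D ≠ 0 := mul_ne_zero hN hD'
    have hDp : D = p * (p + c₁ * s) + c₁ * c₁ * N := by rw [hD, hp]; ring
    have hfD : f (p • x + c₁ • y) ((-(c₁ * N)) • x + (p + c₁ * s) • y) = f x y * D := by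
      simp only [map_add, map_smul, LinearMap.add_apply, LinearMap.smul_apply, smul_eq_mul, hm.altf x, hm.altf y,
        hm.fswap x y, hDp]
      ring
    have hzz : c₀ * polar qh z e₀ + c₁ * polar qh z e₁ = 0 := by
      have e : polar qh z z = 0 := by rw [polar_self', hq, mul_zero]
      conv_lhs at e => arg 3; rw [hz]
      rwa [polar_add_right, polar_smul_r', polar_smul_r'] at e
    have hne' : p * polar qh z e₁ - c₁ * polar qh z e₀ ≠ 0 := fun e => by
      have e1 : polar qh z e₁ = 0 := (mul_eq_zero.1 (show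
        (N * (c₀ * c₀) - c₀ * c₁ * s + c₁ * c₁) * polar qh z e₁ = 0 by
          rw [hp] at e
          linear_combination c₀ * e + c₁ * hzz)).resolve_left hD'
      rw [e1, mul_zero, zero_sub, neg_eq_zero] at e
      rw [e1, mul_zero, add_zero] at hzz
      have e0 : polar qh z e₀ = 0 := by
        rcases mul_eq_zero.1 e with h1 | h1
        · rcases mul_eq_zero.1 hzz with h0 | h0
          · exact absurd (by rw [h0, h1]; ring) hD'
          · exact h0
        · exact h1
      exact hne.elim (· e0) (· e1)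
    refine hm.start_of_skew₀ hM hb hnp ha h (x := p • x + c₁ • y) (y := (-(c₁ * N)) • x + (p + c₁ * s) • y)
      (by rw [hfD]; exact mul_ne_zero hxy hD0) hirr
      (e₀ := (N / D) • z) (e₁ := D⁻¹ • (p • e₁ - c₁ • e₀)) ?_ ?_ (Or.inl ?_) (fun v => ?_) (fun v => ?_)
    · refine LinearIndependent.pair_iff.2 fun u r e => ?_
      obtain ⟨h3, h4⟩ := LinearIndependent.pair_iff.1 hind (u * (N / D) * c₀ - r * D⁻¹ * c₁)
        (u * (N / D) * c₁ + r * D⁻¹ * p) (by rw [← e, hz]; module)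
      field_simp at h3 h4
      have hr : r = 0 := (mul_eq_zero.1 (show r * D = 0 by rw [hDp, hp]; linear_combination N * c₀ * h4 - N * c₁ * h3)).resolve_right hD0
      have hu : u = 0 := (mul_eq_zero.1 (show u * D = 0 by rw [hDp, hp] ; linear_combination p * h3 + c₁ * h4)).resolve_right hD0
      exact ⟨hu, hr⟩
    · right
      rw [polar_smul_l', polar_smul_r', polar_sub_right, polar_smul_r', polar_smul_r']
      exact mul_ne_zero (div_ne_zero hN hD0) (mul_ne_zero (inv_ne_zero hD0) hne')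
    · rw [polar_smul_l', polar_smul_r', polar_self', hq, mul_zero, mul_zero, mul_zero]
    · rw [hZ₂, hz, polar_smul_r', polar_smul_r', polar_add_right, polar_sub_right, polar_smul_r', polar_smul_r',
        polar_smul_r', polar_smul_r']
      match_scalars <;> field_simp <;> rw [hDp, hp] <;> ring
    · rw [hZ₁, hz, polar_smul_r', polar_smul_r', polar_add_right, polar_sub_right, polar_smul_r', polar_smul_r',
        polar_smul_r', polar_smul_r']
      match_scalars <;> field_simp <;> rw [hDp, hp] <;> ring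
  push Not at hiso
  by_cases h01 : polar qh e₀ e₀ ≠ 0 ∨ polar qh e₀ e₁ ≠ 0
  · exact hm.start_of_skew₀ hM hb hnp ha h hxy hirr hind h01 (Or.inr hiso) hZ₂ hZ₁
  push_neg at h01
  obtain ⟨h00, h1'⟩ := h01
  -- change the basis of the symplectic plane
  set y' := s • y - N • x with hy'
  have hfy : f y y' ≠ 0 := by
    rw [hy', map_sub, map_smul, map_smul, hm.altf y, hm.fswap x y, smul_zero, zero_sub, smul_eq_mul, mul_neg, neg_neg]
    exact mul_ne_zero hN hxy
  have hrel : N * polar qh e₁ e₁ ≠ 0 := fun e => by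
    have h1 := h.1
    rw [hm.ext_ct (X := Z₁) (Y := vecMulVec y e₀ + vecMulVec y' e₁) fun v => by
        rw [hZ₁, hy', map_add, ct_vecMulVec, ct_vecMulVec]
        module] at h1
    simp only [map_add, LinearMap.add_apply, hm.left_eq2, hZ₂, hy', map_sub, map_smul, LinearMap.sub_apply,
      LinearMap.smul_apply, smul_eq_mul, hm.altf x, hm.altf y, hm.fswap x y, h00, h1', polar_comm _ e₁ e₀] at h1
    exact one_ne_zero (α := F) (by linear_combination -h1 - f x y * e)
  refine hm.start_of_skew₀ hM hb hnp ha h hfy (x := y) (y := y') hirr (e₀ := e₁ + (s / N) • e₀) (e₁ := (-N⁻¹) • e₀)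
    ?_ ?_ (Or.inr fun c₀ c₁ hc => ?_) (fun v => ?_) (fun v => ?_)
  · refine LinearIndependent.pair_iff.2 fun p r e => ?_
    obtain ⟨h3, h4⟩ := LinearIndependent.pair_iff.1 hind (p * (s / N) - r * N⁻¹) p (by rw [← e]; module)
    subst h4
    simp [hN] at h3
    exact ⟨rfl, h3⟩
  · left
    simp only [polar_add_left, polar_add_right, polar_smul_l', polar_smul_r', h00, h1', polar_comm _ e₁ e₀]
    simpa using right_ne_zero_of_mul hrel
  · have hcomb : c₀ • (e₁ + (s / N) • e₀) + c₁ • (-N⁻¹) • e₀ = (c₀ * (s / N) - c₁ * N⁻¹) • e₀ + c₀ • e₁ := by module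
    rw [hcomb] at hc ⊢
    obtain ⟨g0, g1⟩ := hiso _ _ hc
    exact ⟨by rw [polar_add_right, polar_smul_r', g1, g0, mul_zero, add_zero],
      by rw [polar_smul_r', g0, mul_zero]⟩
  · rw [hZ₂, polar_add_right, polar_smul_r', polar_smul_r', hy']
    match_scalars <;> field_simp <;> ring
  · rw [hZ₁, polar_add_right, polar_smul_r', polar_smul_r', hy']
    match_scalars <;> field_simp <;> ring

end Model

end CfsgLib.Classical.TensorMaxSp
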