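import Cfsg.Agent.Lib.Classical.TensorMaxSp.PlaneBasic
import Cfsg.Agent.Lib.Classical.TensorMaxO.Start

/-!
# A plane whose pencil of pairings has zeros in two directions
-/

set_option autoImplicit false
set_option linter.unusedSectionVars false

namespace CfsgLib.Classical.TensorMaxSp

open Matrix Module QuadraticMap CfsgLib.Orth CfsgLib.Classical
open CfsgLib.Classical.TensorMax (IsTensor)
open CfsgLib.Classical.TensorMaxO (ct ct_apply ct_vecMulVec NoPlane)

variable {F : Type*} [Field F] [Fintype F] {a b : ℕ}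
  {B : Matrix (Fin a) (Fin b) F →ₗ[F] Matrix (Fin a) (Fin b) F →ₗ[F] F}
  {f : (Fin a → F) →ₗ[F] (Fin a → F) →ₗ[F] F} {qh : QuadraticForm F (Fin b → F)} {M : Subgroup (isomGroup B)}

namespace Model

variable (hm : Model B f qh)
include hm

/-- If both pairings of the plane vanish separately somewhere, some anisotropic vector makes them dependent. -/
theorem start_of_zeros (hM : ContainsTensor M) (hb : 4 ≤ b) (hnp : NoPlane qh) (ha : a = 2) {Z₁ Z₂ : Matrix (Fin a) (Fin b) F}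
    (h : PlaneInv M Z₁ Z₂) (hv₁ : ∃ v, ct a qh v Z₂ = 0 ∧ ct a qh v Z₁ ≠ 0)
    (hv₂ : ∃ v, ct a qh v Z₁ = 0 ∧ ct a qh v Z₂ ≠ 0) : Start hm.altB M qh := by
  have hq : (∃ s : F, s ≠ 0 ∧ s * s ≠ 1) ∨ 4 ≤ b := Or.inr (by omega)
  set L₁ : (Fin b → F) →ₗ[F] (Fin a → F) := (ct a qh).flip Z₁ with hL₁
  set L₂ : (Fin b → F) →ₗ[F] (Fin a → F) := (ct a qh).flip Z₂ with hL₂
  have hL₁' : ∀ v, L₁ v = ct a qh v Z₁ := fun v => rfl
  have hL₂' : ∀ v, L₂ v = ct a qh v Z₂ := fun v => rfl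
  simp only [← hL₁', ← hL₂'] at hv₁ hv₂
  obtain ⟨v₁, hv₁0, hv₁ne⟩ := hv₁
  obtain ⟨v₂, hv₂0, hv₂ne⟩ := hv₂
  by_cases hz : ∃ v, qh v ≠ 0 ∧ f (L₁ v) (L₂ v) = 0 ∧ (L₁ v ≠ 0 ∨ L₂ v ≠ 0)
  · obtain ⟨v, hv, hf, hne⟩ := hz
    by_cases h1 : L₁ v = 0
    · exact hm.start_of_fixed hM (by omega) hq ha h (hne.resolve_left (not_not.2 h1)) hv
        (by rw [← hL₁', h1, map_zero]) (hm.altf _) (hne.imp id id)
    · exact hm.start_of_fixed hM (by omega) hq ha h h1 hv (hm.altf _) hf hne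
  push_neg at hz
  exfalso
  -- every vector is a combination of zeros
  set x₀ := L₁ v₁
  set y₀ := L₂ v₂
  have hcomb : ∀ v, ∃ s r : F, f (L₁ (v + s • v₁ + r • v₂)) (L₂ (v + s • v₁ + r • v₂)) = 0 := by
    intro v
    have he : ∀ s r : F, f (L₁ (v + s • v₁ + r • v₂)) (L₂ (v + s • v₁ + r • v₂)) =
        f (L₁ v) (L₂ v) + r * f (L₁ v) y₀ + s * (f x₀ (L₂ v) + r * f x₀ y₀) := fun s r => by
      simp only [map_add, map_smul, hv₁0, hv₂0, smul_zero, add_zero, LinearMap.add_apply, LinearMap.smul_apply,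
        smul_eq_mul]
      ring
    by_cases hr : ∃ r : F, f x₀ (L₂ v) + r * f x₀ y₀ ≠ 0
    · obtain ⟨r, hr⟩ := hr
      exact ⟨-(f (L₁ v) (L₂ v) + r * f (L₁ v) y₀) / (f x₀ (L₂ v) + r * f x₀ y₀), r, by
        rw [he, div_mul_cancel₀ _ hr, add_neg_cancel]⟩
    push_neg at hr
    have hxy : f x₀ (L₂ v) = 0 := by simpa using hr 0
    have hxy0 : f x₀ y₀ = 0 := by simpa [hxy] using hr 1
    by_cases h3 : f (L₁ v) y₀ = 0
    · refine ⟨0, 0, ?_⟩
      rw [zero_smul, zero_smul, add_zero, add_zero]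
      obtain ⟨n, hn⟩ := alt_exists_partner hm.ndf.1 hv₁ne
      have ey : y₀ = f y₀ n • x₀ := by
        conv_lhs => rw [hm.coords2 ha hn y₀, hxy0, zero_smul, zero_add]
      have hy₀ : f y₀ n ≠ 0 := fun e => hv₂ne (by rw [e, zero_smul] at ey; exact ey)
      rw [ey, map_smul, smul_eq_mul] at h3
      have h4 : f x₀ (L₁ v) = 0 := by rw [hm.fswap, (mul_eq_zero.1 h3).resolve_left hy₀, neg_zero]
      rw [hm.coords2 ha hn (L₁ v), hm.coords2 ha hn (L₂ v), hxy, h4]
      simp [hm.altf x₀]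
    · exact ⟨0, -f (L₁ v) (L₂ v) / f (L₁ v) y₀, by rw [he, zero_mul, add_zero, div_mul_cancel₀ _ h3, add_neg_cancel]⟩
  -- the common kernel
  set R := LinearMap.ker L₁ ⊓ LinearMap.ker L₂ with hR
  have hRb : 1 ≤ finrank F R := by
    by_contra hlt
    have hbot : R = ⊥ := Submodule.finrank_eq_zero.1 (by omega)
    have h1 := Submodule.finrank_sup_add_finrank_inf_eq (LinearMap.ker L₁) (LinearMap.ker L₂)
    have h2 := Submodule.finrank_le (LinearMap.ker L₁ ⊔ LinearMap.ker L₂)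
    have h3 := L₁.finrank_range_add_finrank_ker
    have h4 := L₂.finrank_range_add_finrank_ker
    have h5 := Submodule.finrank_le (LinearMap.range L₁)
    have h6 := Submodule.finrank_le (LinearMap.range L₂)
    rw [finrank_fin_fun] at h2 h3 h4 h5 h6
    rw [← hR, hbot, finrank_bot] at h1
    -- then the first kernel is a plane with an anisotropic vector
    obtain ⟨u, hu, hu0⟩ := Submodule.exists_mem_ne_zero_of_ne_bot (p := LinearMap.ker L₁) fun e => by
      rw [e, finrank_bot] at h3; omega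
    obtain ⟨v, hv, hqv⟩ : ∃ v ∈ LinearMap.ker L₁, qh v ≠ 0 := by
      by_contra! hall
      have hle : LinearMap.ker L₁ ≤ F ∙ u := fun v hv => hnp (by omega) u v hu0 (hall u hu) (hall v hv) (by
        have e := hall _ (add_mem hu hv)
        rwa [quad_add', hall u hu, hall v hv, zero_add, zero_add] at e)
      have := Submodule.finrank_mono hle
      rw [finrank_span_singleton hu0] at this
      omega
    obtain ⟨g1, g2⟩ := hz v hqv (by rw [show L₁ v = 0 from hv, map_zero, LinearMap.zero_apply])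
    have hvR : v ∈ R := ⟨hv, g2⟩
    rw [hbot, Submodule.mem_bot] at hvR
    exact hqv (by rw [hvR, QuadraticMap.map_zero])
  have key : ∀ z, f (L₁ z) (L₂ z) = 0 → (L₁ z ≠ 0 ∨ L₂ z ≠ 0) → ∀ r ∈ R, polar qh z r = 0 ∧ qh r = 0 := by
    intro z hfz hne r hr
    have hsing : ∀ t : F, qh (z + t • r) = 0 := fun t => by
      have e1 : L₁ (z + t • r) = L₁ z := by rw [map_add, map_smul, show L₁ r = 0 from hr.1, smul_zero, add_zero]
      have e2 : L₂ (z + t • r) = L₂ z := by rw [map_add, map_smul, show L₂ r = 0 from hr.2, smul_zero, add_zero]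
      by_contra hq'
      obtain ⟨g1, g2⟩ := hz _ hq' (by rw [e1, e2, hfz])
      rw [e1] at g1
      rw [e2] at g2
      exact hne.elim (· g1) (· g2)
    have e0 := hsing 0
    have e1 := hsing 1
    have e2 := hsing (-1)
    rw [quad_add', quad_smul', polar_smul_r'] at e0 e1 e2
    constructor
    · exact mul_left_cancel₀ hm.two (by linear_combination e1 - e2)
    · exact mul_left_cancel₀ hm.two (by linear_combination e1 + e2 - 2 * e0)
  have hz₁ : f (L₁ v₁) (L₂ v₁) = 0 := by rw [hv₁0, map_zero]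
  have hz₂ : f (L₁ v₂) (L₂ v₂) = 0 := by rw [hv₂0, map_zero, LinearMap.zero_apply]
  have hperp : ∀ z, f (L₁ z) (L₂ z) = 0 → ∀ r ∈ R, polar qh z r = 0 := fun z hfz r hr => by
    by_cases hne : L₁ z ≠ 0 ∨ L₂ z ≠ 0
    · exact (key z hfz hne r hr).1
    push_neg at hne
    have hzR : z ∈ R := ⟨hne.1, hne.2⟩
    have e1 := (key v₁ hz₁ (Or.inl hv₁ne) _ (R.add_mem hzR hr)).2
    rw [quad_add', (key v₁ hz₁ (Or.inl hv₁ne) z hzR).2, (key v₁ hz₁ (Or.inl hv₁ne) r hr).2] at e1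
    simpa using e1
  obtain ⟨r, hr, hr0⟩ := Submodule.exists_mem_ne_zero_of_ne_bot (p := R) fun e => by rw [e, finrank_bot] at hRb; omega
  refine hr0 (hm.ndh.2 r fun v => ?_)
  obtain ⟨s, t, hst⟩ := hcomb v
  have e := hperp _ hst r hr
  rwa [polar_add_left, polar_add_left, polar_smul_l', polar_smul_l', hperp v₁ hz₁ r hr, hperp v₂ hz₂ r hr,
    mul_zero, mul_zero, add_zero, add_zero] at e

end Model

end CfsgLib.Classical.TensorMaxSp
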